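import Groth.Agent.H18.STL.Restrict2
import Groth.Agent.H67.ParaMono
import Groth.Prelude.Def_LCI2

/-!
# Relative ampleness: tensor powers and tensor products (helper18)
-/

set_option autoImplicit false
universe u
open CategoryTheory CategoryTheory.Limits AlgebraicGeometry TopologicalSpace Opposite TensorProduct

namespace Groth.Agent.H18.STL

open Groth.Agent.H18 Groth.Agent.H18.PUP

variable {X : Scheme.{u}}

/-- a cover with bases of an invertible module -/
theorem exists_cover_cocycle {L : X.Modules} (hL : PicF.IsInvertible L) :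
    ∃ (𝔘 : Cover X) (c : 𝔘.Cocycle) (e : ∀ i, Γ(L, 𝔘.W i)), HasCocycle 𝔘 c L e := by
  obtain ⟨𝔄⟩ := nonempty_atlas hL
  exact ⟨⟨𝔄.ι, 𝔄.W, 𝔄.cov⟩, _, 𝔄.e, hasCocycle_cocycleOf ⟨𝔄.ι, 𝔄.W, 𝔄.cov⟩ 𝔄.basis⟩

/-- restriction to an open commutes with tensor powers, as far as ampleness is concerned -/
theorem isAmple_restrict_tensorPow_iff {L : X.Modules} (hL : PicF.IsInvertible L) (U : X.Opens)
    (n : ℕ) :
    CohB1.IsAmple ((CohB1.tensorPow L n).restrict U.ι) ↔
      CohB1.IsAmple (CohB1.tensorPow (L.restrict U.ι) n) := by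
  obtain ⟨𝔘, c, e, h⟩ := exists_cover_cocycle hL
  have w₁ := (h.lpow n).restrict U
  have w₂ := (h.restrict U).lpow n
  rw [Cover.Cocycle.restrict_pow] at w₁
  exact ⟨isAmple_of_hasCocycle w₁ w₂, isAmple_of_hasCocycle w₂ w₁⟩

/-- restriction to an open commutes with tensor products, as far as ampleness is concerned -/
theorem isAmple_restrict_tensorMod_iff {L L' : X.Modules} (hL : PicF.IsInvertible L)
    (hL' : PicF.IsInvertible L') (U : X.Opens) :
    CohB1.IsAmple ((CohB1.tensorMod L L').restrict U.ι) ↔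
      CohB1.IsAmple (CohB1.tensorMod (L.restrict U.ι) (L'.restrict U.ι)) := by
  obtain ⟨𝔘, e, e', he, he'⟩ := exists_common_cover hL hL'
  have h := hasCocycle_cocycleOf 𝔘 he
  have h' := hasCocycle_cocycleOf 𝔘 he'
  have w₁ := (h.tmul h').restrict U
  have w₂ := (h.restrict U).tmul (h'.restrict U)
  rw [Cover.Cocycle.restrict_mul] at w₁
  exact ⟨isAmple_of_hasCocycle w₁ w₂, isAmple_of_hasCocycle w₂ w₁⟩

variable {Y : Scheme.{u}}

/-- a relatively ample module is invertible -/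
theorem isInvertible_of_isRelAmple (f : X ⟶ Y) {L : X.Modules} (hL : RelAmple.IsRelAmple f L) :
    PicF.IsInvertible L := by
  refine isInvertible_of_restrict (fun x => ?_)
  obtain ⟨V, hVaff, hxV, -⟩ := Opens.isBasis_iff_nbhd.1 Y.isBasis_affineOpens
    (show f x ∈ (⊤ : Y.Opens) from trivial)
  exact ⟨f ⁻¹ᵁ V, hxV, (hL.2 ⟨V, hVaff⟩).1⟩

/-- EGA II 4.6.9 (i) -/
theorem isRelAmple_tensorPow_iff (f : X ⟶ Y) {L : X.Modules} (hL : PicF.IsInvertible L) {n : ℕ}
    (hn : 0 < n) :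
    RelAmple.IsRelAmple f L ↔ RelAmple.IsRelAmple f (CohB1.tensorPow L n) := by
  have key : ∀ V : Y.affineOpens, CohB1.IsAmple (L.restrict (f ⁻¹ᵁ V.1).ι) ↔
      CohB1.IsAmple ((CohB1.tensorPow L n).restrict (f ⁻¹ᵁ V.1).ι) := by
    intro V
    rw [isAmple_restrict_tensorPow_iff hL]
    exact isAmple_tensorPow_iff (Groth.Agent.H67.ParaMono.isInvertible_restrict _ L hL) hn
  constructor
  · rintro ⟨hqc, h⟩
    exact ⟨hqc, fun V => (key V).1 (h V)⟩
  · rintro ⟨hqc, h⟩
    exact ⟨hqc, fun V => (key V).2 (h V)⟩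

/-- EGA II 4.6.10 -/
theorem isRelAmple_tensorMod (f : X ⟶ Y) {L L' : X.Modules} (hL : RelAmple.IsRelAmple f L)
    (hL' : RelAmple.IsRelAmple f L') : RelAmple.IsRelAmple f (CohB1.tensorMod L L') := by
  have hLi := isInvertible_of_isRelAmple f hL
  have hLi' := isInvertible_of_isRelAmple f hL'
  refine ⟨hL.1, fun V => ?_⟩
  rw [isAmple_restrict_tensorMod_iff hLi hLi']
  have h1 := hL.2 V
  have h2 := hL'.2 V
  refine isAmple_tensorMod_of_generated h1 h2.1 (fun x => ?_)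
  obtain ⟨k, s, hxs, -⟩ := h2.2.2 x
  exact ⟨k, s, hxs⟩

end Groth.Agent.H18.STL
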