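import Groth.Agent.H18.STL.Pow
import Groth.Agent.H67.GenLocusAffine

/-!
# The locus where a section generates, in terms of a local generator (helper18)
-/

set_option autoImplicit false
universe u
open CategoryTheory CategoryTheory.Limits AlgebraicGeometry TopologicalSpace Opposite TensorProduct

namespace Groth.Agent.H18.STL

open Groth.Agent.H18 Groth.Agent.H18.PUP

variable {X : Scheme.{u}}

theorem app_eq_smul_val {L : X.Modules} (s : Coh.structureModule X ⟶ L) (V : X.Opens)
    (r : Γ(X, V)) :
    s.app V (show Γ(Coh.structureModule X, V) from r) = r • SecTwist.val s V := by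
  have h2 : s.app V (r • (oneSec X V)) = r • s.app V (oneSec X V) :=
    Scheme.Modules.Hom.app_smul s r _
  have h3 : r • (oneSec X V) = (show Γ(Coh.structureModule X, V) from r) := mul_one r
  rw [h3] at h2
  exact h2

theorem isUnit_res_iff_le_basicOpen {U V : X.Opens} (hV : V ≤ U) (f : Γ(X, U)) :
    IsUnit (rres X hV f) ↔ V ≤ X.basicOpen f := by
  constructor
  · intro hu
    have h1 := X.basicOpen_of_isUnit hu
    rw [rres, Scheme.basicOpen_res] at h1
    exact inf_eq_left.1 h1
  · intro hle
    have h1 := RingedSpace.isUnit_res_basicOpen X.toRingedSpace f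
    have h2 : rres X hV f = X.presheaf.map (homOfLE hle).op
        (X.presheaf.map (homOfLE (X.basicOpen_le f)).op f) := by
      rw [rres, ← ConcreteCategory.comp_apply, ← Functor.map_comp]
      rfl
    rw [h2]
    exact h1.map _

section

variable {L : X.Modules} (s : Coh.structureModule X ⟶ L) {U : X.Opens} {e : Γ(L, U)}
  (he : IsBasisOn L U e) (f : Γ(X, U)) (h : SecTwist.val s U = f • e)

include he h in
theorem bijective_app_iff_le_basicOpen {V : X.Opens} (hV : V ≤ U) :
    Function.Bijective (s.app V) ↔ V ≤ X.basicOpen f := by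
  rw [← isUnit_res_iff_le_basicOpen hV f]
  set g := rres X hV f with hg
  have hval : SecTwist.val s V = g • mres L hV e := by
    rw [← mres_val s hV, h, mres_smul]
  have hfun : ∀ r : Γ(X, V), s.app V (show Γ(Coh.structureModule X, V) from r) =
      (r * g) • mres L hV e := by
    intro r
    have h0 := app_eq_smul_val s V r
    rw [hval] at h0
    exact h0.trans (mul_smul r g _).symm
  have hb := he V hV
  constructor
  · intro hbij
    obtain ⟨a, ha⟩ := hbij.2 (mres L hV e)
    have h1 : ((show Γ(X, V) from a) * g) • mres L hV e = (1 : Γ(X, V)) • mres L hV e := by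
      rw [← hfun, one_smul]; exact ha
    have h2 : (show Γ(X, V) from a) * g = 1 := hb.1 h1
    exact IsUnit.of_mul_eq_one _ (by rw [mul_comm]; exact h2)
  · rintro ⟨u, hu⟩
    constructor
    · intro a b hab
      have h1 : ((show Γ(X, V) from a) * g) • mres L hV e =
          ((show Γ(X, V) from b) * g) • mres L hV e := by
        rw [← hfun, ← hfun]; exact hab
      have h2 := hb.1 h1
      rw [← hu] at h2
      exact u.isUnit.mul_left_injective h2
    · intro y
      obtain ⟨c, hc⟩ := hb.2 y
      let d : Γ(X, V) := c * ↑u⁻¹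
      refine ⟨(show Γ(Coh.structureModule X, V) from d), ?_⟩
      have hd : d * g = c := by
        rw [← hu, mul_assoc, Units.inv_mul, mul_one]
      rw [hfun, hd]
      exact hc

include he h in
/-- on an open where `L` has a basis `e` and `s = f • e`, the locus where `s` generates is the
basic open of `f` -/
theorem genLocus_inf_eq_basicOpen : CohB1.genLocus L s ⊓ U = X.basicOpen f := by
  have hBU : X.basicOpen f ≤ U := X.basicOpen_le f
  apply le_antisymm
  · rintro x ⟨hxG, hxU⟩
    have hxG' : x ∈ sSup {W : X.Opens | IsIso ((Scheme.Modules.restrictFunctor W.ι).map s)} := hxG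
    rw [Opens.mem_sSup] at hxG'
    obtain ⟨W, hW, hxW⟩ := hxG'
    have hW' := (Groth.Agent.H67.GenLocusAffine.isIso_restrict_iff s W).1 hW (W ⊓ U) inf_le_left
    exact (bijective_app_iff_le_basicOpen s he f h (inf_le_right : W ⊓ U ≤ U)).1 hW' ⟨hxW, hxU⟩
  · refine le_inf (le_sSup ?_) hBU
    show IsIso ((Scheme.Modules.restrictFunctor (X.basicOpen f).ι).map s)
    rw [Groth.Agent.H67.GenLocusAffine.isIso_restrict_iff]
    intro W hW
    exact (bijective_app_iff_le_basicOpen s he f h (hW.trans hBU)).2 hW

include he h in
theorem basicOpen_le_genLocus : X.basicOpen f ≤ CohB1.genLocus L s := by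
  rw [← genLocus_inf_eq_basicOpen s he f h]
  exact inf_le_left

end

end Groth.Agent.H18.STL
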