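import Groth.Agent.H18.STL.Weight
import Groth.Agent.H18.STL.Extend2
import Groth.Agent.H67.ParaExt2
import Groth.Agent.S15745
import Mathlib.Algebra.Category.ModuleCat.Sheaf.LocallyFree
import Mathlib.AlgebraicGeometry.Morphisms.QuasiSeparated

/-!
# Ample invertible modules: the opens `X_s` form a basis (helper18)
-/

set_option autoImplicit false
universe u
open CategoryTheory CategoryTheory.Limits AlgebraicGeometry TopologicalSpace Opposite TensorProduct

namespace Groth.Agent.H18.STL

open Groth.Agent.H18 Groth.Agent.H18.PUP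

variable {X : Scheme.{u}}

theorem isQuasicoherent_structureModule (X : Scheme.{u}) :
    (Coh.structureModule X).IsQuasicoherent := by
  have e : SheafOfModules.free (R := X.ringCatSheaf) PUnit.{u + 1} ≅
      SheafOfModules.unit X.ringCatSheaf := coproductUniqueIso _
  exact (SheafOfModules.isQuasicoherent X.ringCatSheaf).prop_of_iso e inferInstance

/-- intersecting an affine open with `X_s` gives an affine open -/
theorem isAffineOpen_genLocus_inf {L : X.Modules} (hL : PicF.IsInvertible L)
    (s : Coh.structureModule X ⟶ L) {A : X.Opens} (hA : IsAffineOpen A) :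
    IsAffineOpen (CohB1.genLocus L s ⊓ A) := by
  have haff := Groth.Agent.H67.GenLocusAffine.isAffineHom_genLocus _ hL s
  have h1 : IsAffineOpen ((CohB1.genLocus _ s).ι ⁻¹ᵁ A) := hA.preimage _
  have h2 := h1.image_of_isOpenImmersion (CohB1.genLocus _ s).ι
  rwa [Scheme.Hom.image_preimage_eq_opensRange_inf, Scheme.Opens.opensRange_ι] at h2

theorem isAffineOpen_genLocus_of_le {L : X.Modules} (hL : PicF.IsInvertible L)
    (s : Coh.structureModule X ⟶ L) {A : X.Opens} (hA : IsAffineOpen A)
    (hle : CohB1.genLocus L s ≤ A) : IsAffineOpen (CohB1.genLocus L s) := by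
  have := isAffineOpen_genLocus_inf hL s hA
  rwa [inf_eq_left.2 hle] at this

/-- a scheme covered by affine opens of the form `X_s` is quasi-separated -/
theorem quasiSeparatedSpace_of_cover {L : X.Modules} (hL : PicF.IsInvertible L)
    (h : ∀ x : X, ∃ (n : ℕ) (s : Coh.structureModule X ⟶ CohB1.tensorPow L (n + 1)),
      x ∈ CohB1.genLocus _ s ∧ IsAffineOpen (CohB1.genLocus _ s)) :
    QuasiSeparatedSpace X := by
  choose n s hx haff using h
  refine Scheme.quasiSeparatedSpace_of_isOpenCover (fun x => CohB1.genLocus _ (s x)) ?_ haff ?_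
  · apply IsOpenCover.mk
    exact top_le_iff.mp (fun x _ ↦ by simpa using ⟨x, hx x⟩)
  · intro i j
    exact (isAffineOpen_genLocus_inf (isInvertible_tensorPow hL _) (s i) (haff j)).isCompact

/-- the locus of generation of a section which agrees on `X_s` with the twist of a function -/
theorem genLocus_inf_of_twist {L : X.Modules} (hL : PicF.IsInvertible L)
    (s : Coh.structureModule X ⟶ L) (m : ℕ)
    (g : Γ(X, CohB1.genLocus L s))
    (b : Coh.structureModule X ⟶ CohB1.tensorMod (Coh.structureModule X) (CohB1.tensorPow L m))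
    (hb : SecTwist.val b (CohB1.genLocus L s) =
      SecTwist.twist s m (Coh.structureModule X) (CohB1.genLocus L s)
        (show Γ(Coh.structureModule X, CohB1.genLocus L s) from g)) :
    CohB1.genLocus _ b ⊓ CohB1.genLocus L s = X.basicOpen g := by
  have hgle : X.basicOpen g ≤ CohB1.genLocus L s := X.basicOpen_le g
  -- the local computation
  have key : ∀ x ∈ CohB1.genLocus L s, (x ∈ CohB1.genLocus _ b ↔ x ∈ X.basicOpen g) := by
    intro x hxs
    obtain ⟨U₀, e₀, hxU₀, he₀⟩ := exists_basis_of_isInvertible hL x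
    set U := U₀ ⊓ CohB1.genLocus L s with hU
    have hxU : x ∈ U := ⟨hxU₀, hxs⟩
    have hUs : U ≤ CohB1.genLocus L s := inf_le_right
    have he : IsBasisOn L U (mres L inf_le_left e₀) := he₀.mono inf_le_left
    set e := mres L (inf_le_left : U ≤ U₀) e₀ with he_def
    set f := he.coord le_rfl (SecTwist.val s U) with hf_def
    have hf : SecTwist.val s U = f • e := by
      have := he.coord_smul le_rfl (SecTwist.val s U)
      rw [mres_self] at this
      exact this.symm
    have hfU : U ≤ X.basicOpen f := by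
      rw [← genLocus_inf_eq_basicOpen s he f hf]
      exact le_inf hUs le_rfl
    -- the basis of the tensor product
    have hβ := isBasisOn_tmul (isBasisOn_oneSec U) (isBasisOn_lpow he m)
    set gU : Γ(X, U) := rres X hUs g with hgU
    have hval : SecTwist.val b U = (f ^ m * gU) •
        SecTwist.tmul (Coh.structureModule X) (CohB1.tensorPow L m) U (oneSec X U) (lpow L U e m) := by
      rw [← mres_val b hUs, hb, mres_twist, twist_eq_tmul_lpow s U e f hf, ← tmul_smul_left]
      congr 1
      change f ^ m * gU = (f ^ m * gU) * 1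
      rw [mul_one]
    have h1 := genLocus_inf_eq_basicOpen b hβ _ hval
    have hfu : IsUnit f := by
      have := (isUnit_res_iff_le_basicOpen (le_refl U) f).2 hfU
      rwa [rres_self] at this
    have h2 : X.basicOpen (f ^ m * gU) = U ⊓ X.basicOpen g := by
      rw [X.basicOpen_mul, X.basicOpen_of_isUnit (hfu.pow m), hgU, rres, Scheme.basicOpen_res,
        ← inf_assoc, inf_idem]
    constructor
    · intro hx
      have hx' : x ∈ CohB1.genLocus _ b ⊓ U := ⟨hx, hxU⟩
      rw [h1, h2] at hx'
      exact hx'.2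
    · intro hx
      have hx' : x ∈ U ⊓ X.basicOpen g := ⟨hxU, hx⟩
      rw [← h2, ← h1] at hx'
      exact hx'.1
  ext x
  constructor
  · rintro ⟨hxb, hxs⟩
    exact (key x hxs).1 hxb
  · intro hxg
    exact ⟨(key x (hgle hxg)).2 hxg, hgle hxg⟩

/-- EGA II 4.5.2 (a) ⇒ (b'): for an ample `L`, the affine opens of the form `X_b` form a basis -/
theorem exists_genLocus_nhd_of_isAmple {L : X.Modules} (hA : CohB1.IsAmple L) (W : X.Opens)
    (x : X) (hx : x ∈ W) :
    ∃ (k : ℕ) (b : Coh.structureModule X ⟶ CohB1.tensorPow L (k + 1)),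
      x ∈ CohB1.genLocus _ b ∧ CohB1.genLocus _ b ≤ W ∧ IsAffineOpen (CohB1.genLocus _ b) := by
  obtain ⟨hL, hcpt, hcov⟩ := hA
  haveI := hcpt
  haveI : QuasiSeparatedSpace X := quasiSeparatedSpace_of_cover hL hcov
  obtain ⟨n, a, hxa, haff⟩ := hcov x
  have hL' : PicF.IsInvertible (CohB1.tensorPow L (n + 1)) := isInvertible_tensorPow hL _
  obtain ⟨g, hgW, hxg⟩ := haff.exists_basicOpen_le ⟨x, hx⟩ hxa
  haveI := isQuasicoherent_structureModule X
  obtain ⟨m, -, t', ht'⟩ := exists_extension hL' a (Coh.structureModule X)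
    (show Γ(Coh.structureModule X, CohB1.genLocus _ a) from g)
  -- the section `t'` as a morphism
  have hM₁inv : PicF.IsInvertible (CohB1.tensorMod (Coh.structureModule X)
      (CohB1.tensorPow (CohB1.tensorPow L (n + 1)) m)) :=
    isInvertible_tensorMod Groth.Agent.H67.ParaExt.isInvertible_structureModule
      (isInvertible_tensorPow hL' m)
  have hb₁val : SecTwist.val (sectionHom _ t') (CohB1.genLocus _ a) =
      SecTwist.twist a m (Coh.structureModule X) (CohB1.genLocus _ a)
        (show Γ(Coh.structureModule X, CohB1.genLocus _ a) from g) := by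
    rw [val_sectionHom]
    exact ht'
  have h1 := genLocus_inf_of_twist hL' a m g (sectionHom _ t') hb₁val
  -- multiply by `a`
  have h2 : CohB1.genLocus _ (SecTwist.tmulHom (sectionHom _ t') a) = X.basicOpen g := by
    rw [Groth.Agent.S15745.result X _ _ hM₁inv hL' (sectionHom _ t') a, h1]
  -- transfer to a tensor power of `L`
  obtain ⟨𝔄⟩ := nonempty_atlas hL
  have w₁ := ((hasWeight_unit 𝔄).tmul ((hasWeight_tensorPow 𝔄 (n + 1)).lpow m)).tmul
    (hasWeight_tensorPow 𝔄 (n + 1))
  have w₂ := hasWeight_tensorPow 𝔄 (0 + (n + 1) * m + (n + 1))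
  obtain ⟨b, -, hb⟩ := w₁.exists_transfer w₂ (SecTwist.tmulHom (sectionHom _ t') a)
  have hb' : CohB1.genLocus (CohB1.tensorPow L (0 + (n + 1) * m + n + 1)) b = X.basicOpen g :=
    hb.trans h2
  refine ⟨0 + (n + 1) * m + n, b, ?_, ?_, ?_⟩
  · rw [hb']; exact hxg
  · rw [hb']; exact hgW
  · rw [hb']; exact haff.basicOpen g

end Groth.Agent.H18.STL
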