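import Groth.Agent.H18.STL.Extend2

/-!
# Extension of sections from `X_s` after twisting, for all large exponents (helper18)

Same proof as `exists_extension`, recording that every large exponent works.
-/

set_option autoImplicit false
universe u
open CategoryTheory CategoryTheory.Limits AlgebraicGeometry TopologicalSpace Opposite TensorProduct

namespace Groth.Agent.H18.STL

open Groth.Agent.H18 Groth.Agent.H18.PUP

variable {X : Scheme.{u}} {L : X.Modules}

theorem exists_extension_of_le [CompactSpace X] [QuasiSeparatedSpace X] (hL : PicF.IsInvertible L)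
    (s : Coh.structureModule X ⟶ L) (F : X.Modules) [F.IsQuasicoherent]
    (t : Γ(F, CohB1.genLocus L s)) :
    ∃ N : ℕ, ∀ n, N ≤ n → ∃ t' : Γ(CohB1.tensorMod F (CohB1.tensorPow L n), (⊤ : X.Opens)),
      mres (CohB1.tensorMod F (CohB1.tensorPow L n)) (le_top : CohB1.genLocus L s ≤ ⊤) t' =
        SecTwist.twist s n F (CohB1.genLocus L s) t := by
  classical
  choose V hVaff hxV e f k y hchart using exists_local_chart hL s F t
  obtain ⟨T, hT⟩ := CompactSpace.elim_nhds_subcover (fun x => (V x : Set X))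
    (fun x => (V x).isOpen.mem_nhds (hxV x))
  have hcovT : ∀ x : X, ∃ i ∈ T, x ∈ V i := by
    intro x
    have : x ∈ ⋃ y ∈ T, (V y : Set X) := hT ▸ Set.mem_univ x
    simpa using this
  set n₀ := T.sup k with hn₀
  let xs : ∀ i : X, Γ(F, V i) := fun i => f i ^ (n₀ - k i) • y i
  have hch : ∀ i ∈ T, IsChart s F t n₀ (V i) (e i) (f i) (xs i) :=
    fun i hi => hchart i n₀ (Finset.le_sup hi)
  -- compatibility on overlaps
  have hcompat : ∀ i ∈ T, ∀ j ∈ T, ∃ M : ℕ, ∀ m, M ≤ m →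
      mres (CohB1.tensorMod F (CohB1.tensorPow L (n₀ + m))) (inf_le_left : V i ⊓ V j ≤ V i)
          (sec F n₀ m (V i) (e i) (f i) (xs i)) =
        mres (CohB1.tensorMod F (CohB1.tensorPow L (n₀ + m))) (inf_le_right : V i ⊓ V j ≤ V j)
          (sec F n₀ m (V j) (e j) (f j) (xs j)) := by
    intro i hi j hj
    have hcomp : IsCompact ((V i ⊓ V j : X.Opens) : Set X) :=
      IsCompact.inter_of_isOpen (hVaff i).isCompact (hVaff j).isCompact (V i).isOpen (V j).isOpen
    -- affine neighbourhoods inside the overlap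
    have hW : ∀ p ∈ ((V i ⊓ V j : X.Opens) : Set X), ∃ W : X.Opens, IsAffineOpen W ∧ p ∈ W ∧
        W ≤ V i ⊓ V j := by
      intro p hp
      obtain ⟨W, hWaff, hpW, hWle⟩ := Opens.isBasis_iff_nbhd.1 X.isBasis_affineOpens
        (show p ∈ V i ⊓ V j from hp)
      exact ⟨W, hWaff, hpW, hWle⟩
    choose W hWaff hpW hWle using hW
    obtain ⟨S, hS⟩ := hcomp.elim_nhds_subcover' (fun p hp => (W p hp : Set X))
      (fun p hp => (W p hp).isOpen.mem_nhds (hpW p hp))
    have hMW : ∀ q : ((V i ⊓ V j : X.Opens) : Set X), ∃ M : ℕ, ∀ m, M ≤ m →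
        sec F n₀ m (W q.1 q.2) (mres L ((hWle q.1 q.2).trans inf_le_left) (e i))
            (rres X ((hWle q.1 q.2).trans inf_le_left) (f i))
            (mres F ((hWle q.1 q.2).trans inf_le_left) (xs i)) =
          sec F n₀ m (W q.1 q.2) (mres L ((hWle q.1 q.2).trans inf_le_right) (e j))
            (rres X ((hWle q.1 q.2).trans inf_le_right) (f j))
            (mres F ((hWle q.1 q.2).trans inf_le_right) (xs j)) := by
      intro q
      exact exists_sec_eq (hWaff q.1 q.2) ((hch i hi).res _) ((hch j hj).res _)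
    choose MW hMW using hMW
    refine ⟨S.sup MW, fun m hm => ?_⟩
    refine modules_eq_of_locally_eq _ _ _ (fun p hp => ?_)
    have hp' : p ∈ ⋃ q ∈ S, (W q.1 q.2 : Set X) := hS hp
    simp only [Set.mem_iUnion] at hp'
    obtain ⟨q, hqS, hpq⟩ := hp'
    refine ⟨W q.1 q.2, hWle q.1 q.2, hpq, ?_⟩
    rw [mres_mres, mres_mres, mres_sec, mres_sec]
    exact hMW q m (le_trans (Finset.le_sup hqS) hm)
  choose M hM using hcompat
  -- a uniform exponent
  let Mtot : ℕ := (T.attach.sup fun i => T.attach.sup fun j => M i.1 i.2 j.1 j.2) + 1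
  have hMtot : ∀ i (hi : i ∈ T) j (hj : j ∈ T), M i hi j hj ≤ Mtot := by
    intro i hi j hj
    have h1 : M i hi j hj ≤ T.attach.sup fun j' => M i hi j'.1 j'.2 :=
      Finset.le_sup (f := fun j' : {x // x ∈ T} => M i hi j'.1 j'.2) (Finset.mem_attach T ⟨j, hj⟩)
    have h2 : (T.attach.sup fun j' => M i hi j'.1 j'.2) ≤
        T.attach.sup fun i' => T.attach.sup fun j' => M i'.1 i'.2 j'.1 j'.2 :=
      Finset.le_sup (f := fun i' : {x // x ∈ T} => T.attach.sup fun j' => M i'.1 i'.2 j'.1 j'.2)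
        (Finset.mem_attach T ⟨i, hi⟩)
    exact (h1.trans h2).trans (Nat.le_succ _)
  refine ⟨n₀ + Mtot, fun n hn => ?_⟩
  obtain ⟨m, rfl⟩ : ∃ m, n = n₀ + m := ⟨n - n₀, by omega⟩
  have hm : Mtot ≤ m := by omega
  -- glue
  obtain ⟨t', ht'⟩ := exists_glue (CohB1.tensorMod F (CohB1.tensorPow L (n₀ + m)))
    (ι := {x // x ∈ T}) (fun i => V i.1) ⊤ (fun _ => le_top)
    (fun x _ => by obtain ⟨i, hi, hx⟩ := hcovT x; exact ⟨⟨i, hi⟩, hx⟩)
    (fun i => sec F n₀ m (V i.1) (e i.1) (f i.1) (xs i.1))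
    (fun i j => hM i.1 i.2 j.1 j.2 m ((hMtot i.1 i.2 j.1 j.2).trans hm))
  refine ⟨t', ?_⟩
  refine modules_eq_of_locally_eq _ _ _ (fun x hx => ?_)
  obtain ⟨i, hi, hxi⟩ := hcovT x
  have hc := hch i hi
  have hD : CohB1.genLocus L s ⊓ V i = X.basicOpen (f i) :=
    genLocus_inf_eq_basicOpen s hc.basis (f i) hc.val_eq
  have hxD : x ∈ X.basicOpen (f i) := hD ▸ ⟨hx, hxi⟩
  refine ⟨X.basicOpen (f i), hc.le_genLocus, hxD, ?_⟩
  rw [mres_mres, mres_twist, ← hc.mres_sec_basicOpen m, ← ht' ⟨i, hi⟩, mres_mres]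

end Groth.Agent.H18.STL
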