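import Groth.Agent.H18.STL.AmpleTensor

/-!
# A scheme with an ample module whose inverse is ample is quasi-affine (helper18)
-/

set_option autoImplicit false
universe u
open CategoryTheory CategoryTheory.Limits AlgebraicGeometry TopologicalSpace Opposite TensorProduct

namespace Groth.Agent.H18.STL

open Groth.Agent.H18 Groth.Agent.H18.PUP

variable {X : Scheme.{u}}

theorem hom_app_mres {M M' : X.Modules} (φ : M ⟶ M') {U U' : X.Opens} (h : U' ≤ U) (s : Γ(M, U)) :
    mres M' h (φ.app U s) = φ.app U' (mres M h s) :=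
  (ConcreteCategory.congr_hom (φ.mapPresheaf.naturality (homOfLE h).op) s).symm

/-- isomorphisms preserve local bases -/
theorem isBasisOn_map_iso {N N' : X.Modules} (e : N ≅ N') {W : X.Opens} {t : Γ(N, W)}
    (h : IsBasisOn N W t) : IsBasisOn N' W (e.hom.app W t) := by
  intro V hV
  have hbij : Function.Bijective (e.hom.app V) :=
    ConcreteCategory.bijective_of_isIso (e.hom.app V)
  have hcomp : (fun r : Γ(X, V) => r • mres N' hV (e.hom.app W t)) =
      (e.hom.app V) ∘ (fun r : Γ(X, V) => r • mres N hV t) := by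
    funext r
    change _ = e.hom.app V (r • mres N hV t)
    rw [Scheme.Modules.Hom.app_smul, hom_app_mres]
  rw [hcomp]
  exact hbij.comp (h V hV)

variable {𝔘 : Cover X}

/-- isomorphisms preserve cocycles -/
theorem HasCocycle.map_iso {c : 𝔘.Cocycle} {M M' : X.Modules} {β : ∀ i, Γ(M, 𝔘.W i)}
    (h : HasCocycle 𝔘 c M β) (e : M ≅ M') :
    HasCocycle 𝔘 c M' (fun i => e.hom.app (𝔘.W i) (β i)) where
  basis i := isBasisOn_map_iso e (h.basis i)
  trans i j := by
    rw [hom_app_mres, hom_app_mres, h.trans i j, Scheme.Modules.Hom.app_smul]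

/-- ampleness only depends on the cocycle -/
theorem isAmple_of_hasCocycle {c : 𝔘.Cocycle} {M M' : X.Modules}
    {β : ∀ i, Γ(M, 𝔘.W i)} {β' : ∀ i, Γ(M', 𝔘.W i)}
    (h : HasCocycle 𝔘 c M β) (h' : HasCocycle 𝔘 c M' β') (hM : CohB1.IsAmple M) :
    CohB1.IsAmple M' := by
  obtain ⟨-, hcpt, hcov⟩ := hM
  refine ⟨h'.isInvertible, hcpt, fun x => ?_⟩
  obtain ⟨k, s, hxs, haff⟩ := hcov x
  obtain ⟨s', -, hs'⟩ := (h.lpow (k + 1)).exists_transfer (h'.lpow (k + 1)) s
  exact ⟨k, s', hs' ▸ hxs, hs' ▸ haff⟩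

/-- ampleness is invariant under isomorphisms -/
theorem isAmple_of_iso {M M' : X.Modules} (e : M ≅ M') (hM : CohB1.IsAmple M) :
    CohB1.IsAmple M' := by
  obtain ⟨𝔄⟩ := nonempty_atlas hM.1
  let 𝔘 : Cover X := ⟨𝔄.ι, 𝔄.W, 𝔄.cov⟩
  have h : HasCocycle 𝔘 (cocycleOf 𝔘 𝔄.basis) M 𝔄.e := hasCocycle_cocycleOf 𝔘 𝔄.basis
  exact isAmple_of_hasCocycle h (h.map_iso e) hM

/-- if the structure module is ample, the scheme is quasi-affine -/
theorem isQuasiAffine_of_isAmple_structureModule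
    (h : CohB1.IsAmple (Coh.structureModule X)) : X.IsQuasiAffine := by
  obtain ⟨-, hcpt, hcov⟩ := h
  have := hcpt
  refine Scheme.IsQuasiAffine.of_forall_exists_mem_basicOpen X (fun x => ?_)
  obtain ⟨k, a, hxa, haff⟩ := hcov x
  let 𝔄₀ : Atlas (Coh.structureModule X) :=
    ⟨PUnit.{u + 1}, fun _ => ⊤, fun _ => ⟨PUnit.unit, trivial⟩, fun _ => oneSec X ⊤,
      fun _ => isBasisOn_oneSec ⊤⟩
  have w := hasWeight_tensorPow 𝔄₀ (k + 1)
  have h1 := w.genLocus_inf a PUnit.unit
  have h2 : CohB1.genLocus (CohB1.tensorPow (Coh.structureModule X) (k + 1)) a =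
      X.basicOpen (w.coords a PUnit.unit) := by
    rw [← h1]
    exact (inf_top_eq _).symm
  exact ⟨w.coords a PUnit.unit, h2 ▸ haff, h2 ▸ hxa⟩

/-- EGA II 5.1.2: if `L` and an inverse of `L` are both ample then `X` is quasi-affine -/
theorem isQuasiAffine_of_isAmple_of_inverse {L L' : X.Modules}
    (φ : CohB1.tensorMod L L' ≅ Coh.structureModule X)
    (hL : CohB1.IsAmple L) (hL' : CohB1.IsAmple L') : X.IsQuasiAffine := by
  have hLL' : CohB1.IsAmple (CohB1.tensorMod L L') := by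
    refine isAmple_tensorMod_of_generated hL hL'.1 (fun x => ?_)
    obtain ⟨n, s, hxs, -⟩ := hL'.2.2 x
    exact ⟨n, s, hxs⟩
  exact isQuasiAffine_of_isAmple_structureModule (isAmple_of_iso φ hLL')

end Groth.Agent.H18.STL
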