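import Groth.Agent.H18.STL.StalkGG
import Groth.Agent.H18.STL.Extend3
import Groth.Agent.H67.StalkLoc
import Groth.Agent.H67.TwistAllLarge

/-!
# Global generation of `F ⊗ L^n` for `L` ample and `F` quasi-coherent of finite type (helper18)

EGA II 4.5.5.
-/

set_option autoImplicit false
universe u
open CategoryTheory CategoryTheory.Limits AlgebraicGeometry TopologicalSpace Opposite TensorProduct

namespace Groth.Agent.H18.STL

open Groth.Agent.H18 Groth.Agent.H18.PUP Groth.Agent.H5.Stalk

variable {X : Scheme.{u}}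

/-- generators of the sections over an affine open generate the stalks -/
theorem span_germ_eq_top_of_span_eq_top (F : X.Modules) [F.IsQuasicoherent] {V : X.Opens}
    (hV : IsAffineOpen V) {ι : Type*} (h : ι → Γ(F, V))
    (hh : Submodule.span Γ(X, V) (Set.range h) = ⊤) {x : X} (hx : x ∈ V) :
    Submodule.span (X.presheaf.stalk x) (Set.range fun j =>
      (F.presheaf.germ V x hx (h j) : (stalkFunctor x).obj F)) = ⊤ := by
  have key : ∀ a ∈ Submodule.span Γ(X, V) (Set.range h),
      (F.presheaf.germ V x hx a : (stalkFunctor x).obj F) ∈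
        Submodule.span (X.presheaf.stalk x) (Set.range fun j =>
          (F.presheaf.germ V x hx (h j) : (stalkFunctor x).obj F)) := by
    intro a ha'
    induction ha' using Submodule.span_induction with
    | mem b hb =>
      obtain ⟨j, rfl⟩ := hb
      exact Submodule.subset_span ⟨j, rfl⟩
    | zero => rw [map_zero]; exact Submodule.zero_mem _
    | add b c _ _ ihb ihc => rw [map_add]; exact Submodule.add_mem _ ihb ihc
    | smul c b _ ihb =>
      rw [germ_smul]
      exact Submodule.smul_mem _ _ ihb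
  rw [eq_top_iff]
  intro m _
  letI := Groth.Agent.H8.stalkModule F hx
  haveI := Groth.Agent.H8.isLocalizedModule_germₗ F hV hx
  obtain ⟨⟨a, s⟩, hs⟩ := IsLocalizedModule.surj (hV.primeIdealOf ⟨x, hx⟩).asIdeal.primeCompl
    (Groth.Agent.H8.germₗ F hx) (m : F.presheaf.stalk x)
  have hu : IsUnit (X.presheaf.germ V x hx s.1) := by
    by_contra hcon
    exact s.2 ((Groth.Agent.H8.mem_primeIdealOf_iff hV hx s.1).2 hcon)
  obtain ⟨u, hu⟩ := hu
  have hs' : (X.presheaf.germ V x hx s.1) • (m : F.presheaf.stalk x) =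
      F.presheaf.germ V x hx a := hs
  have hm : (m : F.presheaf.stalk x) = (↑u⁻¹ : X.presheaf.stalk x) • F.presheaf.germ V x hx a := by
    rw [← hs', ← hu, smul_smul, Units.inv_mul, one_smul]
  have ha := key a (hh ▸ Submodule.mem_top)
  rw [show m = (↑u⁻¹ : X.presheaf.stalk x) • (F.presheaf.germ V x hx a :
    (stalkFunctor x).obj F) from hm]
  exact Submodule.smul_mem _ _ ha

/-- the powers of a section form a basis of the powers of the module on the locus of generation -/
theorem isBasisOn_pow_genLocus {N : X.Modules} (hN : PicF.IsInvertible N)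
    (f : Coh.structureModule X ⟶ N) (k : ℕ) :
    IsBasisOn (CohB1.tensorPow N k) (CohB1.genLocus N f) (SecTwist.pow f k (CohB1.genLocus N f)) := by
  have he := Groth.Agent.H67.BasisLocal.isBasisOn_genLocus hN f
  have h1 := pow_eq_smul_lpow f (CohB1.genLocus N f) (SecTwist.val f (CohB1.genLocus N f)) 1
    (one_smul _ _).symm k
  rw [h1, one_pow, one_smul]
  exact isBasisOn_lpow he k

/-- `F ⊗ N^k` is generated by global sections at the points of an affine `X_f`, for all large `k` -/
theorem exists_forall_isGGAt_tensorMod_tensorPow [CompactSpace X] [QuasiSeparatedSpace X]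
    {N : X.Modules} (hN : PicF.IsInvertible N) (f : Coh.structureModule X ⟶ N)
    (haff : IsAffineOpen (CohB1.genLocus N f)) (F : X.Modules) [F.IsQuasicoherent]
    [SheafOfModules.IsFiniteType (R := X.ringCatSheaf) F] :
    ∃ k₀ : ℕ, ∀ k, k₀ ≤ k → ∀ y ∈ CohB1.genLocus N f,
      IsGGAt (CohB1.tensorMod F (CohB1.tensorPow N k)) y := by
  classical
  haveI : Module.Finite Γ(X, CohB1.genLocus N f) Γ(F, CohB1.genLocus N f) :=
    Groth.Agent.H44.finite_sections_of_isFiniteType F haff
  obtain ⟨S, hS⟩ := (Module.Finite.fg_top :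
    (⊤ : Submodule Γ(X, CohB1.genLocus N f) Γ(F, CohB1.genLocus N f)).FG)
  choose K hK using fun h : Γ(F, CohB1.genLocus N f) => exists_extension_of_le hN f F h
  refine ⟨S.sup K, fun k hk y hy => ?_⟩
  have hext : ∀ j : S, ∃ t' : Γ(CohB1.tensorMod F (CohB1.tensorPow N k), (⊤ : X.Opens)),
      mres (CohB1.tensorMod F (CohB1.tensorPow N k)) (le_top : CohB1.genLocus N f ≤ ⊤) t' =
        SecTwist.twist f k F (CohB1.genLocus N f) j.1 :=
    fun j => hK j.1 k ((Finset.le_sup j.2).trans hk)
  choose σ hσ using hext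
  refine isGGAt_tensorMod_of_basis F (CohB1.tensorPow N k) hy (isBasisOn_pow_genLocus hN f k)
    (fun j : S => j.1) ?_ σ (fun j => hσ j)
  refine span_germ_eq_top_of_span_eq_top F haff (fun j : S => j.1) ?_ hy
  rw [Subtype.range_coe_subtype]
  exact hS

/-- EGA II 4.5.5, stalkwise form -/
theorem exists_forall_isGGAt_of_isAmple [QuasiSeparatedSpace X] {L : X.Modules}
    (hL : CohB1.IsAmple L) (F : X.Modules) [F.IsQuasicoherent]
    [SheafOfModules.IsFiniteType (R := X.ringCatSheaf) F] :
    ∃ n₀ : ℕ, ∀ n, n₀ ≤ n → ∀ y : X, IsGGAt (CohB1.tensorMod F (CohB1.tensorPow L n)) y := by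
  classical
  haveI : CompactSpace X := hL.2.1
  have hLinv : PicF.IsInvertible L := hL.1
  choose m f hxf haff using hL.2.2
  choose k₀ hk₀ using fun x : X => exists_forall_isGGAt_tensorMod_tensorPow
    (isInvertible_tensorPow hLinv (m x + 1)) (f x) (haff x) F
  obtain ⟨T, hT⟩ := CompactSpace.elim_nhds_subcover
    (fun x => ((CohB1.genLocus _ (f x) : X.Opens) : Set X))
    (fun x => (CohB1.genLocus _ (f x)).isOpen.mem_nhds (hxf x))
  obtain ⟨b₀, hb₀⟩ := Groth.Agent.H67.TwistAllLarge.exists_forall_large_pointwise hL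
    (Groth.Agent.H67.ParaExt.isInvertible_structureModule (X := X))
  obtain ⟨𝔘, c, e, hc⟩ := exists_cover_cocycle hLinv
  refine ⟨T.sup (fun x => (m x + 1) * k₀ x) + b₀, fun n hn y => ?_⟩
  have hy : y ∈ ⋃ x ∈ T, ((CohB1.genLocus _ (f x) : X.Opens) : Set X) := hT ▸ Set.mem_univ y
  simp only [Set.mem_iUnion, SetLike.mem_coe, exists_prop] at hy
  obtain ⟨x, hxT, hyx⟩ := hy
  have hle : (m x + 1) * k₀ x ≤ T.sup (fun x => (m x + 1) * k₀ x) :=
    Finset.le_sup (f := fun x => (m x + 1) * k₀ x) hxT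
  obtain ⟨b, hb⟩ : ∃ b, (m x + 1) * k₀ x + b = n := ⟨n - (m x + 1) * k₀ x, by omega⟩
  have hbb : b₀ ≤ b := by omega
  obtain ⟨u, hu⟩ := hb₀ b hbb y
  have hgg := hk₀ x (k₀ x) le_rfl y hyx
  -- the comparison morphism
  have w₁ := ((hc.lpow (m x + 1)).lpow (k₀ x)).tmul ((hasCocycle_unit 𝔘).tmul (hc.lpow b))
  have w₂ := hc.lpow n
  have hcoc : (c ^ (m x + 1)) ^ k₀ x * (1 * c ^ b) = c ^ n := by
    rw [one_mul, ← pow_mul, ← pow_add, hb]
  rw [hcoc] at w₁
  let ψ : CohB1.tensorPow (CohB1.tensorPow L (m x + 1)) (k₀ x) ⟶ CohB1.tensorPow L n :=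
    mulSection _ u ≫ (Groth.Agent.H67.CocycleIso.iso w₁ w₂).hom
  have hψ : Function.Surjective ((stalkFunctor y).map ψ).hom := by
    have h1 : Epi ((stalkFunctor y).map (mulSection (CohB1.tensorPow (CohB1.tensorPow L (m x + 1))
        (k₀ x)) u)) :=
      (ModuleCat.epi_iff_surjective _).2 (surjective_stalk_mulSection _
        (isInvertible_tensorMod (Groth.Agent.H67.ParaExt.isInvertible_structureModule (X := X))
          (isInvertible_tensorPow hLinv b)) u hu)
    rw [← ModuleCat.epi_iff_surjective]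
    change Epi ((stalkFunctor y).map (mulSection _ u ≫ (Groth.Agent.H67.CocycleIso.iso w₁ w₂).hom))
    rw [CategoryTheory.Functor.map_comp]
    infer_instance
  exact hgg.of_surjective (KoszTw.tensorMap (𝟙 F) ψ) (surjective_stalk_tensorMap_right F ψ y hψ)

/-- EGA II 4.5.5 -/
theorem exists_forall_epi_free_of_isAmple [QuasiSeparatedSpace X] {L : X.Modules}
    (hL : CohB1.IsAmple L) (F : X.Modules) [F.IsQuasicoherent]
    [SheafOfModules.IsFiniteType (R := X.ringCatSheaf) F] :
    ∃ n₀ : ℕ, ∀ n, n₀ ≤ n → ∃ (ι : Type u)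
      (p : (SheafOfModules.free ι : X.Modules) ⟶ CohB1.tensorMod F (CohB1.tensorPow L n)), Epi p := by
  obtain ⟨n₀, hn₀⟩ := exists_forall_isGGAt_of_isAmple hL F
  exact ⟨n₀, fun n hn => exists_epi_free_of_forall_isGGAt (hn₀ n hn)⟩

end Groth.Agent.H18.STL
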