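import Groth.Agent.H18.STL.OI.Ample

/-!
# Generation of a module by a local section near a point (helper18)

`IsGenAt F t x`: the section `t` of `F` over `W` is a basis of `F` on some neighbourhood of `x`.
The locus of generation `CohB1.genLocus` of a global section is described in these terms, and the
notion is compatible with restriction along open immersions and with twisting by generating
sections.
-/

set_option autoImplicit false
universe u
open CategoryTheory CategoryTheory.Limits AlgebraicGeometry TopologicalSpace Opposite TensorProduct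

namespace Groth.Agent.H18.STL

open Groth.Agent.H18 Groth.Agent.H18.PUP

variable {X : Scheme.{u}}

/-- the section `t` of `F` over `W` generates `F` near `x` -/
def IsGenAt (F : X.Modules) {W : X.Opens} (t : Γ(F, W)) (x : X) : Prop :=
  ∃ (V : X.Opens) (h : V ≤ W), x ∈ V ∧ IsBasisOn F V (mres F h t)

theorem isGenAt_mres_iff {F : X.Modules} {W W' : X.Opens} (h : W' ≤ W) (t : Γ(F, W)) {x : X}
    (hx : x ∈ W') : IsGenAt F (mres F h t) x ↔ IsGenAt F t x := by
  constructor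
  · rintro ⟨V, hV, hxV, hb⟩
    refine ⟨V, hV.trans h, hxV, ?_⟩
    rwa [mres_mres] at hb
  · rintro ⟨V, hV, hxV, hb⟩
    refine ⟨V ⊓ W', inf_le_right, ⟨hxV, hx⟩, ?_⟩
    have := hb.mono (inf_le_left : V ⊓ W' ≤ V)
    rw [mres_mres] at this ⊢
    exact this

theorem mem_genLocus_iff_isGenAt {M : X.Modules} (a : Coh.structureModule X ⟶ M) {W : X.Opens}
    {x : X} (hx : x ∈ W) : x ∈ CohB1.genLocus M a ↔ IsGenAt M (SecTwist.val a W) x := by
  rw [mem_genLocus_iff]
  have key : ∀ (V : X.Opens) (hV : V ≤ W),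
      (IsBasisOn M V (mres M hV (SecTwist.val a W)) ↔
        ∀ V₁ : X.Opens, V₁ ≤ V → Function.Bijective (a.app V₁)) := by
    intro V hV
    have hfun : ∀ (V₁ : X.Opens) (hV₁ : V₁ ≤ V),
        (fun r : Γ(X, V₁) => r • mres M hV₁ (mres M hV (SecTwist.val a W))) =
          (a.app V₁ : Γ(Coh.structureModule X, V₁) → Γ(M, V₁)) := by
      intro V₁ hV₁
      funext r
      rw [mres_mres, mres_val]
      exact (app_eq_smul_val a V₁ r).symm
    constructor
    · intro hb V₁ hV₁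
      have := hb V₁ hV₁
      rwa [hfun V₁ hV₁] at this
    · intro hb V₁ hV₁
      rw [hfun V₁ hV₁]
      exact hb V₁ hV₁
  constructor
  · rintro ⟨V, hxV, hV⟩
    refine ⟨V ⊓ W, inf_le_right, ⟨hxV, hx⟩, (key _ inf_le_right).2 ?_⟩
    exact fun V₁ hV₁ => hV V₁ (hV₁.trans inf_le_left)
  · rintro ⟨V, hV, hxV, hb⟩
    exact ⟨V, hxV, (key V hV).1 hb⟩

/-- a multiple of a basis is a basis iff the coefficient is a unit -/
theorem isBasisOn_smul_iff {F : X.Modules} {V : X.Opens} {β : Γ(F, V)} (hβ : IsBasisOn F V β)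
    (g : Γ(X, V)) : IsBasisOn F V (g • β) ↔ IsUnit g := by
  constructor
  · intro hb
    obtain ⟨a, ha⟩ := (hb V le_rfl).2 β
    simp only [mres_self] at ha
    have h1 : (a * g) • mres F (le_refl V) β = (1 : Γ(X, V)) • mres F (le_refl V) β := by
      rw [mres_self, one_smul, mul_smul]
      exact ha
    have h2 : a * g = 1 := (hβ V le_rfl).1 h1
    exact IsUnit.of_mul_eq_one _ (by rw [mul_comm]; exact h2)
  · intro hg V₁ hV₁
    have hg₁ : IsUnit (rres X hV₁ g) := hg.map _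
    have hfun : (fun r : Γ(X, V₁) => r • mres F hV₁ (g • β)) =
        (fun r : Γ(X, V₁) => r • mres F hV₁ β) ∘ (fun r : Γ(X, V₁) => r * rres X hV₁ g) := by
      funext r
      change _ = (r * rres X hV₁ g) • mres F hV₁ β
      rw [mres_smul, mul_smul]
    rw [hfun]
    refine (hβ V₁ hV₁).comp ⟨hg₁.mul_left_injective, fun y => ?_⟩
    obtain ⟨u, hu⟩ := hg₁
    exact ⟨y * ↑u⁻¹, by change y * ↑u⁻¹ * rres X hV₁ g = y; rw [← hu, mul_assoc, Units.inv_mul,
      mul_one]⟩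

theorem isGenAt_smul_basis_iff {F : X.Modules} {V : X.Opens} {β : Γ(F, V)}
    (hβ : IsBasisOn F V β) (g : Γ(X, V)) {x : X} (hx : x ∈ V) :
    IsGenAt F (g • β) x ↔ x ∈ X.basicOpen g := by
  constructor
  · rintro ⟨V', hV', hxV', hb⟩
    rw [mres_smul] at hb
    have hu := (isBasisOn_smul_iff (hβ.mono hV') _).1 hb
    exact (isUnit_res_iff_le_basicOpen hV' g).1 hu hxV'
  · intro hxg
    refine ⟨X.basicOpen g, X.basicOpen_le g, hxg, ?_⟩
    rw [mres_smul]
    exact (isBasisOn_smul_iff (hβ.mono (X.basicOpen_le g)) _).2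
      ((isUnit_res_iff_le_basicOpen (X.basicOpen_le g) g).2 le_rfl)

/-- twisting by a generating section does not change the locus of generation -/
theorem isGenAt_twist_iff {L F : X.Modules} (hL : PicF.IsInvertible L) (hF : PicF.IsInvertible F)
    (s : Coh.structureModule X ⟶ L) (m : ℕ) {W : X.Opens} (hW : W ≤ CohB1.genLocus L s)
    (t : Γ(F, W)) {x : X} (hx : x ∈ W) :
    IsGenAt (CohB1.tensorMod F (CohB1.tensorPow L m)) (SecTwist.twist s m F W t) x ↔
      IsGenAt F t x := by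
  obtain ⟨U₀, e₀, hxU₀, he₀⟩ := exists_basis_of_isInvertible hL x
  obtain ⟨U₁, β₁, hxU₁, hβ₁⟩ := exists_basis_of_isInvertible hF x
  have hVU₀ : U₀ ⊓ U₁ ⊓ W ≤ U₀ := inf_le_left.trans inf_le_left
  have hVU₁ : U₀ ⊓ U₁ ⊓ W ≤ U₁ := inf_le_left.trans inf_le_right
  have hVW : U₀ ⊓ U₁ ⊓ W ≤ W := inf_le_right
  have hxV : x ∈ U₀ ⊓ U₁ ⊓ W := ⟨⟨hxU₀, hxU₁⟩, hx⟩
  have he : IsBasisOn L (U₀ ⊓ U₁ ⊓ W) (mres L hVU₀ e₀) := he₀.mono hVU₀
  have hβ : IsBasisOn F (U₀ ⊓ U₁ ⊓ W) (mres F hVU₁ β₁) := hβ₁.mono hVU₁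
  obtain ⟨f, hf⟩ : ∃ f : Γ(X, U₀ ⊓ U₁ ⊓ W),
      SecTwist.val s (U₀ ⊓ U₁ ⊓ W) = f • mres L hVU₀ e₀ := by
    have := he.coord_smul le_rfl (SecTwist.val s (U₀ ⊓ U₁ ⊓ W))
    rw [mres_self] at this
    exact ⟨_, this.symm⟩
  obtain ⟨g, hg⟩ : ∃ g : Γ(X, U₀ ⊓ U₁ ⊓ W), mres F hVW t = g • mres F hVU₁ β₁ := by
    have := hβ.coord_smul le_rfl (mres F hVW t)
    rw [mres_self] at this
    exact ⟨_, this.symm⟩
  have hfu : IsUnit f := by
    have h1 : U₀ ⊓ U₁ ⊓ W ≤ X.basicOpen f := by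
      rw [← genLocus_inf_eq_basicOpen s he _ hf]
      exact le_inf (hVW.trans hW) le_rfl
    have := (isUnit_res_iff_le_basicOpen (le_refl (U₀ ⊓ U₁ ⊓ W)) _).2 h1
    rwa [rres_self] at this
  have hβ' := isBasisOn_tmul hβ (isBasisOn_lpow he m)
  have htw : mres (CohB1.tensorMod F (CohB1.tensorPow L m)) hVW (SecTwist.twist s m F W t) =
      (f ^ m * g) •
        SecTwist.tmul F (CohB1.tensorPow L m) (U₀ ⊓ U₁ ⊓ W) (mres F hVU₁ β₁)
          (lpow L (U₀ ⊓ U₁ ⊓ W) (mres L hVU₀ e₀) m) := by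
    rw [mres_twist, twist_eq_tmul_lpow s _ _ _ hf, ← tmul_smul_left, mul_smul, ← hg]
  have h1 : IsGenAt (CohB1.tensorMod F (CohB1.tensorPow L m)) (SecTwist.twist s m F W t) x ↔
      x ∈ X.basicOpen (f ^ m * g) := by
    rw [← isGenAt_mres_iff hVW _ hxV, htw]
    exact isGenAt_smul_basis_iff hβ' _ hxV
  have h2 : IsGenAt F t x ↔ x ∈ X.basicOpen g := by
    rw [← isGenAt_mres_iff hVW t hxV, hg]
    exact isGenAt_smul_basis_iff hβ _ hxV
  rw [h1, h2, X.basicOpen_mul, X.basicOpen_of_isUnit (hfu.pow m)]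
  constructor
  · exact fun h => h.2
  · exact fun h => ⟨hxV, h⟩

/-- generation near a point and restriction along an open immersion -/
theorem isGenAt_restrict_iff {Z : Scheme.{u}} (j : Z ⟶ X) [IsOpenImmersion j] {F : X.Modules}
    {V' : Z.Opens} (t : Γ(F, j ''ᵁ V')) {z : Z} :
    IsGenAt (F.restrict j) (OI.toRestrict j F V' t) z ↔ IsGenAt F t (j z) := by
  constructor
  · rintro ⟨V'', h, hzV'', hb⟩
    exact ⟨j ''ᵁ V'', j.image_mono h, ⟨z, hzV'', rfl⟩, OI.isBasisOn_of_restrict hb⟩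
  · rintro ⟨V, hV, hxV, hb⟩
    have hle : j ⁻¹ᵁ V ≤ V' := by
      have := j.preimage_mono hV
      rwa [j.preimage_image_eq] at this
    refine ⟨j ⁻¹ᵁ V, hle, hxV, ?_⟩
    have h1 := hb.mono (OI.image_preimage_le j V)
    rw [mres_mres] at h1
    exact OI.isBasisOn_restrict h1

end Groth.Agent.H18.STL
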