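import Groth.Agent.H18.STL.StalkGen

/-!
# Globally generated invertible modules have sections generating at any given point (helper18)
-/

set_option autoImplicit false
universe u
open CategoryTheory CategoryTheory.Limits AlgebraicGeometry TopologicalSpace Opposite TensorProduct

namespace Groth.Agent.H18.STL

open Groth.Agent.H18 Groth.Agent.H18.PUP Groth.Agent.H5.Stalk

variable {X : Scheme.{u}}

/-- a morphism from the structure module to a skyscraper vanishes as soon as the germ of its value
at `1` is killed -/
theorem comp_toSky_eq_zero {L : X.Modules} (s : Coh.structureModule X ⟶ L) (x : X)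
    {N : ModuleCat.{u} (X.presheaf.stalk x)} (θ : (stalkFunctor x).obj L ⟶ N)
    (h : θ.hom (L.presheaf.germ ⊤ x trivial (Groth.Agent.H54.PB.evOne L s)) = 0) :
    s ≫ toSky x θ = 0 := by
  apply Groth.Agent.H54.PB.evOne_injective
  rw [Groth.Agent.H54.PB.evOne_comp]
  have h0 : Groth.Agent.H54.PB.evOne (sky x N) (0 : Coh.structureModule X ⟶ sky x N) = 0 := rfl
  rw [h0]
  refine funext (fun hx => ?_)
  exact (toSky_app_apply x θ ⊤ _ hx).trans h

/-- a globally generated invertible module has, for every point, a global section generating it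
near that point -/
theorem exists_mem_genLocus_of_isGloballyGenerated {L : X.Modules} (hL : PicF.IsInvertible L)
    (hgg : ∃ (ι : Type u) (p : (SheafOfModules.free ι : X.Modules) ⟶ L), Epi p) (x : X) :
    ∃ s : Coh.structureModule X ⟶ L, x ∈ CohB1.genLocus L s := by
  obtain ⟨ι, p, hp⟩ := hgg
  haveI := hp
  have hspan : Submodule.span (X.presheaf.stalk x)
      (Set.range fun i : ι => (L.presheaf.germ ⊤ x trivial
        (Groth.Agent.H54.PB.evOne L (SheafOfModules.ιFree i ≫ p)) : (stalkFunctor x).obj L)) =
      ⊤ := by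
    refine @stalk_eq_top_of_epi X _ L p hp x _ ?_
    refine Cofan.IsColimit.hom_ext (SheafOfModules.isColimitFreeCofan ι) _ _ (fun i => ?_)
    change SheafOfModules.ιFree i ≫ p ≫ _ = SheafOfModules.ιFree i ≫ 0
    rw [comp_zero, ← Category.assoc]
    refine comp_toSky_eq_zero (SheafOfModules.ιFree i ≫ p) x _ ?_
    exact (Submodule.Quotient.mk_eq_zero (Submodule.span (X.presheaf.stalk x)
      (Set.range fun i : ι => (L.presheaf.germ ⊤ x trivial
        (Groth.Agent.H54.PB.evOne L (SheafOfModules.ιFree i ≫ p)) :
          (stalkFunctor x).obj L)))).2 (Submodule.subset_span ⟨i, rfl⟩)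
  obtain ⟨i, hi⟩ := exists_isGenAt_of_span_eq_top hL x (fun _ : ι => (⊤ : X.Opens))
    (fun _ => trivial) (fun i => Groth.Agent.H54.PB.evOne L (SheafOfModules.ιFree i ≫ p)) hspan
  exact ⟨SheafOfModules.ιFree i ≫ p, (mem_genLocus_iff_isGenAt _ (W := ⊤) trivial).2 hi⟩

end Groth.Agent.H18.STL
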