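import Groth.Agent.H18.STL.GenLocus
import Groth.Agent.H18.QCohLocalize
import Groth.Agent.H8.FreeGen

/-!
# Extension of sections from `X_s` after twisting (helper18)
-/

set_option autoImplicit false
universe u
open CategoryTheory CategoryTheory.Limits AlgebraicGeometry TopologicalSpace Opposite TensorProduct

namespace Groth.Agent.H18.STL

open Groth.Agent.H18 Groth.Agent.H18.PUP

variable {X : Scheme.{u}}

theorem rres_pow {U V : X.Opens} (h : V ≤ U) (f : Γ(X, U)) (n : ℕ) :
    rres X h (f ^ n) = rres X h f ^ n := map_pow (rres X h).hom f n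

theorem rres_mul {U V : X.Opens} (h : V ≤ U) (f g : Γ(X, U)) :
    rres X h (f * g) = rres X h f * rres X h g := map_mul (rres X h).hom f g

/-- powers of a multiple of a local section -/
theorem lpow_smul (L : X.Modules) (U : X.Opens) (c : Γ(X, U)) (e : Γ(L, U)) (n : ℕ) :
    lpow L U (c • e) n = c ^ n • lpow L U e n := by
  induction n with
  | zero =>
    change oneSec X U = c ^ 0 • oneSec X U
    rw [pow_zero, one_smul]
  | succ n ih =>
    rw [lpow_succ, lpow_succ, ih, tmul_smul_left, tmul_smul_right, ← mul_smul, pow_succ]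
    rfl

section

variable {L : X.Modules} (s : Coh.structureModule X ⟶ L) (F : X.Modules)
  (t : Γ(F, CohB1.genLocus L s)) (n₀ : ℕ)

/-- local data for the extension problem -/
structure IsChart (V : X.Opens) (e : Γ(L, V)) (f : Γ(X, V)) (x : Γ(F, V)) : Prop where
  basis : IsBasisOn L V e
  val_eq : SecTwist.val s V = f • e
  res_eq : ∀ (hD : X.basicOpen f ≤ CohB1.genLocus L s),
    mres F (X.basicOpen_le f) x = rres X (X.basicOpen_le f) f ^ n₀ • mres F hD t

variable {s F t n₀}

theorem IsChart.le_genLocus {V : X.Opens} {e : Γ(L, V)} {f : Γ(X, V)} {x : Γ(F, V)}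
    (h : IsChart s F t n₀ V e f x) : X.basicOpen f ≤ CohB1.genLocus L s :=
  basicOpen_le_genLocus s h.basis f h.val_eq

theorem IsChart.res {V : X.Opens} {e : Γ(L, V)} {f : Γ(X, V)} {x : Γ(F, V)}
    (h : IsChart s F t n₀ V e f x) {W : X.Opens} (hW : W ≤ V) :
    IsChart s F t n₀ W (mres L hW e) (rres X hW f) (mres F hW x) where
  basis := h.basis.mono hW
  val_eq := by rw [← mres_val s hW, h.val_eq, mres_smul]
  res_eq := by
    intro hD
    have hle : X.basicOpen (rres X hW f) ≤ X.basicOpen f := by
      rw [rres, Scheme.basicOpen_res]; exact inf_le_right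
    have h1 := congrArg (mres F hle) (h.res_eq h.le_genLocus)
    rw [mres_mres, mres_smul, mres_mres] at h1
    rw [mres_mres, h1]
    congr 1
    rw [map_pow]
    congr 1
    simp only [rres, ← ConcreteCategory.comp_apply, ← Functor.map_comp]
    rfl

variable (s F n₀) in
/-- the local candidate for the extension -/
noncomputable def sec (m : ℕ) (V : X.Opens) (e : Γ(L, V)) (f : Γ(X, V)) (x : Γ(F, V)) :
    Γ(CohB1.tensorMod F (CohB1.tensorPow L (n₀ + m)), V) :=
  SecTwist.tmul F (CohB1.tensorPow L (n₀ + m)) V (f ^ m • x) (lpow L V e (n₀ + m))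

theorem mres_sec (m : ℕ) {V W : X.Opens} (hW : W ≤ V) (e : Γ(L, V)) (f : Γ(X, V)) (x : Γ(F, V)) :
    mres (CohB1.tensorMod F (CohB1.tensorPow L (n₀ + m))) hW (sec F n₀ m V e f x) =
      sec F n₀ m W (mres L hW e) (rres X hW f) (mres F hW x) := by
  unfold sec
  rw [mres_tmul, mres_smul, mres_lpow, ← rres_pow]

/-- on `X_s` the local candidate is the twist of `t` -/
theorem IsChart.mres_sec_basicOpen {V : X.Opens} {e : Γ(L, V)} {f : Γ(X, V)} {x : Γ(F, V)}
    (h : IsChart s F t n₀ V e f x) (m : ℕ) :
    mres (CohB1.tensorMod F (CohB1.tensorPow L (n₀ + m))) (X.basicOpen_le f) (sec F n₀ m V e f x) =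
      SecTwist.twist s (n₀ + m) F (X.basicOpen f) (mres F h.le_genLocus t) := by
  have hc := h.res (X.basicOpen_le f)
  rw [mres_sec, twist_eq_tmul_lpow s (X.basicOpen f) _ _ hc.val_eq]
  unfold sec
  rw [h.res_eq h.le_genLocus, ← mul_smul, ← pow_add, add_comm m n₀]

/-- two charts on an affine open give the same local candidate for large `m` -/
theorem exists_sec_eq [F.IsQuasicoherent] {W : X.Opens} (hW : IsAffineOpen W)
    {e e' : Γ(L, W)} {f f' : Γ(X, W)} {x x' : Γ(F, W)}
    (h : IsChart s F t n₀ W e f x) (h' : IsChart s F t n₀ W e' f' x') :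
    ∃ M : ℕ, ∀ m, M ≤ m → sec F n₀ m W e f x = sec F n₀ m W e' f' x' := by
  -- the transition function
  set c := h.basis.coord le_rfl e' with hc_def
  have hc : e' = c • e := by
    have := h.basis.coord_smul le_rfl e'
    rw [mres_self] at this
    exact this.symm
  have hff' : f = f' * c := by
    have h1 : f • e = (f' * c) • e := by
      rw [mul_smul, ← hc, ← h'.val_eq, h.val_eq]
    have h2 := (h.basis W le_rfl).1
    have h3 : f • mres L le_rfl e = (f' * c) • mres L le_rfl e := by
      rw [mres_self]; exact h1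
    exact h2 h3
  have hBeq : X.basicOpen f = X.basicOpen f' := by
    rw [← genLocus_inf_eq_basicOpen s h.basis f h.val_eq,
      ← genLocus_inf_eq_basicOpen s h'.basis f' h'.val_eq]
  -- the difference vanishes on `X_s`
  have hd0 : mres F (X.basicOpen_le f) (x - c ^ n₀ • x') = 0 := by
    have hle : X.basicOpen f ≤ X.basicOpen f' := hBeq.le
    have e1 := h.res_eq h.le_genLocus
    have e2 := congrArg (mres F hle) (h'.res_eq h'.le_genLocus)
    rw [mres_mres, mres_smul, mres_mres] at e2
    rw [map_sub, mres_smul, e1, e2, ← mul_smul, sub_eq_zero]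
    congr 1
    rw [map_pow, map_pow, ← mul_pow]
    congr 1
    have e3 := congrArg (rres X (X.basicOpen_le f)) hff'
    rw [rres_mul] at e3
    rw [e3, mul_comm]
    congr 1
    simp only [rres, ← ConcreteCategory.comp_apply, ← Functor.map_comp]
    rfl
  obtain ⟨M, hM⟩ := exists_pow_smul_eq_zero_of_isQuasicoherent F hW f _ hd0
  refine ⟨M, fun m hm => ?_⟩
  unfold sec
  rw [hc, lpow_smul, tmul_smul_right, ← tmul_smul_left]
  congr 1
  -- `f ^ m • x = c ^ (n₀ + m) • f' ^ m • x'`
  have h5 : f ^ m • (x - c ^ n₀ • x') = 0 := by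
    obtain ⟨k, rfl⟩ := Nat.exists_eq_add_of_le hm
    rw [pow_add, mul_comm, mul_smul, hM, smul_zero]
  rw [smul_sub, sub_eq_zero] at h5
  rw [h5, ← mul_smul, ← mul_smul, hff', mul_pow, pow_add]
  congr 1
  ring

end

end Groth.Agent.H18.STL
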