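import Groth.Agent.H18.STL.Invertible
import Groth.Agent.H18.STL.Extend

/-!
# Atlases of an invertible module and modules of a given weight (helper18)

An atlas of `L` is a cover by opens with bases of `L`.  A module `M` with bases `β i` over the opens
of the atlas has weight `N` if the transition functions of the `β i` are the `N`-th powers of those
of `L`.  Global sections of two modules of the same weight correspond, with the same loci of
generation.  The tensor powers `L^{⊗ N}` have weight `N`; weights add under tensor products.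
-/

set_option autoImplicit false
universe u
open CategoryTheory CategoryTheory.Limits AlgebraicGeometry TopologicalSpace Opposite TensorProduct

namespace Groth.Agent.H18.STL

open Groth.Agent.H18 Groth.Agent.H18.PUP

variable {X : Scheme.{u}}

/-- a cover of `X` by opens with bases of `L` -/
structure Atlas (L : X.Modules) where
  /-- index type -/
  ι : Type u
  /-- the opens -/
  W : ι → X.Opens
  cov : ∀ x : X, ∃ i, x ∈ W i
  /-- the bases -/
  e : ∀ i, Γ(L, W i)
  basis : ∀ i, IsBasisOn L (W i) (e i)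

/-- an invertible module has an atlas -/
theorem nonempty_atlas {L : X.Modules} (hL : PicF.IsInvertible L) : Nonempty (Atlas L) := by
  choose U t hxU ht using exists_basis_of_isInvertible hL
  exact ⟨⟨X, U, fun x => ⟨x, hxU x⟩, t, ht⟩⟩

variable {L : X.Modules} (𝔄 : Atlas L)

/-- `M`, with the bases `β`, has weight `N` with respect to the atlas -/
structure HasWeight (M : X.Modules) (N : ℕ) (β : ∀ i, Γ(M, 𝔄.W i)) : Prop where
  basis : ∀ i, IsBasisOn M (𝔄.W i) (β i)
  trans : ∀ i j (c : Γ(X, 𝔄.W i ⊓ 𝔄.W j)),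
    mres L inf_le_right (𝔄.e j) = c • mres L inf_le_left (𝔄.e i) →
      mres M inf_le_right (β j) = c ^ N • mres M inf_le_left (β i)

/-- the transition function of the atlas -/
noncomputable def Atlas.trans (i j : 𝔄.ι) : Γ(X, 𝔄.W i ⊓ 𝔄.W j) :=
  (𝔄.basis i).coord inf_le_left (mres L inf_le_right (𝔄.e j))

theorem Atlas.trans_spec (i j : 𝔄.ι) :
    mres L inf_le_right (𝔄.e j) = 𝔄.trans i j • mres L inf_le_left (𝔄.e i) :=
  ((𝔄.basis i).coord_smul inf_le_left _).symm

theorem hasWeight_self : HasWeight 𝔄 L 1 𝔄.e where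
  basis := 𝔄.basis
  trans i j c h := by rw [pow_one]; exact h

theorem hasWeight_unit : HasWeight 𝔄 (Coh.structureModule X) 0 (fun i => oneSec X (𝔄.W i)) where
  basis i := isBasisOn_oneSec _
  trans i j c _ := by
    rw [pow_zero, one_smul, mres_oneSec, mres_oneSec]

variable {𝔄}

theorem HasWeight.tmul {M M' : X.Modules} {N N' : ℕ} {β : ∀ i, Γ(M, 𝔄.W i)}
    {β' : ∀ i, Γ(M', 𝔄.W i)} (h : HasWeight 𝔄 M N β) (h' : HasWeight 𝔄 M' N' β') :
    HasWeight 𝔄 (CohB1.tensorMod M M') (N + N')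
      (fun i => SecTwist.tmul M M' (𝔄.W i) (β i) (β' i)) where
  basis i := isBasisOn_tmul (h.basis i) (h'.basis i)
  trans i j c hc := by
    rw [mres_tmul, mres_tmul, h.trans i j c hc, h'.trans i j c hc, tmul_smul_left,
      tmul_smul_right, ← mul_smul, pow_add]
    rfl

theorem HasWeight.lpow {M : X.Modules} {N : ℕ} {β : ∀ i, Γ(M, 𝔄.W i)}
    (h : HasWeight 𝔄 M N β) (m : ℕ) :
    HasWeight 𝔄 (CohB1.tensorPow M m) (N * m) (fun i => lpow M (𝔄.W i) (β i) m) where
  basis i := isBasisOn_lpow (h.basis i) m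
  trans i j c hc := by
    rw [mres_lpow, mres_lpow, h.trans i j c hc, lpow_smul, ← pow_mul]

variable (𝔄) in
theorem hasWeight_tensorPow (N : ℕ) :
    HasWeight 𝔄 (CohB1.tensorPow L N) N (fun i => lpow L (𝔄.W i) (𝔄.e i) N) := by
  have := (hasWeight_self 𝔄).lpow N
  rwa [one_mul] at this

theorem val_sectionHom (M : X.Modules) (σ : Γ(M, (⊤ : X.Opens))) (V : X.Opens) :
    SecTwist.val (sectionHom M σ) V = mres M (le_top : V ≤ ⊤) σ :=
  sectionHom_app_one M σ V

/-- the coordinates of a global section of a module with weight -/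
noncomputable def HasWeight.coords {M : X.Modules} {N : ℕ} {β : ∀ i, Γ(M, 𝔄.W i)}
    (h : HasWeight 𝔄 M N β) (a : Coh.structureModule X ⟶ M) (i : 𝔄.ι) : Γ(X, 𝔄.W i) :=
  (h.basis i).coord le_rfl (SecTwist.val a (𝔄.W i))

theorem HasWeight.coords_spec {M : X.Modules} {N : ℕ} {β : ∀ i, Γ(M, 𝔄.W i)}
    (h : HasWeight 𝔄 M N β) (a : Coh.structureModule X ⟶ M) (i : 𝔄.ι) :
    SecTwist.val a (𝔄.W i) = h.coords a i • β i := by
  have := (h.basis i).coord_smul le_rfl (SecTwist.val a (𝔄.W i))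
  rw [mres_self] at this
  exact this.symm

theorem HasWeight.coords_unique {M : X.Modules} {N : ℕ} {β : ∀ i, Γ(M, 𝔄.W i)}
    (h : HasWeight 𝔄 M N β) (a : Coh.structureModule X ⟶ M) (i : 𝔄.ι) (r : Γ(X, 𝔄.W i))
    (hr : SecTwist.val a (𝔄.W i) = r • β i) : r = h.coords a i := by
  apply (h.basis i).coord_unique
  rw [mres_self]
  exact hr.symm

theorem HasWeight.genLocus_inf {M : X.Modules} {N : ℕ} {β : ∀ i, Γ(M, 𝔄.W i)}
    (h : HasWeight 𝔄 M N β) (a : Coh.structureModule X ⟶ M) (i : 𝔄.ι) :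
    CohB1.genLocus M a ⊓ 𝔄.W i = X.basicOpen (h.coords a i) :=
  genLocus_inf_eq_basicOpen a (h.basis i) _ (h.coords_spec a i)

/-- the cocycle condition satisfied by the coordinates -/
theorem HasWeight.coords_trans {M : X.Modules} {N : ℕ} {β : ∀ i, Γ(M, 𝔄.W i)}
    (h : HasWeight 𝔄 M N β) (a : Coh.structureModule X ⟶ M) (i j : 𝔄.ι) :
    rres X inf_le_left (h.coords a i) =
      rres X inf_le_right (h.coords a j) * 𝔄.trans i j ^ N := by
  have h1 := congrArg (mres M (inf_le_left : 𝔄.W i ⊓ 𝔄.W j ≤ 𝔄.W i)) (h.coords_spec a i)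
  have h2 := congrArg (mres M (inf_le_right : 𝔄.W i ⊓ 𝔄.W j ≤ 𝔄.W j)) (h.coords_spec a j)
  rw [mres_val, mres_smul] at h1 h2
  rw [h.trans i j _ (𝔄.trans_spec i j), ← mul_smul] at h2
  have h3 := h1.symm.trans h2
  have hb := ((h.basis i) (𝔄.W i ⊓ 𝔄.W j) inf_le_left).1
  exact hb h3

/-- a global section with given coordinates -/
theorem HasWeight.exists_of_coords {M : X.Modules} {N : ℕ} {β : ∀ i, Γ(M, 𝔄.W i)}
    (h : HasWeight 𝔄 M N β) (r : ∀ i, Γ(X, 𝔄.W i))
    (hr : ∀ i j, rres X inf_le_left (r i) = rres X inf_le_right (r j) * 𝔄.trans i j ^ N) :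
    ∃ a : Coh.structureModule X ⟶ M, ∀ i, SecTwist.val a (𝔄.W i) = r i • β i := by
  obtain ⟨σ, hσ⟩ := exists_glue M 𝔄.W ⊤ (fun _ => le_top) (fun x _ => 𝔄.cov x)
    (fun i => r i • β i) (by
      intro i j
      rw [mres_smul, mres_smul, h.trans i j _ (𝔄.trans_spec i j), ← mul_smul]
      congr 1
      exact hr i j)
  refine ⟨sectionHom M σ, fun i => ?_⟩
  rw [val_sectionHom]
  exact hσ i

/-- global sections of two modules of the same weight correspond -/
theorem HasWeight.exists_transfer {M M' : X.Modules} {N : ℕ} {β : ∀ i, Γ(M, 𝔄.W i)}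
    {β' : ∀ i, Γ(M', 𝔄.W i)} (h : HasWeight 𝔄 M N β) (h' : HasWeight 𝔄 M' N β')
    (a : Coh.structureModule X ⟶ M) :
    ∃ a' : Coh.structureModule X ⟶ M', (∀ i, h'.coords a' i = h.coords a i) ∧
      CohB1.genLocus M' a' = CohB1.genLocus M a := by
  obtain ⟨a', ha'⟩ := h'.exists_of_coords (h.coords a) (h.coords_trans a)
  have hc : ∀ i, h'.coords a' i = h.coords a i := fun i =>
    (h'.coords_unique a' i _ (ha' i)).symm
  refine ⟨a', hc, ?_⟩
  ext x
  obtain ⟨i, hi⟩ := 𝔄.cov x
  have e1 := h.genLocus_inf a i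
  have e2 := h'.genLocus_inf a' i
  rw [hc i] at e2
  constructor
  · intro hx
    have : x ∈ CohB1.genLocus M' a' ⊓ 𝔄.W i := ⟨hx, hi⟩
    rw [e2, ← e1] at this
    exact this.1
  · intro hx
    have : x ∈ CohB1.genLocus M a ⊓ 𝔄.W i := ⟨hx, hi⟩
    rw [e1, ← e2] at this
    exact this.1

end Groth.Agent.H18.STL
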