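import Groth.Agent.H18.STL.StalkGen
import Groth.Agent.H18.STL.Weight
import Groth.Agent.H5.PullbackTensor
import Groth.Agent.H5.Stalk.Tensor
import Groth.Agent.H67.BasisLocal

/-!
# Stalkwise global generation (helper18)

`IsGGAt G x`: the stalk `G_x` is spanned by the germs of the global sections of `G`.
A module which is generated by global sections at every point is a quotient of a free module.
-/

set_option autoImplicit false
universe u
open CategoryTheory CategoryTheory.Limits AlgebraicGeometry TopologicalSpace Opposite TensorProduct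

namespace Groth.Agent.H18.STL

open Groth.Agent.H18 Groth.Agent.H18.PUP Groth.Agent.H5.Stalk

variable {X : Scheme.{u}}

/-- the submodule of `G_x` spanned by the germs of global sections -/
noncomputable def globSpan (G : X.Modules) (x : X) :
    Submodule (X.presheaf.stalk x) ((stalkFunctor x).obj G) :=
  Submodule.span _ (Set.range fun s : Γ(G, (⊤ : X.Opens)) =>
    (G.presheaf.germ ⊤ x trivial s : (stalkFunctor x).obj G))

/-- `G` is generated by its global sections at `x` -/
def IsGGAt (G : X.Modules) (x : X) : Prop := globSpan G x = ⊤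

theorem germ_mem_globSpan (G : X.Modules) (x : X) (s : Γ(G, (⊤ : X.Opens))) :
    (G.presheaf.germ ⊤ x trivial s : (stalkFunctor x).obj G) ∈ globSpan G x :=
  Submodule.subset_span ⟨s, rfl⟩

/-- morphisms map the span of global sections into the span of global sections -/
theorem map_globSpan_le {G G' : X.Modules} (φ : G ⟶ G') (x : X) :
    (globSpan G x).map ((stalkFunctor x).map φ).hom ≤ globSpan G' x := by
  rw [globSpan, Submodule.map_span]
  refine Submodule.span_le.2 ?_
  rintro _ ⟨_, ⟨s, rfl⟩, rfl⟩
  rw [stalkFunctor_map_germ]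
  exact germ_mem_globSpan G' x _

/-- global generation at a point passes to quotients (at that point) -/
theorem IsGGAt.of_surjective {G G' : X.Modules} {x : X} (h : IsGGAt G x) (φ : G ⟶ G')
    (hφ : Function.Surjective ((stalkFunctor x).map φ).hom) : IsGGAt G' x := by
  unfold IsGGAt at h ⊢
  rw [eq_top_iff]
  refine le_trans ?_ (map_globSpan_le φ x)
  rw [h, Submodule.map_top, LinearMap.range_eq_top.2 hφ]

/-- a module generated by global sections at every point is a quotient of a free module -/
theorem exists_epi_free_of_forall_isGGAt {G : X.Modules} (h : ∀ x : X, IsGGAt G x) :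
    ∃ (ι : Type u) (p : (SheafOfModules.free ι : X.Modules) ⟶ G), Epi p := by
  let A : X.Modules := SheafOfModules.free Γ(G, (⊤ : X.Opens))
  let p : A ⟶ G :=
    Sigma.desc (f := fun _ : Γ(G, (⊤ : X.Opens)) => Coh.structureModule X) (fun t => sectionHom G t)
  let it : ∀ _ : Γ(G, (⊤ : X.Opens)), Coh.structureModule X ⟶ A := fun t => SheafOfModules.ιFree t
  have hp : ∀ t, it t ≫ p = sectionHom G t := fun t =>
    Sigma.ι_desc (f := fun _ : Γ(G, (⊤ : X.Opens)) => Coh.structureModule X) _ t
  refine ⟨Γ(G, (⊤ : X.Opens)), p, ?_⟩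
  refine Groth.Agent.H5.PullbackTensor.epi_of_epi_stalkFunctor_map p (fun x => ?_)
  rw [ModuleCat.epi_iff_surjective]
  have hx := h x
  unfold IsGGAt at hx
  rw [← LinearMap.range_eq_top, eq_top_iff, ← hx, globSpan]
  refine Submodule.span_le.2 ?_
  rintro _ ⟨t, rfl⟩
  refine ⟨A.presheaf.germ ⊤ x trivial ((it t).app ⊤ (1 : Γ(X, (⊤ : X.Opens)))), ?_⟩
  rw [stalkFunctor_map_germ]
  congr 1
  have h1 : p.app ⊤ ((it t).app ⊤ (1 : Γ(X, (⊤ : X.Opens)))) =
      (it t ≫ p).app ⊤ (1 : Γ(X, (⊤ : X.Opens))) := rfl
  rw [h1, hp, sectionHom_app_one, mres_self]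

/-- pure algebra: if the `m j` span `M` and `e` spans `N`, the `m j ⊗ e` span `M ⊗ N` -/
theorem span_tmul_eq_top {R M N : Type*} [CommRing R] [AddCommGroup M] [Module R M]
    [AddCommGroup N] [Module R N] {ι : Type*} (m : ι → M) (e : N)
    (hm : Submodule.span R (Set.range m) = ⊤) (he : Submodule.span R {e} = ⊤) :
    Submodule.span R (Set.range fun j => m j ⊗ₜ[R] e) = ⊤ := by
  rw [eq_top_iff, ← TensorProduct.span_tmul_eq_top]
  refine Submodule.span_le.2 ?_
  rintro _ ⟨m', n', rfl⟩
  obtain ⟨r, rfl⟩ : ∃ r : R, r • e = n' := by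
    have : n' ∈ Submodule.span R {e} := he ▸ Submodule.mem_top
    exact Submodule.mem_span_singleton.1 this
  have hm' : m' ∈ Submodule.span R (Set.range m) := hm ▸ Submodule.mem_top
  induction hm' using Submodule.span_induction with
  | mem a ha =>
    obtain ⟨j, rfl⟩ := ha
    rw [TensorProduct.tmul_smul]
    exact Submodule.smul_mem _ _ (Submodule.subset_span ⟨j, rfl⟩)
  | zero => rw [TensorProduct.zero_tmul]; exact Submodule.zero_mem _
  | add a b _ _ iha ihb => rw [TensorProduct.add_tmul]; exact Submodule.add_mem _ iha ihb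
  | smul c a _ iha => rw [← TensorProduct.smul_tmul']; exact Submodule.smul_mem _ _ iha

/-- pure algebra: image of the previous lemma under a surjective linear map -/
theorem span_map_tmul_eq_top {R M N P : Type*} [CommRing R] [AddCommGroup M] [Module R M]
    [AddCommGroup N] [Module R N] [AddCommGroup P] [Module R P] (β : M ⊗[R] N →ₗ[R] P)
    (hβ : Function.Surjective β) {ι : Type*} (m : ι → M) (e : N)
    (hm : Submodule.span R (Set.range m) = ⊤) (he : Submodule.span R {e} = ⊤) :
    Submodule.span R (Set.range fun j => β (m j ⊗ₜ[R] e)) = ⊤ := by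
  have h1 := span_tmul_eq_top m e hm he
  have h2 : Submodule.map β (Submodule.span R (Set.range fun j => m j ⊗ₜ[R] e)) = ⊤ := by
    rw [h1, Submodule.map_top, LinearMap.range_eq_top.2 hβ]
  rw [← h2, Submodule.map_span]
  congr 1
  ext y
  constructor
  · rintro ⟨j, rfl⟩; exact ⟨_, ⟨j, rfl⟩, rfl⟩
  · rintro ⟨_, ⟨j, rfl⟩, rfl⟩; exact ⟨j, rfl⟩

/-- generation of `F ⊗ E` at `x` by sections of the form `h j ⊗ e`, `e` a local basis of `E` -/
theorem isGGAt_tensorMod_of_basis (F E : X.Modules) {U : X.Opens} {x : X} (hx : x ∈ U)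
    {e : Γ(E, U)} (he : IsBasisOn E U e) {ι : Type*} (h : ι → Γ(F, U))
    (hspan : Submodule.span (X.presheaf.stalk x) (Set.range fun j =>
      (F.presheaf.germ U x hx (h j) : (stalkFunctor x).obj F)) = ⊤)
    (σ : ι → Γ(CohB1.tensorMod F E, (⊤ : X.Opens)))
    (hσ : ∀ j, mres (CohB1.tensorMod F E) (le_top : U ≤ ⊤) (σ j) = SecTwist.tmul F E U (h j) e) :
    IsGGAt (CohB1.tensorMod F E) x := by
  have he' : Submodule.span (X.presheaf.stalk x)
      {(E.presheaf.germ U x hx e : (stalkFunctor x).obj E)} = ⊤ := by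
    rw [eq_top_iff]
    intro b _
    obtain ⟨r, hr⟩ := (bijective_smul_germ_of_isBasisOn he x hx).2 b
    exact Submodule.mem_span_singleton.2 ⟨r, hr⟩
  have hβ : Function.Surjective (Groth.Agent.H5.Stalk.Tensor.β x F E).hom := by
    have : IsIso (Groth.Agent.H5.Stalk.Tensor.β x F E) :=
      (inferInstance : IsIso (Groth.Agent.H5.Stalk.Tensor.stalkTensorIso x F E).inv)
    exact (ModuleCat.epi_iff_surjective _).1 inferInstance
  have h1 := span_map_tmul_eq_top (R := X.presheaf.stalk x)
    (Groth.Agent.H5.Stalk.Tensor.β x F E).hom hβ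
    (fun j => (F.presheaf.germ U x hx (h j) : (stalkFunctor x).obj F))
    (E.presheaf.germ U x hx e : (stalkFunctor x).obj E) hspan he'
  unfold IsGGAt
  rw [eq_top_iff, ← h1]
  refine Submodule.span_le.2 ?_
  rintro _ ⟨j, rfl⟩
  have h3 := Groth.Agent.H5.Stalk.Tensor.β_tmul x F E U hx (h j) e
  have h4 : (CohB1.tensorMod F E).presheaf.germ U x hx (SecTwist.tmul F E U (h j) e) =
      (CohB1.tensorMod F E).presheaf.germ ⊤ x trivial (σ j) := by
    rw [← hσ j]
    exact TopCat.Presheaf.germ_res_apply _ (homOfLE (le_top : U ≤ ⊤)) x hx (σ j)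
  have h5 : (Groth.Agent.H5.Stalk.Tensor.β x F E).hom
      ((F.presheaf.germ U x hx (h j) : (stalkFunctor x).obj F) ⊗ₜ[X.presheaf.stalk x]
        (E.presheaf.germ U x hx e : (stalkFunctor x).obj E)) =
      (CohB1.tensorMod F E).presheaf.germ ⊤ x trivial (σ j) := h3.trans h4
  change (Groth.Agent.H5.Stalk.Tensor.β x F E).hom
      ((F.presheaf.germ U x hx (h j) : (stalkFunctor x).obj F) ⊗ₜ[X.presheaf.stalk x]
        (E.presheaf.germ U x hx e : (stalkFunctor x).obj E)) ∈ globSpan (CohB1.tensorMod F E) x
  rw [h5]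
  exact germ_mem_globSpan _ x (σ j)

/-- tensoring a stalkwise surjective morphism with a module gives a stalkwise surjective
morphism -/
theorem surjective_stalk_tensorMap_right (F : X.Modules) {E E' : X.Modules} (ψ : E ⟶ E') (x : X)
    (hψ : Function.Surjective ((stalkFunctor x).map ψ).hom) :
    Function.Surjective ((stalkFunctor x).map (KoszTw.tensorMap (𝟙 F) ψ)).hom := by
  have hnat := Groth.Agent.H5.Stalk.Tensor.stalkTensorIso_hom_naturality x (𝟙 F) ψ
  have h1 : (stalkFunctor x).map (KoszTw.tensorMap (𝟙 F) ψ) =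
      (Groth.Agent.H5.Stalk.Tensor.stalkTensorIso x F E).hom ≫
        (MonoidalCategoryStruct.tensorHom ((stalkFunctor x).map (𝟙 F)) ((stalkFunctor x).map ψ)) ≫
          (Groth.Agent.H5.Stalk.Tensor.stalkTensorIso x F E').inv := by
    rw [← Category.assoc, ← hnat, Category.assoc, Iso.hom_inv_id, Category.comp_id]
  have h2 : Epi (MonoidalCategoryStruct.tensorHom ((stalkFunctor x).map (𝟙 F)) ((stalkFunctor x).map ψ)) := by
    refine (ModuleCat.epi_iff_surjective _).2 ?_
    change Function.Surjective (TensorProduct.map ((stalkFunctor x).map (𝟙 F)).hom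
      ((stalkFunctor x).map ψ).hom)
    refine TensorProduct.map_surjective ?_ hψ
    rw [CategoryTheory.Functor.map_id]
    exact Function.surjective_id
  rw [← ModuleCat.epi_iff_surjective, h1]
  infer_instance

/-- a section of an invertible module is stalkwise surjective on its locus of generation -/
theorem surjective_stalk_of_mem_genLocus {B : X.Modules} (hB : PicF.IsInvertible B)
    (u : Coh.structureModule X ⟶ B) {x : X} (hx : x ∈ CohB1.genLocus B u) :
    Function.Surjective ((stalkFunctor x).map u).hom := by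
  have he := Groth.Agent.H67.BasisLocal.isBasisOn_genLocus hB u
  intro b
  obtain ⟨r, hr⟩ := (bijective_smul_germ_of_isBasisOn he x hx).2 b
  refine ⟨r • Groth.Agent.H5.Stalk.Tensor.gm x (Coh.structureModule X) (CohB1.genLocus B u) hx
    (oneSec X (CohB1.genLocus B u)), ?_⟩
  refine ((((stalkFunctor x).map u).hom).map_smul r _).trans ?_
  rw [Groth.Agent.H5.Stalk.Tensor.stalkFunctor_map_gm]
  have h1 : u.app (CohB1.genLocus B u) (oneSec X (CohB1.genLocus B u)) =
      SecTwist.val u (CohB1.genLocus B u) := by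
    have := app_eq_smul_val u (CohB1.genLocus B u) (1 : Γ(X, CohB1.genLocus B u))
    rw [one_smul] at this
    exact this
  rw [h1]
  exact hr

/-- multiplication by a section `u` of `B`, as a morphism `A ⟶ A ⊗ B` -/
noncomputable def mulSection (A : X.Modules) {B : X.Modules} (u : Coh.structureModule X ⟶ B) :
    A ⟶ CohB1.tensorMod A B :=
  (SecTwist.unitorR A).inv ≫ KoszTw.tensorMap (𝟙 A) u

theorem surjective_stalk_mulSection (A : X.Modules) {B : X.Modules} (hB : PicF.IsInvertible B)
    (u : Coh.structureModule X ⟶ B) {x : X} (hx : x ∈ CohB1.genLocus B u) :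
    Function.Surjective ((stalkFunctor x).map (mulSection A u)).hom := by
  unfold mulSection
  rw [CategoryTheory.Functor.map_comp, ← ModuleCat.epi_iff_surjective]
  have h1 : Epi ((stalkFunctor x).map (KoszTw.tensorMap (𝟙 A) u)) :=
    (ModuleCat.epi_iff_surjective _).2
      (surjective_stalk_tensorMap_right A u x (surjective_stalk_of_mem_genLocus hB u hx))
  infer_instance

end Groth.Agent.H18.STL
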