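import Groth.Agent.H67.PullGenLocus
import Groth.Agent.H18.STL.RelAmple

/-!
# Pullback of covers, cocycles and modules with cocycles along a morphism (helper18)
-/

set_option autoImplicit false
universe u
open CategoryTheory CategoryTheory.Limits AlgebraicGeometry TopologicalSpace Opposite TensorProduct

namespace Groth.Agent.H18.STL

open Groth.Agent.H18 Groth.Agent.H18.PUP

variable {Z S : Scheme.{u}} (u : Z ⟶ S)

/-- the pullback of a cover -/
def Cover.pull (𝔘 : Cover S) : Cover Z where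
  ι := 𝔘.ι
  W i := u ⁻¹ᵁ 𝔘.W i
  cov z := 𝔘.cov (u z)

variable (𝔘 : Cover S)

/-- the pullback of a cocycle -/
noncomputable def Cover.Cocycle.pull (c : 𝔘.Cocycle) : (𝔘.pull u).Cocycle :=
  fun i j => (u.app (𝔘.W i ⊓ 𝔘.W j)).hom (c i j)

theorem Cover.Cocycle.pull_mul (c d : 𝔘.Cocycle) :
    (c * d).pull u 𝔘 = c.pull u 𝔘 * d.pull u 𝔘 := by
  funext i j
  exact map_mul (u.app (𝔘.W i ⊓ 𝔘.W j)).hom _ _

theorem Cover.Cocycle.pull_pow (c : 𝔘.Cocycle) (n : ℕ) :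
    (c ^ n).pull u 𝔘 = c.pull u 𝔘 ^ n := by
  funext i j
  exact map_pow (u.app (𝔘.W i ⊓ 𝔘.W j)).hom _ _

variable {𝔘}

theorem HasCocycle.pull {c : 𝔘.Cocycle} {M : S.Modules} {β : ∀ i, Γ(M, 𝔘.W i)}
    (h : HasCocycle 𝔘 c M β) :
    HasCocycle (𝔘.pull u) (c.pull u 𝔘) ((Scheme.Modules.pullback u).obj M)
      (fun i => Groth.Agent.H54.PB.pullSect u M (𝔘.W i) (β i)) where
  basis i := Groth.Agent.H67.PullBasis.isBasisOn_pullSect u M _ _ (h.basis i)
  trans i j := by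
    have h1 := Groth.Agent.H54.PB.pullSect_mres u M (inf_le_right : 𝔘.W i ⊓ 𝔘.W j ≤ 𝔘.W j) (β j)
    have h2 := Groth.Agent.H54.PB.pullSect_mres u M (inf_le_left : 𝔘.W i ⊓ 𝔘.W j ≤ 𝔘.W i) (β i)
    have h3 := congrArg (Groth.Agent.H54.PB.pullSect u M (𝔘.W i ⊓ 𝔘.W j)) (h.trans i j)
    rw [Groth.Agent.H54.PB.pullSect_smul, h1, h2] at h3
    exact h3

/-- sections of `u^*(L^{⊗ N})` and of `(u^* L)^{⊗ N}` correspond -/
theorem exists_transfer_pullback_tensorPow {L : S.Modules} (hL : PicF.IsInvertible L) (N : ℕ) :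
    (∀ s : Coh.structureModule Z ⟶ (Scheme.Modules.pullback u).obj (CohB1.tensorPow L N),
      ∃ s' : Coh.structureModule Z ⟶ CohB1.tensorPow ((Scheme.Modules.pullback u).obj L) N,
        CohB1.genLocus _ s' = CohB1.genLocus _ s) ∧
    (∀ s' : Coh.structureModule Z ⟶ CohB1.tensorPow ((Scheme.Modules.pullback u).obj L) N,
      ∃ s : Coh.structureModule Z ⟶ (Scheme.Modules.pullback u).obj (CohB1.tensorPow L N),
        CohB1.genLocus _ s = CohB1.genLocus _ s') := by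
  obtain ⟨𝔘, c, e, h⟩ := exists_cover_cocycle hL
  have w₁ := (h.lpow N).pull u
  have w₂ := (h.pull u).lpow N
  rw [Cover.Cocycle.pull_pow] at w₁
  constructor
  · intro s
    obtain ⟨s', -, hs'⟩ := w₁.exists_transfer w₂ s
    exact ⟨s', hs'⟩
  · intro s'
    obtain ⟨s, -, hs⟩ := w₂.exists_transfer w₁ s'
    exact ⟨s, hs⟩

end Groth.Agent.H18.STL
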