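import Groth.Agent.H18.STL.PullQuasiAffine

/-!
# Relative ampleness and pullback along quasi-affine morphisms (helper18)
-/

set_option autoImplicit false
universe u
open CategoryTheory CategoryTheory.Limits AlgebraicGeometry TopologicalSpace Opposite TensorProduct

namespace Groth.Agent.H18.STL

open Groth.Agent.H18 Groth.Agent.H18.PUP

variable {X' X Y : Scheme.{u}}

/-- quasi-affineness only depends on the range of an open immersion -/
theorem isQuasiAffine_of_range_eq {Z Z' : Scheme.{u}} (j : Z ⟶ X) [IsOpenImmersion j]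
    (j' : Z' ⟶ X) [IsOpenImmersion j'] (h : Set.range j' = Set.range j) [Z.IsQuasiAffine] :
    Z'.IsQuasiAffine := by
  let e : Z' ≅ Z := IsOpenImmersion.isoOfRangeEq j' j h
  haveI : CompactSpace Z' := (Scheme.homeoOfIso e).symm.compactSpace
  exact Scheme.IsQuasiAffine.of_isImmersion e.hom

/-- the restriction of a quasi-affine morphism over an open of the target is quasi-affine -/
theorem isQuasiAffine_morphismRestrict (g : X' ⟶ X)
    (hgqa : ∀ V : X.Opens, IsAffineOpen V → Scheme.IsQuasiAffine (g ⁻¹ᵁ V : Scheme.{u}))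
    (W : X.Opens) (A : (W : Scheme.{u}).Opens) (hA : IsAffineOpen A) :
    Scheme.IsQuasiAffine ((g ∣_ W) ⁻¹ᵁ A : Scheme.{u}) := by
  haveI := hgqa (W.ι ''ᵁ A) (hA.image_of_isOpenImmersion _)
  refine isQuasiAffine_of_range_eq (g ⁻¹ᵁ (W.ι ''ᵁ A)).ι
    (((g ∣_ W) ⁻¹ᵁ A).ι ≫ (g ⁻¹ᵁ W).ι) ?_
  rw [Scheme.Opens.range_ι, ← image_morphismRestrict_preimage]
  simp only [Scheme.Hom.comp_base, TopCat.coe_comp, Set.range_comp, Scheme.Opens.range_ι]
  rfl

/-- EGA II 5.1.12, relative version: the pullback of a relatively ample module along a quasi-affine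
morphism is relatively ample -/
theorem isRelAmple_pullback_of_isQuasiAffine (f : X ⟶ Y) [QuasiCompact f] (g : X' ⟶ X)
    (hgqc : QuasiCompact g)
    (hgqa : ∀ V : X.Opens, IsAffineOpen V → Scheme.IsQuasiAffine (g ⁻¹ᵁ V : Scheme.{u}))
    {L : X.Modules} (hL : RelAmple.IsRelAmple f L) :
    RelAmple.IsRelAmple (g ≫ f) ((Scheme.Modules.pullback g).obj L) := by
  refine ⟨inferInstance, fun V => ?_⟩
  have h1 := isAmple_pullback_of_isQuasiAffine (g ∣_ (f ⁻¹ᵁ V.1)) inferInstance
    (isQuasiAffine_morphismRestrict g hgqa (f ⁻¹ᵁ V.1)) (hL.2 V)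
  exact isAmple_of_iso (Groth.Agent.H67.PullBasis.pbRestrictIso g (f ⁻¹ᵁ V.1) L).symm h1

end Groth.Agent.H18.STL
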