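import Groth.Agent.H18.STL.QuasiAffine

/-!
# Invertible modules on quasi-affine schemes are ample: main theorem (helper18)
-/

set_option autoImplicit false
universe u
open CategoryTheory CategoryTheory.Limits AlgebraicGeometry TopologicalSpace Opposite TensorProduct

namespace Groth.Agent.H18.STL

open Groth.Agent.H18 Groth.Agent.H18.PUP

variable {X : Scheme.{u}}

/-- for an affine basic open `X_r` on which `L` is trivial, there is a section of `L^{⊗ 1}` whose
locus of generation is `X_r` -/
theorem exists_section_genLocus_eq_basicOpen [CompactSpace X] [QuasiSeparatedSpace X]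
    {L : X.Modules} (hL : PicF.IsInvertible L) (r : Γ(X, (⊤ : X.Opens)))
    {U : X.Opens} {e : Γ(L, U)} (he : IsBasisOn L U e) (hrU : X.basicOpen r ≤ U) :
    ∃ b : Coh.structureModule X ⟶ CohB1.tensorPow L (0 + 1),
      CohB1.genLocus _ b = X.basicOpen r := by
  have hO : PicF.IsInvertible (Coh.structureModule X) :=
    Groth.Agent.H67.ParaExt.isInvertible_structureModule
  have hG : CohB1.genLocus (Coh.structureModule X) (funHom r) = X.basicOpen r := genLocus_funHom r
  have hGU : CohB1.genLocus (Coh.structureModule X) (funHom r) ≤ U := hG.le.trans hrU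
  haveI := isQuasicoherent_of_isInvertible hL
  set t₀ := mres L hGU e with ht₀_def
  have ht₀ : IsBasisOn L _ t₀ := he.mono hGU
  obtain ⟨m, -, t', ht'⟩ := exists_extension hO (funHom r) L t₀
  have hM₁inv : PicF.IsInvertible (CohB1.tensorMod L
      (CohB1.tensorPow (Coh.structureModule X) m)) :=
    isInvertible_tensorMod hL (isInvertible_tensorPow hO m)
  have hb₁val : SecTwist.val (sectionHom _ t') (CohB1.genLocus _ (funHom r)) =
      SecTwist.twist (funHom r) m L (CohB1.genLocus _ (funHom r))
        ((1 : Γ(X, CohB1.genLocus _ (funHom r))) • t₀) := by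
    rw [val_sectionHom, one_smul]
    exact ht'
  have h1 := genLocus_inf_of_twist' hO (funHom r) m L t₀ ht₀ 1 (sectionHom _ t') hb₁val
  have h1' : CohB1.genLocus (Coh.structureModule X) (funHom r) ≤
      CohB1.genLocus _ (sectionHom (CohB1.tensorMod L
        (CohB1.tensorPow (Coh.structureModule X) m)) t') := by
    have h3 : X.basicOpen (1 : Γ(X, CohB1.genLocus _ (funHom r))) =
        CohB1.genLocus _ (funHom r) := X.basicOpen_of_isUnit isUnit_one
    rw [h3] at h1
    exact inf_eq_right.1 h1
  have h2 : CohB1.genLocus _ (SecTwist.tmulHom (sectionHom _ t') (funHom r)) = X.basicOpen r := by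
    rw [Groth.Agent.S15745.result X _ _ hM₁inv hO (sectionHom _ t') (funHom r), inf_eq_right.2 h1',
      hG]
  obtain ⟨𝔄⟩ := nonempty_atlas hL
  have w₁ := ((hasWeight_self 𝔄).tmul ((hasWeight_unit 𝔄).lpow m)).tmul (hasWeight_unit 𝔄)
  have w₂ := hasWeight_tensorPow 𝔄 (0 + 1)
  have hw : 1 + 0 * m + 0 = 0 + 1 := by omega
  rw [hw] at w₁
  obtain ⟨b, -, hb⟩ := w₁.exists_transfer w₂ (SecTwist.tmulHom (sectionHom _ t') (funHom r))
  exact ⟨b, hb.trans h2⟩

/-- EGA II 5.1.2 (a) ⇒: every invertible module on a quasi-affine scheme is ample -/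
theorem isAmple_of_isQuasiAffine [X.IsQuasiAffine] {L : X.Modules} (hL : PicF.IsInvertible L) :
    CohB1.IsAmple L := by
  refine ⟨hL, inferInstance, fun x => ?_⟩
  obtain ⟨U, e, hxU, he⟩ := exists_basis_of_isInvertible hL x
  obtain ⟨_, ⟨r, hraff, rfl⟩, hxr, hrU⟩ :=
    Opens.isBasis_iff_nbhd.1 (Scheme.IsQuasiAffine.isBasis_basicOpen X) hxU
  obtain ⟨b, hb⟩ := exists_section_genLocus_eq_basicOpen hL r he hrU
  exact ⟨0, b, hb ▸ hxr, hb ▸ hraff⟩

end Groth.Agent.H18.STL
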