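import Groth.Agent.H18.STL.GlobGen
import Groth.Agent.H67.SepCover

/-!
# Existence of an ample module from a covering family of globally generated invertible modules
(helper18)
-/

set_option autoImplicit false
universe u
open CategoryTheory CategoryTheory.Limits AlgebraicGeometry TopologicalSpace Opposite TensorProduct

namespace Groth.Agent.H18.STL

open Groth.Agent.H18 Groth.Agent.H18.PUP

variable {X : Scheme.{u}}

/-- the tensor product of a list of modules -/
noncomputable def tensorList {ι : Type*} (L : ι → X.Modules) : List ι → X.Modules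
  | [] => Coh.structureModule X
  | y :: l => CohB1.tensorMod (L y) (tensorList L l)

theorem tensorList_spec {ι : Type*} (L : ι → X.Modules) (s : ∀ y, Coh.structureModule X ⟶ L y)
    (hinv : ∀ y, PicF.IsInvertible (L y))
    (hgen : ∀ y (x : X), ∃ t : Coh.structureModule X ⟶ L y, x ∈ CohB1.genLocus (L y) t)
    (l : List ι) :
    PicF.IsInvertible (tensorList L l) ∧
    (∀ x : X, ∃ b : Coh.structureModule X ⟶ tensorList L l, x ∈ CohB1.genLocus _ b) ∧
    (∀ y ∈ l, ∀ x ∈ CohB1.genLocus (L y) (s y), ∃ a : Coh.structureModule X ⟶ tensorList L l,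
      x ∈ CohB1.genLocus _ a ∧ CohB1.genLocus _ a ≤ CohB1.genLocus (L y) (s y)) := by
  induction l with
  | nil =>
    refine ⟨Groth.Agent.H67.ParaExt.isInvertible_structureModule, fun x => ⟨𝟙 _, ?_⟩, ?_⟩
    · change x ∈ CohB1.genLocus (Coh.structureModule X) (𝟙 _)
      rw [Groth.Agent.H67.SepCover.genLocus_id]; trivial
    · intro y hy
      exact absurd hy (List.not_mem_nil)
  | cons y₀ l ih =>
    obtain ⟨ih1, ih2, ih3⟩ := ih
    refine ⟨isInvertible_tensorMod (hinv y₀) ih1, fun x => ?_, fun y hy x hx => ?_⟩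
    · obtain ⟨t, ht⟩ := hgen y₀ x
      obtain ⟨b, hb⟩ := ih2 x
      refine ⟨SecTwist.tmulHom t b, ?_⟩
      change x ∈ CohB1.genLocus (CohB1.tensorMod (L y₀) (tensorList L l)) _
      rw [Groth.Agent.S15745.result X _ _ (hinv y₀) ih1 t b]
      exact ⟨ht, hb⟩
    · rcases List.mem_cons.1 hy with rfl | hy'
      · obtain ⟨b, hb⟩ := ih2 x
        refine ⟨SecTwist.tmulHom (s y) b, ?_, ?_⟩
        · change x ∈ CohB1.genLocus (CohB1.tensorMod (L y) (tensorList L l)) _
          rw [Groth.Agent.S15745.result X _ _ (hinv y) ih1 (s y) b]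
          exact ⟨hx, hb⟩
        · change CohB1.genLocus (CohB1.tensorMod (L y) (tensorList L l)) _ ≤ _
          rw [Groth.Agent.S15745.result X _ _ (hinv y) ih1 (s y) b]
          exact inf_le_left
      · obtain ⟨t, ht⟩ := hgen y₀ x
        obtain ⟨a', ha', hle⟩ := ih3 y hy' x hx
        refine ⟨SecTwist.tmulHom t a', ?_, ?_⟩
        · change x ∈ CohB1.genLocus (CohB1.tensorMod (L y₀) (tensorList L l)) _
          rw [Groth.Agent.S15745.result X _ _ (hinv y₀) ih1 t a']
          exact ⟨ht, ha'⟩
        · change CohB1.genLocus (CohB1.tensorMod (L y₀) (tensorList L l)) _ ≤ _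
          rw [Groth.Agent.S15745.result X _ _ (hinv y₀) ih1 t a']
          exact inf_le_right.trans hle

/-- if every point of the quasi-compact scheme `X` lies in an affine open `X_s` for a section `s`
of an invertible module which is pointwise generated by global sections, then `X` has an ample
module -/
theorem exists_isAmple_of_family [CompactSpace X]
    (h : ∀ x : X, ∃ (L : X.Modules) (s : Coh.structureModule X ⟶ L), PicF.IsInvertible L ∧
      (∀ x' : X, ∃ t : Coh.structureModule X ⟶ L, x' ∈ CohB1.genLocus L t) ∧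
      x ∈ CohB1.genLocus L s ∧ IsAffineOpen (CohB1.genLocus L s)) :
    ∃ M : X.Modules, CohB1.IsAmple M := by
  classical
  choose L s hinv hgen hx haff using h
  obtain ⟨T, hT⟩ := CompactSpace.elim_nhds_subcover
    (fun x => ((CohB1.genLocus (L x) (s x) : X.Opens) : Set X))
    (fun x => (CohB1.genLocus (L x) (s x)).isOpen.mem_nhds (hx x))
  obtain ⟨hM, -, hM3⟩ := tensorList_spec L s hinv hgen T.toList
  refine ⟨tensorList L T.toList, hM, inferInstance, fun x => ?_⟩
  have hxT : x ∈ ⋃ y ∈ T, ((CohB1.genLocus (L y) (s y) : X.Opens) : Set X) := hT ▸ Set.mem_univ x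
  simp only [Set.mem_iUnion] at hxT
  obtain ⟨y, hyT, hxy⟩ := hxT
  obtain ⟨a, hxa, hale⟩ := hM3 y (Finset.mem_toList.2 hyT) x hxy
  have haaff : IsAffineOpen (CohB1.genLocus _ a) :=
    isAffineOpen_genLocus_of_le hM a (haff y) hale
  obtain ⟨𝔄⟩ := nonempty_atlas hM
  obtain ⟨b, -, hb⟩ := (hasWeight_self 𝔄).exists_transfer (hasWeight_tensorPow 𝔄 (0 + 1)) a
  exact ⟨0, b, hb ▸ hxa, hb ▸ haaff⟩

end Groth.Agent.H18.STL
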