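import Groth.Agent.H18.STL.AmpleBasis

/-!
# `L` is ample iff `L^{⊗ n}` is ample (helper18)
-/

set_option autoImplicit false
universe u
open CategoryTheory CategoryTheory.Limits AlgebraicGeometry TopologicalSpace Opposite TensorProduct

namespace Groth.Agent.H18.STL

open Groth.Agent.H18 Groth.Agent.H18.PUP

variable {X : Scheme.{u}}

/-- the locus where a positive power of a section generates -/
theorem genLocus_powHom {L : X.Modules} (hL : PicF.IsInvertible L)
    (a : Coh.structureModule X ⟶ L) {n : ℕ} (hn : 0 < n) :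
    CohB1.genLocus (CohB1.tensorPow L n) (SecTwist.powHom a n) = CohB1.genLocus L a := by
  ext x
  obtain ⟨U, e, hxU, he⟩ := exists_basis_of_isInvertible hL x
  set f := he.coord le_rfl (SecTwist.val a U) with hf_def
  have hf : SecTwist.val a U = f • e := by
    have := he.coord_smul le_rfl (SecTwist.val a U)
    rw [mres_self] at this
    exact this.symm
  have hval : SecTwist.val (SecTwist.powHom a n) U = f ^ n • lpow L U e n := by
    rw [SecTwist.val_powHom, pow_eq_smul_lpow a U e f hf]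
  have h1 := genLocus_inf_eq_basicOpen a he f hf
  have h2 := genLocus_inf_eq_basicOpen (SecTwist.powHom a n) (isBasisOn_lpow he n) (f ^ n) hval
  rw [X.basicOpen_pow f hn, ← h1] at h2
  constructor
  · intro hx
    have : x ∈ CohB1.genLocus (CohB1.tensorPow L n) (SecTwist.powHom a n) ⊓ U := ⟨hx, hxU⟩
    rw [h2] at this
    exact this.1
  · intro hx
    have : x ∈ CohB1.genLocus L a ⊓ U := ⟨hx, hxU⟩
    rw [← h2] at this
    exact this.1

/-- ampleness only depends on the weight -/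
theorem isAmple_of_hasWeight {L : X.Modules} {𝔄 : Atlas L} {M M' : X.Modules} {N : ℕ}
    {β : ∀ i, Γ(M, 𝔄.W i)} {β' : ∀ i, Γ(M', 𝔄.W i)}
    (h : HasWeight 𝔄 M N β) (h' : HasWeight 𝔄 M' N β') (hM : CohB1.IsAmple M) :
    CohB1.IsAmple M' := by
  obtain ⟨-, hcpt, hcov⟩ := hM
  refine ⟨isInvertible_of_local_bases M' (fun x => ?_), hcpt, fun x => ?_⟩
  · obtain ⟨i, hi⟩ := 𝔄.cov x
    exact ⟨𝔄.W i, β' i, hi, h'.basis i⟩
  · obtain ⟨k, s, hxs, haff⟩ := hcov x
    obtain ⟨s', -, hs'⟩ := (h.lpow (k + 1)).exists_transfer (h'.lpow (k + 1)) s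
    exact ⟨k, s', hs' ▸ hxs, hs' ▸ haff⟩

theorem isAmple_tensorPow_iff {L : X.Modules} (hL : PicF.IsInvertible L) {n : ℕ} (hn : 0 < n) :
    CohB1.IsAmple L ↔ CohB1.IsAmple (CohB1.tensorPow L n) := by
  obtain ⟨𝔄⟩ := nonempty_atlas hL
  constructor
  · rintro ⟨-, hcpt, hcov⟩
    refine ⟨isInvertible_tensorPow hL n, hcpt, fun x => ?_⟩
    obtain ⟨k, a, hxa, haff⟩ := hcov x
    have hLk : PicF.IsInvertible (CohB1.tensorPow L (k + 1)) := isInvertible_tensorPow hL _
    -- `a^n`, a section of `(L^{k+1})^{⊗ n}`, of weight `(k+1) * n`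
    have hg := genLocus_powHom hLk a hn
    have w₁ := (hasWeight_tensorPow 𝔄 (k + 1)).lpow n
    have w₂ := (hasWeight_tensorPow 𝔄 n).lpow (k + 1)
    rw [mul_comm] at w₂
    obtain ⟨b, -, hb⟩ := w₁.exists_transfer w₂ (SecTwist.powHom a n)
    refine ⟨k, b, ?_, ?_⟩
    · rw [hb, hg]; exact hxa
    · rw [hb, hg]; exact haff
  · rintro ⟨-, hcpt, hcov⟩
    refine ⟨hL, hcpt, fun x => ?_⟩
    obtain ⟨k, a, hxa, haff⟩ := hcov x
    obtain ⟨k', hk'⟩ : ∃ k', n * (k + 1) = k' + 1 :=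
      Nat.exists_eq_succ_of_ne_zero (Nat.mul_ne_zero hn.ne' (Nat.succ_ne_zero k))
    have w₁ := (hasWeight_tensorPow 𝔄 n).lpow (k + 1)
    have w₂ := hasWeight_tensorPow 𝔄 (k' + 1)
    rw [hk'] at w₁
    obtain ⟨b, -, hb⟩ := w₁.exists_transfer w₂ a
    refine ⟨k', b, ?_, ?_⟩
    · rw [hb]; exact hxa
    · rw [hb]; exact haff

end Groth.Agent.H18.STL
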