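import Groth.Agent.H18.STL.Cocycle

/-!
# Tensor products of ample modules (helper18)
-/

set_option autoImplicit false
universe u
open CategoryTheory CategoryTheory.Limits AlgebraicGeometry TopologicalSpace Opposite TensorProduct

namespace Groth.Agent.H18.STL

open Groth.Agent.H18 Groth.Agent.H18.PUP

variable {X : Scheme.{u}}

/-- EGA II 4.5.6 (i): `L` ample, `L'` invertible and pointwise generated by sections of its
positive powers: `L ⊗ L'` is ample -/
theorem isAmple_tensorMod_of_generated {L L' : X.Modules} (hL : CohB1.IsAmple L)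
    (hL' : PicF.IsInvertible L')
    (h : ∀ x : X, ∃ (n : ℕ) (s' : Coh.structureModule X ⟶ CohB1.tensorPow L' (n + 1)),
      x ∈ CohB1.genLocus _ s') :
    CohB1.IsAmple (CohB1.tensorMod L L') := by
  have hLi : PicF.IsInvertible L := hL.1
  refine ⟨isInvertible_tensorMod hLi hL', hL.2.1, fun x => ?_⟩
  obtain ⟨𝔘, e, e', he, he'⟩ := exists_common_cover hLi hL'
  have hc := hasCocycle_cocycleOf 𝔘 he
  have hc' := hasCocycle_cocycleOf 𝔘 he'
  set c := cocycleOf 𝔘 he with hc_def
  set c' := cocycleOf 𝔘 he' with hc'_def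
  obtain ⟨n', s', hxs'⟩ := h x
  obtain ⟨k, b, hxb, hbs', hbaff⟩ := exists_genLocus_nhd_of_isAmple hL _ x hxs'
  have hLk : PicF.IsInvertible (CohB1.tensorPow L (k + 1)) := isInvertible_tensorPow hLi _
  have hLn' : PicF.IsInvertible (CohB1.tensorPow L' (n' + 1)) := isInvertible_tensorPow hL' _
  have g1 := genLocus_powHom hLk b (Nat.succ_pos n')
  have g2 := genLocus_powHom hLn' s' (Nat.succ_pos k)
  have g3 : CohB1.genLocus _ (SecTwist.tmulHom (SecTwist.powHom b (n' + 1))
      (SecTwist.powHom s' (k + 1))) = CohB1.genLocus _ b := by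
    rw [Groth.Agent.S15745.result X _ _ (isInvertible_tensorPow hLk _)
      (isInvertible_tensorPow hLn' _), g1, g2]
    exact inf_eq_left.2 hbs'
  have w₁ := ((hc.lpow (k + 1)).lpow (n' + 1)).tmul ((hc'.lpow (n' + 1)).lpow (k + 1))
  have w₂ := (hc.tmul hc').lpow ((k + 1) * n' + k + 1)
  have hcoc : (c ^ (k + 1)) ^ (n' + 1) * (c' ^ (n' + 1)) ^ (k + 1) =
      (c * c') ^ ((k + 1) * n' + k + 1) := by
    rw [← pow_mul, ← pow_mul, mul_pow]
    congr 2 <;> ring
  rw [hcoc] at w₁
  obtain ⟨b', -, hb'⟩ := w₁.exists_transfer w₂ _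
  refine ⟨(k + 1) * n' + k, b', ?_, ?_⟩
  · rw [hb', g3]; exact hxb
  · rw [hb', g3]; exact hbaff

end Groth.Agent.H18.STL
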