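import Groth.Agent.H18.STL.GenAt
import Groth.Agent.H18.STL.QuasiAffine2

/-!
# Ampleness is local for covers by basic opens `X_r` of global functions (helper18)

EGA II 4.6.4 (the key step): if `X` is quasi-compact and covered by the opens `X_{r_i}` of global
functions `r_i`, and the restriction of `L` to each `X_{r_i}` is ample, then `L` is ample.
-/

set_option autoImplicit false
universe u
open CategoryTheory CategoryTheory.Limits AlgebraicGeometry TopologicalSpace Opposite TensorProduct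

namespace Groth.Agent.H18.STL

open Groth.Agent.H18 Groth.Agent.H18.PUP

variable {X : Scheme.{u}}

/-- a section of a power of `L|_{X_r}` extends, after multiplication by a power of `r`, to a global
section of the same power of `L` with the same locus of generation -/
theorem exists_section_of_restrict_basicOpen [CompactSpace X] [QuasiSeparatedSpace X]
    {L : X.Modules} (hL : PicF.IsInvertible L) (r : Γ(X, (⊤ : X.Opens))) (k : ℕ)
    (s' : Coh.structureModule (X.basicOpen r : Scheme.{u}) ⟶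
      CohB1.tensorPow (L.restrict (X.basicOpen r).ι) (k + 1)) :
    ∃ a : Coh.structureModule X ⟶ CohB1.tensorPow L (k + 1),
      CohB1.genLocus _ a = (X.basicOpen r).ι ''ᵁ CohB1.genLocus _ s' := by
  obtain ⟨s, hs⟩ := (exists_transfer_restrict_tensorPow hL (X.basicOpen r) (k + 1)).2 s'
  have hF : PicF.IsInvertible (CohB1.tensorPow L (k + 1)) := isInvertible_tensorPow hL (k + 1)
  haveI := isQuasicoherent_of_isInvertible hF
  have hO : PicF.IsInvertible (Coh.structureModule X) :=
    Groth.Agent.H67.ParaExt.isInvertible_structureModule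
  have hG : CohB1.genLocus (Coh.structureModule X) (funHom r) = X.basicOpen r := genLocus_funHom r
  have hGle : CohB1.genLocus (Coh.structureModule X) (funHom r) ≤ (X.basicOpen r).ι ''ᵁ ⊤ := by
    rw [Scheme.Opens.ι_image_top]; exact hG.le
  obtain ⟨m, -, t', ht'⟩ := exists_extension hO (funHom r) (CohB1.tensorPow L (k + 1))
    (mres (CohB1.tensorPow L (k + 1)) hGle
      (show Γ(CohB1.tensorPow L (k + 1), (X.basicOpen r).ι ''ᵁ ⊤) from SecTwist.val s ⊤))
  have hM₁inv : PicF.IsInvertible (CohB1.tensorMod (CohB1.tensorPow L (k + 1))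
      (CohB1.tensorPow (Coh.structureModule X) m)) :=
    isInvertible_tensorMod hF (isInvertible_tensorPow hO m)
  have h2 := Groth.Agent.S15745.result X _ _ hM₁inv hO (sectionHom _ t') (funHom r)
  have claim : CohB1.genLocus _ (sectionHom (CohB1.tensorMod (CohB1.tensorPow L (k + 1))
      (CohB1.tensorPow (Coh.structureModule X) m)) t') ⊓
        CohB1.genLocus (Coh.structureModule X) (funHom r) =
      (X.basicOpen r).ι ''ᵁ CohB1.genLocus _ s := by
    have key : ∀ (z : (X.basicOpen r : Scheme.{u}))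
        (hyG : (X.basicOpen r).ι z ∈ CohB1.genLocus (Coh.structureModule X) (funHom r)),
        ((X.basicOpen r).ι z ∈ CohB1.genLocus _ (sectionHom (CohB1.tensorMod
          (CohB1.tensorPow L (k + 1)) (CohB1.tensorPow (Coh.structureModule X) m)) t') ↔
          z ∈ CohB1.genLocus _ s) := by
      intro z hyG
      rw [mem_genLocus_iff_isGenAt _ hyG, val_sectionHom, ht',
        isGenAt_twist_iff hO hF (funHom r) m le_rfl _ hyG, isGenAt_mres_iff hGle _ hyG]
      refine Iff.trans ?_ (mem_genLocus_iff_isGenAt s (W := ⊤) (x := z) trivial).symm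
      exact (isGenAt_restrict_iff (X.basicOpen r).ι (V' := ⊤)
        (show Γ(CohB1.tensorPow L (k + 1), (X.basicOpen r).ι ''ᵁ ⊤) from SecTwist.val s ⊤)
        (z := z)).symm
    ext y
    constructor
    · rintro ⟨hyb, hyG⟩
      have hyU : y ∈ X.basicOpen r := hG ▸ hyG
      exact ⟨⟨y, hyU⟩, (key ⟨y, hyU⟩ hyG).1 hyb, rfl⟩
    · rintro ⟨z, hz, rfl⟩
      have hyG : (X.basicOpen r).ι z ∈ CohB1.genLocus (Coh.structureModule X) (funHom r) :=
        hG.symm ▸ z.2
      exact ⟨(key z hyG).2 hz, hyG⟩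
  obtain ⟨𝔄⟩ := nonempty_atlas hL
  have w₁ := ((hasWeight_tensorPow 𝔄 (k + 1)).tmul ((hasWeight_unit 𝔄).lpow m)).tmul
    (hasWeight_unit 𝔄)
  have w₂ := hasWeight_tensorPow 𝔄 (k + 1)
  have hw : k + 1 + 0 * m + 0 = k + 1 := by omega
  rw [hw] at w₁
  obtain ⟨a, -, ha⟩ := w₁.exists_transfer w₂ (SecTwist.tmulHom (sectionHom _ t') (funHom r))
  exact ⟨a, ha.trans (h2.trans (claim.trans (by rw [hs])))⟩

/-- a scheme covered by opens `X_{r_i}` of global functions carrying ample modules is
quasi-separated -/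
theorem quasiSeparatedSpace_of_basicOpen_cover {L : X.Modules} {ι : Type*}
    (r : ι → Γ(X, (⊤ : X.Opens))) (hcov : ∀ x : X, ∃ i, x ∈ X.basicOpen (r i))
    (hA : ∀ i, CohB1.IsAmple (L.restrict (X.basicOpen (r i)).ι)) : QuasiSeparatedSpace X := by
  choose i hi using hcov
  have hex : ∀ x : X, ∃ A : X.Opens, IsAffineOpen A ∧ x ∈ A ∧ A ≤ X.basicOpen (r (i x)) := by
    intro x
    obtain ⟨n, s', hz, haff⟩ := (hA (i x)).2.2 ⟨x, hi x⟩
    exact ⟨(X.basicOpen (r (i x))).ι ''ᵁ CohB1.genLocus _ s',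
      haff.image_of_isOpenImmersion _, ⟨⟨x, hi x⟩, hz, rfl⟩, image_ι_le _ _⟩
  choose A hAaff hxA hAle using hex
  refine Scheme.quasiSeparatedSpace_of_isOpenCover A ?_ hAaff (fun x y => ?_)
  · apply IsOpenCover.mk
    exact top_le_iff.mp (fun x _ ↦ by simpa using ⟨x, hxA x⟩)
  · have hP : IsCompact ((A x ⊓ X.basicOpen (r (i y)) : X.Opens) : Set X) := by
      have h1 := ((hAaff x).basicOpen (rres X (le_top : A x ≤ ⊤) (r (i y)))).isCompact
      rwa [rres, Scheme.basicOpen_res] at h1
    have hQ : IsCompact ((A y ⊓ X.basicOpen (r (i x)) : X.Opens) : Set X) := by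
      have h1 := ((hAaff y).basicOpen (rres X (le_top : A y ≤ ⊤) (r (i x)))).isCompact
      rwa [rres, Scheme.basicOpen_res] at h1
    have hqs : QuasiSeparatedSpace (X.basicOpen (r (i y)) : Scheme.{u}) :=
      quasiSeparatedSpace_of_cover (hA (i y)).1 (hA (i y)).2.2
    have hqs' : IsQuasiSeparated ((X.basicOpen (r (i y)) : X.Opens) : Set X) :=
      (isQuasiSeparated_iff_quasiSeparatedSpace _ (X.basicOpen (r (i y))).isOpen).2 hqs
    have h3 := hqs' _ _ (fun p hp => hp.2) (A x ⊓ X.basicOpen (r (i y))).isOpen hP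
      (fun p hp => hAle y hp.1) (A y ⊓ X.basicOpen (r (i x))).isOpen hQ
    have h4 : ((A x : Set X) ∩ (A y : Set X)) =
        ((A x ⊓ X.basicOpen (r (i y)) : X.Opens) : Set X) ∩
          ((A y ⊓ X.basicOpen (r (i x)) : X.Opens) : Set X) := by
      ext p
      simp only [Set.mem_inter_iff, SetLike.mem_coe, Opens.coe_inf]
      constructor
      · rintro ⟨h1, h2⟩
        exact ⟨⟨h1, hAle y h2⟩, ⟨h2, hAle x h1⟩⟩
      · rintro ⟨⟨h1, -⟩, ⟨h2, -⟩⟩
        exact ⟨h1, h2⟩
    rw [h4]
    exact h3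

/-- EGA II 4.6.4 (key step): ampleness is local for covers by opens `X_r` of global functions -/
theorem isAmple_of_basicOpen_cover [CompactSpace X] {L : X.Modules} {ι : Type*}
    (r : ι → Γ(X, (⊤ : X.Opens))) (hcov : ∀ x : X, ∃ i, x ∈ X.basicOpen (r i))
    (hA : ∀ i, CohB1.IsAmple (L.restrict (X.basicOpen (r i)).ι)) : CohB1.IsAmple L := by
  have hL : PicF.IsInvertible L := isInvertible_of_restrict (fun x => by
    obtain ⟨i, hi⟩ := hcov x
    exact ⟨_, hi, (hA i).1⟩)
  haveI := quasiSeparatedSpace_of_basicOpen_cover r hcov hA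
  refine ⟨hL, inferInstance, fun x => ?_⟩
  obtain ⟨i, hi⟩ := hcov x
  obtain ⟨k, s', hz, haff⟩ := (hA i).2.2 ⟨x, hi⟩
  obtain ⟨a, ha⟩ := exists_section_of_restrict_basicOpen hL (r i) k s'
  refine ⟨k, a, ?_, ?_⟩
  · rw [ha]
    exact ⟨⟨x, hi⟩, hz, rfl⟩
  · rw [ha]
    exact haff.image_of_isOpenImmersion _

end Groth.Agent.H18.STL
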