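import Groth.Agent.H18.STL.PullQuasiAffine2
import Groth.Agent.S4380

/-!
# Relative ampleness is stable under base change (helper18)

EGA II 4.6.13 (iii).
-/

set_option autoImplicit false
universe u
open CategoryTheory CategoryTheory.Limits AlgebraicGeometry TopologicalSpace Opposite TensorProduct

namespace Groth.Agent.H18.STL

open Groth.Agent.H18 Groth.Agent.H18.PUP

/-- restriction of a pullback along an open immersion, for a commutative square of morphisms whose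
vertical sides are open immersions -/
noncomputable def restrictPullbackIso {T W X P : Scheme.{u}} (i : T ⟶ P) [IsOpenImmersion i]
    (p : P ⟶ X) (j : W ⟶ X) [IsOpenImmersion j] (q : T ⟶ W) (h : q ≫ j = i ≫ p)
    (L : X.Modules) :
    ((Scheme.Modules.pullback p).obj L).restrict i ≅
      (Scheme.Modules.pullback q).obj (L.restrict j) :=
  (Scheme.Modules.restrictFunctorIsoPullback i).app _ ≪≫
    (Scheme.Modules.pullbackComp i p).app L ≪≫
    (Scheme.Modules.pullbackCongr h.symm).app L ≪≫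
    (Scheme.Modules.pullbackComp q j).symm.app L ≪≫
    (Scheme.Modules.pullback q).mapIso ((Scheme.Modules.restrictFunctorIsoPullback j).app L).symm

variable {X Y Y' P : Scheme.{u}}

/-- in a pullback square, over affine opens `V' ⊆ g⁻¹ V` the projection to `X` is affine -/
theorem exists_affine_lift {p₁ : P ⟶ X} {p₂ : P ⟶ Y'} {f : X ⟶ Y} {g : Y' ⟶ Y}
    (sq : IsPullback p₁ p₂ f g) (V : Y.Opens) (V' : Y'.Opens) (hV : IsAffineOpen V)
    (hV' : IsAffineOpen V') (hle : V' ≤ g ⁻¹ᵁ V) :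
    ∃ q : (p₂ ⁻¹ᵁ V' : Scheme.{u}) ⟶ (f ⁻¹ᵁ V : Scheme.{u}),
      q ≫ (f ⁻¹ᵁ V).ι = (p₂ ⁻¹ᵁ V').ι ≫ p₁ ∧ IsAffineHom q := by
  haveI : IsAffine (V : Scheme.{u}) := hV
  haveI : IsAffine (V' : Scheme.{u}) := hV'
  have hr : Set.range (V'.ι ≫ g) ⊆ Set.range V.ι := by
    rintro _ ⟨y, rfl⟩
    rw [Scheme.Opens.range_ι]
    exact hle y.2
  have hg' : IsOpenImmersion.lift V.ι (V'.ι ≫ g) hr ≫ V.ι = V'.ι ≫ g :=
    IsOpenImmersion.lift_fac _ _ _
  have s₁ := (isPullback_morphismRestrict p₂ V').flip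
  have s₃ := s₁.paste_horiz sq
  rw [← hg'] at s₃
  have t := (isPullback_morphismRestrict f V).flip
  have s₄ := IsPullback.of_right' s₃ t
  have hw : ((p₂ ⁻¹ᵁ V').ι ≫ p₁) ≫ f =
      (p₂ ∣_ V' ≫ IsOpenImmersion.lift V.ι (V'.ι ≫ g) hr) ≫ V.ι := by
    rw [s₃.w, Category.assoc]
  refine ⟨t.lift ((p₂ ⁻¹ᵁ V').ι ≫ p₁) (p₂ ∣_ V' ≫ IsOpenImmersion.lift V.ι (V'.ι ≫ g) hr) hw,
    t.lift_fst _ _ _, ?_⟩
  exact MorphismProperty.of_isPullback (P := @IsAffineHom) s₄.flip inferInstance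

/-- EGA II 4.6.13 (iii): relative ampleness is stable under base change (any pullback square) -/
theorem isRelAmple_of_isPullback {p₁ : P ⟶ X} {p₂ : P ⟶ Y'} {f : X ⟶ Y} {g : Y' ⟶ Y}
    (sq : IsPullback p₁ p₂ f g) [QuasiCompact f] [QuasiCompact p₂] {L : X.Modules}
    (hL : RelAmple.IsRelAmple f L) :
    RelAmple.IsRelAmple p₂ ((Scheme.Modules.pullback p₁).obj L) := by
  refine (Groth.Agent.S4380.result p₂ ((Scheme.Modules.pullback p₁).obj L)
    (ι := {V' : Y'.Opens // IsAffineOpen V' ∧ ∃ V : Y.Opens, IsAffineOpen V ∧ V' ≤ g ⁻¹ᵁ V})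
    (fun V' => V'.1) ?_).2 (fun V' => ?_)
  · rw [eq_top_iff]
    rintro y' -
    obtain ⟨V, hVaff, hyV, -⟩ := Opens.isBasis_iff_nbhd.1 Y.isBasis_affineOpens
      (show g y' ∈ (⊤ : Y.Opens) from trivial)
    obtain ⟨V', hV'aff, hyV', hV'le⟩ := Opens.isBasis_iff_nbhd.1 Y'.isBasis_affineOpens
      (show y' ∈ g ⁻¹ᵁ V from hyV)
    exact Opens.mem_iSup.2 ⟨⟨V', hV'aff, V, hVaff, hV'le⟩, hyV'⟩
  · obtain ⟨V', hV'aff, V, hVaff, hle⟩ := V'
    haveI : IsAffine (V' : Scheme.{u}) := hV'aff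
    refine (isRelAmple_iff_isAmple_of_isAffine (p₂ ∣_ V') _).2 ?_
    obtain ⟨q, hq, hqaff⟩ := exists_affine_lift sq V V' hVaff hV'aff hle
    have h1 := isAmple_pullback_of_isQuasiAffine q inferInstance
      (fun A hA => by
        haveI : IsAffine (q ⁻¹ᵁ A : Scheme.{u}) := hA.preimage q
        infer_instance) (hL.2 ⟨V, hVaff⟩)
    exact isAmple_of_iso (restrictPullbackIso (p₂ ⁻¹ᵁ V').ι p₁ (f ⁻¹ᵁ V).ι q hq L).symm h1

end Groth.Agent.H18.STL
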