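import Groth.Prelude.Def_SecTwist
import Groth.Agent.H18.PUP.LocalBasis
import Mathlib.Topology.Sheaves.SheafCondition.UniqueGluing
import Mathlib.CategoryTheory.Sites.LocallyBijective

/-!
# Local calculus of sections of tensor products of O-modules (helper18)

* bilinearity of `SecTwist.tmul`;
* `toTensor` is locally injective and locally surjective, in concrete form;
* gluing of sections of modules and functions;
* `isBasisOn_tmul`: the `tmul` of two local bases is a local basis of the tensor product.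
-/

set_option autoImplicit false
universe u
open CategoryTheory CategoryTheory.Limits AlgebraicGeometry TopologicalSpace Opposite TensorProduct

namespace Groth.Agent.H18.STL

open Groth.Agent.H18 Groth.Agent.H18.PUP

theorem bijective_smul_tmul {R M N : Type*} [CommRing R] [AddCommGroup M] [Module R M]
    [AddCommGroup N] [Module R N] (e : M) (e' : N)
    (he : Function.Bijective (fun r : R => r • e)) (he' : Function.Bijective (fun r : R => r • e')) :
    Function.Bijective (fun r : R => r • (e ⊗ₜ[R] e')) := by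
  let φ : R ≃ₗ[R] M := LinearEquiv.ofBijective (LinearMap.toSpanSingleton R M e) he
  let φ' : R ≃ₗ[R] N := LinearEquiv.ofBijective (LinearMap.toSpanSingleton R N e') he'
  let ψ : R ≃ₗ[R] M ⊗[R] N := (TensorProduct.lid R R).symm.trans (TensorProduct.congr φ φ')
  have h1 : φ 1 = e := one_smul R e
  have h2 : ∀ r, φ' r = r • e' := fun r => rfl
  have : (fun r : R => r • (e ⊗ₜ[R] e')) = ψ := by
    funext r
    change _ = (TensorProduct.congr φ φ') ((TensorProduct.lid R R).symm r)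
    rw [TensorProduct.lid_symm_apply, TensorProduct.congr_tmul, h1, h2, TensorProduct.tmul_smul]
  rw [this]
  exact ψ.bijective

variable {X : Scheme.{u}}

/-- functions which agree locally are equal -/
theorem fun_eq_of_locally_eq {V : X.Opens} (a b : Γ(X, V))
    (h : ∀ x ∈ V, ∃ (W : X.Opens) (hW : W ≤ V), x ∈ W ∧ rres X hW a = rres X hW b) : a = b := by
  choose W hW hxW hab using h
  refine TopCat.Sheaf.eq_of_locally_eq' X.sheaf (fun x : V => W x.1 x.2) V
    (fun x => homOfLE (hW x.1 x.2)) ?_ a b (fun x => hab x.1 x.2)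
  intro x hx
  exact Opens.mem_iSup.mpr ⟨⟨x, hx⟩, hxW x hx⟩

/-- gluing functions -/
theorem exists_glue_fun {ι : Type u} (W : ι → X.Opens) (V : X.Opens)
    (hWV : ∀ i, W i ≤ V) (hcov : ∀ x ∈ V, ∃ i, x ∈ W i)
    (σ : ∀ i, Γ(X, W i))
    (hσ : ∀ i j, rres X (inf_le_left : W i ⊓ W j ≤ W i) (σ i) =
      rres X (inf_le_right : W i ⊓ W j ≤ W j) (σ j)) :
    ∃ s : Γ(X, V), ∀ i, rres X (hWV i) s = σ i := by
  have hcover : V ≤ iSup W := by
    intro x hx
    obtain ⟨i, hi⟩ := hcov x hx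
    exact Opens.mem_iSup.mpr ⟨i, hi⟩
  obtain ⟨s, hs, -⟩ := TopCat.Sheaf.existsUnique_gluing' X.sheaf W V (fun i => homOfLE (hWV i))
    hcover σ (fun i j => hσ i j)
  exact ⟨s, hs⟩

/-- gluing sections of a sheaf of modules -/
theorem exists_glue (F : X.Modules) {ι : Type u} (W : ι → X.Opens) (V : X.Opens)
    (hWV : ∀ i, W i ≤ V) (hcov : ∀ x ∈ V, ∃ i, x ∈ W i)
    (σ : ∀ i, Γ(F, W i))
    (hσ : ∀ i j, mres F (inf_le_left : W i ⊓ W j ≤ W i) (σ i) =
      mres F (inf_le_right : W i ⊓ W j ≤ W j) (σ j)) :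
    ∃ s : Γ(F, V), ∀ i, mres F (hWV i) s = σ i := by
  let Fs : TopCat.Sheaf AddCommGrpCat X.toTopCat := ⟨F.presheaf, F.isSheaf⟩
  have hcover : V ≤ iSup W := by
    intro x hx
    obtain ⟨i, hi⟩ := hcov x hx
    exact Opens.mem_iSup.mpr ⟨i, hi⟩
  obtain ⟨s, hs, -⟩ := TopCat.Sheaf.existsUnique_gluing' Fs W V (fun i => homOfLE (hWV i)) hcover σ
    (fun i j => hσ i j)
  exact ⟨s, hs⟩

/-- the linear map underlying `toTensor` -/
noncomputable def tmulLin (M N : X.Modules) (U : X.Opens) :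
    Γ(M, U) ⊗[Γ(X, U)] Γ(N, U) →ₗ[Γ(X, U)] Γ(CohB1.tensorMod M N, U) :=
  ((SecTwist.toTensor M N).app (op U)).hom

theorem tmul_eq (M N : X.Modules) (U : X.Opens) (m : Γ(M, U)) (n : Γ(N, U)) :
    SecTwist.tmul M N U m n = tmulLin M N U (m ⊗ₜ n) := rfl

theorem tmul_smul_left (M N : X.Modules) (U : X.Opens) (r : Γ(X, U))
    (m : Γ(M, U)) (n : Γ(N, U)) :
    SecTwist.tmul M N U (r • m) n = r • SecTwist.tmul M N U m n := by
  have h := (tmulLin M N U).map_smul r (m ⊗ₜ n)
  have h2 : r • (m ⊗ₜ[Γ(X, U)] n) = (r • m) ⊗ₜ n := TensorProduct.smul_tmul' r m n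
  exact (congrArg (tmulLin M N U) h2.symm).trans h

theorem tmul_smul_right (M N : X.Modules) (U : X.Opens) (r : Γ(X, U))
    (m : Γ(M, U)) (n : Γ(N, U)) :
    SecTwist.tmul M N U m (r • n) = r • SecTwist.tmul M N U m n := by
  have h := (tmulLin M N U).map_smul r (m ⊗ₜ n)
  have h2 : r • (m ⊗ₜ[Γ(X, U)] n) = m ⊗ₜ (r • n) := (TensorProduct.tmul_smul r m n).symm
  exact (congrArg (tmulLin M N U) h2.symm).trans h

theorem tmul_add_left (M N : X.Modules) (U : X.Opens)
    (m m' : Γ(M, U)) (n : Γ(N, U)) :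
    SecTwist.tmul M N U (m + m') n = SecTwist.tmul M N U m n + SecTwist.tmul M N U m' n := by
  have h := (tmulLin M N U).map_add (m ⊗ₜ n) (m' ⊗ₜ n)
  have h2 : (m + m') ⊗ₜ[Γ(X, U)] n = m ⊗ₜ n + m' ⊗ₜ n := TensorProduct.add_tmul m m' n
  exact (congrArg (tmulLin M N U) h2).trans h

theorem tmul_add_right (M N : X.Modules) (U : X.Opens)
    (m : Γ(M, U)) (n n' : Γ(N, U)) :
    SecTwist.tmul M N U m (n + n') = SecTwist.tmul M N U m n + SecTwist.tmul M N U m n' := by
  have h := (tmulLin M N U).map_add (m ⊗ₜ n) (m ⊗ₜ n')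
  have h2 : m ⊗ₜ[Γ(X, U)] (n + n') = m ⊗ₜ n + m ⊗ₜ n' := TensorProduct.tmul_add m n n'
  exact (congrArg (tmulLin M N U) h2).trans h

theorem tmul_zero_left (M N : X.Modules) (U : X.Opens) (n : Γ(N, U)) :
    SecTwist.tmul M N U 0 n = 0 := by
  have h2 : (0 : Γ(M, U)) ⊗ₜ[Γ(X, U)] n = 0 := TensorProduct.zero_tmul _ n
  exact (congrArg (tmulLin M N U) h2).trans (tmulLin M N U).map_zero

theorem tmul_zero_right (M N : X.Modules) (U : X.Opens) (m : Γ(M, U)) :
    SecTwist.tmul M N U m 0 = 0 := by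
  have h2 : m ⊗ₜ[Γ(X, U)] (0 : Γ(N, U)) = 0 := TensorProduct.tmul_zero _ m
  exact (congrArg (tmulLin M N U) h2).trans (tmulLin M N U).map_zero

theorem mres_tmul (M N : X.Modules) {U V : X.Opens} (h : V ≤ U) (m : Γ(M, U)) (n : Γ(N, U)) :
    mres (CohB1.tensorMod M N) h (SecTwist.tmul M N U m n) =
      SecTwist.tmul M N V (mres M h m) (mres N h n) :=
  SecTwist.map_tmul M N (homOfLE h) m n

/-- restriction map of the presheaf tensor product -/
noncomputable def tres (M N : X.Modules) {V W : X.Opens} (h : W ≤ V) :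
    Γ(M, V) ⊗[Γ(X, V)] Γ(N, V) →+ Γ(M, W) ⊗[Γ(X, W)] Γ(N, W) :=
  AddMonoidHomClass.toAddMonoidHom ((CohB1.tensorPre M N).map (homOfLE h).op).hom

theorem tres_tmul (M N : X.Modules) {V W : X.Opens} (h : W ≤ V) (m : Γ(M, V)) (n : Γ(N, V)) :
    tres M N h (m ⊗ₜ n) = mres M h m ⊗ₜ mres N h n := rfl

theorem tres_smul (M N : X.Modules) {V W : X.Opens} (h : W ≤ V) (r : Γ(X, V))
    (x : Γ(M, V) ⊗[Γ(X, V)] Γ(N, V)) :
    tres M N h (r • x) = rres X h r • tres M N h x :=
  PresheafOfModules.map_smul (CohB1.tensorPre M N) (homOfLE h).op r x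

theorem tmulLin_tres (M N : X.Modules) {V W : X.Opens} (h : W ≤ V)
    (x : Γ(M, V) ⊗[Γ(X, V)] Γ(N, V)) :
    tmulLin M N W (tres M N h x) = mres (CohB1.tensorMod M N) h (tmulLin M N V x) :=
  PresheafOfModules.naturality_apply (SecTwist.toTensor M N) (homOfLE h).op x

theorem toPresheaf_map_toTensor (M N : X.Modules) :
    (PresheafOfModules.toPresheaf _).map (SecTwist.toTensor M N) =
      CategoryTheory.toSheafify (Opens.grothendieckTopology X) (CohB1.tensorPre M N).presheaf := by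
  have := PresheafOfModules.toPresheaf_map_sheafificationHomEquiv_def (R := X.ringCatSheaf)
    (𝟙 X.ringCatSheaf.obj) (P := (CohB1.tensorPre M N : X.PresheafOfModules))
    (𝟙 ((PresheafOfModules.sheafification (𝟙 X.ringCatSheaf.obj)).obj _))
  refine Eq.trans ?_ (this.trans ?_)
  · rfl
  · exact Category.comp_id _

theorem tmulLin_locally_injective (M N : X.Modules) (V : X.Opens)
    (x y : Γ(M, V) ⊗[Γ(X, V)] Γ(N, V)) (h : tmulLin M N V x = tmulLin M N V y) :
    ∀ p ∈ V, ∃ (W : X.Opens) (hW : W ≤ V), p ∈ W ∧ tres M N hW x = tres M N hW y := by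
  intro p hp
  have hinj0 : Presheaf.IsLocallyInjective (Opens.grothendieckTopology X)
      (CategoryTheory.toSheafify (Opens.grothendieckTopology X) (CohB1.tensorPre M N).presheaf) :=
    inferInstance
  have hinj : Presheaf.IsLocallyInjective (Opens.grothendieckTopology X)
      ((PresheafOfModules.toPresheaf _).map (SecTwist.toTensor M N)) := by
    rw [toPresheaf_map_toTensor]; exact hinj0
  have h1 := Presheaf.equalizerSieve_mem (Opens.grothendieckTopology X)
    ((PresheafOfModules.toPresheaf _).map (SecTwist.toTensor M N)) (X := op V) x y h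
  obtain ⟨W, f, hf, hpW⟩ := h1 p hp
  exact ⟨W, f.le, hpW, hf⟩

theorem tmulLin_locally_surjective (M N : X.Modules) (V : X.Opens)
    (y : Γ(CohB1.tensorMod M N, V)) :
    ∀ p ∈ V, ∃ (W : X.Opens) (hW : W ≤ V), p ∈ W ∧
      ∃ x : Γ(M, W) ⊗[Γ(X, W)] Γ(N, W), tmulLin M N W x = mres (CohB1.tensorMod M N) hW y := by
  intro p hp
  have hsurj0 : Presheaf.IsLocallySurjective (Opens.grothendieckTopology X)
      (CategoryTheory.toSheafify (Opens.grothendieckTopology X) (CohB1.tensorPre M N).presheaf) :=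
    inferInstance
  have hsurj : Presheaf.IsLocallySurjective (Opens.grothendieckTopology X)
      ((PresheafOfModules.toPresheaf _).map (SecTwist.toTensor M N)) := by
    rw [toPresheaf_map_toTensor]; exact hsurj0
  have h1 := Presheaf.imageSieve_mem (Opens.grothendieckTopology X)
    ((PresheafOfModules.toPresheaf _).map (SecTwist.toTensor M N)) (U := op V) y
  obtain ⟨W, f, ⟨x, hx⟩, hpW⟩ := h1 p hp
  exact ⟨W, f.le, hpW, x, hx⟩

section basis

variable {L L' : X.Modules} {U : X.Opens} {e : Γ(L, U)} {e' : Γ(L', U)}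
  (he : IsBasisOn L U e) (he' : IsBasisOn L' U e')

include he he' in
theorem bijective_smul_tmul_res {V : X.Opens} (hV : V ≤ U) :
    Function.Bijective (fun r : Γ(X, V) => r • (mres L hV e ⊗ₜ[Γ(X, V)] mres L' hV e')) :=
  bijective_smul_tmul _ _ (he V hV) (he' V hV)

include he he' in
/-- the `tmul` of two local bases is a local basis of the tensor product -/
theorem isBasisOn_tmul :
    IsBasisOn (CohB1.tensorMod L L') U (SecTwist.tmul L L' U e e') := by
  -- the presheaf level generators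
  have key : ∀ (V : X.Opens) (hV : V ≤ U) (r : Γ(X, V)),
      r • mres (CohB1.tensorMod L L') hV (SecTwist.tmul L L' U e e') =
        tmulLin L L' V (r • (mres L hV e ⊗ₜ[Γ(X, V)] mres L' hV e')) := by
    intro V hV r
    rw [mres_tmul, tmul_eq]
    exact ((tmulLin L L' V).map_smul r _).symm
  have hres : ∀ (V W : X.Opens) (hV : V ≤ U) (hW : W ≤ V) (r : Γ(X, V)),
      tres L L' hW (r • (mres L hV e ⊗ₜ[Γ(X, V)] mres L' hV e')) =
        rres X hW r • (mres L (hW.trans hV) e ⊗ₜ[Γ(X, W)] mres L' (hW.trans hV) e') := by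
    intro V W hV hW r
    rw [tres_smul, tres_tmul, mres_mres, mres_mres]
  -- injectivity, for all opens below `U`
  have hinj : ∀ (V : X.Opens) (hV : V ≤ U), Function.Injective
      (fun r : Γ(X, V) => r • mres (CohB1.tensorMod L L') hV (SecTwist.tmul L L' U e e')) := by
    intro V hV r r' hrr'
    simp only [key] at hrr'
    refine fun_eq_of_locally_eq r r' (fun p hp => ?_)
    obtain ⟨W, hW, hpW, h1⟩ := tmulLin_locally_injective L L' V _ _ hrr' p hp
    refine ⟨W, hW, hpW, ?_⟩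
    rw [hres, hres] at h1
    exact (bijective_smul_tmul_res he he' (hW.trans hV)).1 h1
  intro V hV
  refine ⟨hinj V hV, fun y => ?_⟩
  -- local preimages
  have hloc : ∀ p : V, ∃ (W : X.Opens) (hW : W ≤ V), p.1 ∈ W ∧ ∃ r : Γ(X, W),
      r • mres (CohB1.tensorMod L L') (hW.trans hV) (SecTwist.tmul L L' U e e') =
        mres (CohB1.tensorMod L L') hW y := by
    intro p
    obtain ⟨W, hW, hpW, x, hx⟩ := tmulLin_locally_surjective L L' V y p.1 p.2
    obtain ⟨r, hr⟩ := (bijective_smul_tmul_res he he' (hW.trans hV)).2 x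
    refine ⟨W, hW, hpW, r, ?_⟩
    rw [key, ← hx]
    exact congrArg _ hr
  choose W hW hpW r hr using hloc
  have hcompat : ∀ p q : V, rres X (inf_le_left : W p ⊓ W q ≤ W p) (r p) =
      rres X (inf_le_right : W p ⊓ W q ≤ W q) (r q) := by
    intro p q
    apply hinj (W p ⊓ W q) ((inf_le_left.trans (hW p)).trans hV)
    have h1 := congrArg (mres (CohB1.tensorMod L L') (inf_le_left : W p ⊓ W q ≤ W p)) (hr p)
    have h2 := congrArg (mres (CohB1.tensorMod L L') (inf_le_right : W p ⊓ W q ≤ W q)) (hr q)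
    rw [mres_smul, mres_mres, mres_mres] at h1 h2
    exact h1.trans h2.symm
  obtain ⟨a, ha⟩ := exists_glue_fun W V hW (fun x hx => ⟨⟨x, hx⟩, hpW ⟨x, hx⟩⟩) r hcompat
  refine ⟨a, ?_⟩
  refine modules_eq_of_locally_eq _ _ _ (fun x hx => ?_)
  refine ⟨W ⟨x, hx⟩, hW ⟨x, hx⟩, hpW ⟨x, hx⟩, ?_⟩
  change mres _ _ (a • mres (CohB1.tensorMod L L') hV (SecTwist.tmul L L' U e e')) = _
  rw [mres_smul, mres_mres]
  have := ha ⟨x, hx⟩
  simp only [rres] at this
  rw [this]
  exact hr ⟨x, hx⟩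

end basis

end Groth.Agent.H18.STL
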