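import Groth.Agent.H18.STL.QuasiAffine2

/-!
# Modules with local bases and a given transition cocycle (helper18)

Generalisation of `STL/Weight`: a cover `𝔘`, a family `c i j` of functions on the overlaps, and
modules `M` with bases `β i` over the members of the cover such that `β j = c i j • β i` on the
overlaps.  Global sections of two modules with the same cocycle correspond, with the same loci of
generation; cocycles multiply under tensor products.
-/

set_option autoImplicit false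
universe u
open CategoryTheory CategoryTheory.Limits AlgebraicGeometry TopologicalSpace Opposite TensorProduct

namespace Groth.Agent.H18.STL

open Groth.Agent.H18 Groth.Agent.H18.PUP

variable {X : Scheme.{u}}

/-- an open cover of `X` -/
structure Cover (X : Scheme.{u}) where
  /-- index type -/
  ι : Type u
  /-- the opens -/
  W : ι → X.Opens
  cov : ∀ x : X, ∃ i, x ∈ W i

/-- families of functions on the overlaps -/
abbrev Cover.Cocycle (𝔘 : Cover X) : Type u := ∀ i j : 𝔘.ι, Γ(X, 𝔘.W i ⊓ 𝔘.W j)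

variable (𝔘 : Cover X)

/-- `M`, with the bases `β`, has transition cocycle `c` -/
structure HasCocycle (c : 𝔘.Cocycle) (M : X.Modules) (β : ∀ i, Γ(M, 𝔘.W i)) : Prop where
  basis : ∀ i, IsBasisOn M (𝔘.W i) (β i)
  trans : ∀ i j, mres M inf_le_right (β j) = c i j • mres M inf_le_left (β i)

/-- the transition cocycle of a family of bases -/
noncomputable def cocycleOf {M : X.Modules} {β : ∀ i, Γ(M, 𝔘.W i)}
    (hβ : ∀ i, IsBasisOn M (𝔘.W i) (β i)) : 𝔘.Cocycle :=
  fun i j => (hβ i).coord inf_le_left (mres M inf_le_right (β j))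

theorem hasCocycle_cocycleOf {M : X.Modules} {β : ∀ i, Γ(M, 𝔘.W i)}
    (hβ : ∀ i, IsBasisOn M (𝔘.W i) (β i)) : HasCocycle 𝔘 (cocycleOf 𝔘 hβ) M β where
  basis := hβ
  trans i j := ((hβ i).coord_smul inf_le_left _).symm

theorem hasCocycle_unit :
    HasCocycle 𝔘 1 (Coh.structureModule X) (fun i => oneSec X (𝔘.W i)) where
  basis i := isBasisOn_oneSec _
  trans i j := by
    rw [mres_oneSec, mres_oneSec]
    exact (one_smul _ _).symm

variable {𝔘}

theorem HasCocycle.cocycle_unique {c c' : 𝔘.Cocycle} {M : X.Modules} {β : ∀ i, Γ(M, 𝔘.W i)}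
    (h : HasCocycle 𝔘 c M β) (h' : HasCocycle 𝔘 c' M β) : c = c' := by
  funext i j
  have h1 := (h.trans i j).symm.trans (h'.trans i j)
  exact ((h.basis i) _ inf_le_left).1 h1

theorem HasCocycle.tmul {c c' : 𝔘.Cocycle} {M M' : X.Modules} {β : ∀ i, Γ(M, 𝔘.W i)}
    {β' : ∀ i, Γ(M', 𝔘.W i)} (h : HasCocycle 𝔘 c M β) (h' : HasCocycle 𝔘 c' M' β') :
    HasCocycle 𝔘 (c * c') (CohB1.tensorMod M M')
      (fun i => SecTwist.tmul M M' (𝔘.W i) (β i) (β' i)) where
  basis i := isBasisOn_tmul (h.basis i) (h'.basis i)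
  trans i j := by
    rw [mres_tmul, mres_tmul, h.trans i j, h'.trans i j, tmul_smul_left,
      tmul_smul_right, ← mul_smul]
    rfl

theorem HasCocycle.lpow {c : 𝔘.Cocycle} {M : X.Modules} {β : ∀ i, Γ(M, 𝔘.W i)}
    (h : HasCocycle 𝔘 c M β) (m : ℕ) :
    HasCocycle 𝔘 (c ^ m) (CohB1.tensorPow M m) (fun i => lpow M (𝔘.W i) (β i) m) where
  basis i := isBasisOn_lpow (h.basis i) m
  trans i j := by
    rw [mres_lpow, mres_lpow, h.trans i j, lpow_smul]
    rfl

/-- the coordinates of a global section -/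
noncomputable def HasCocycle.coords {c : 𝔘.Cocycle} {M : X.Modules} {β : ∀ i, Γ(M, 𝔘.W i)}
    (h : HasCocycle 𝔘 c M β) (a : Coh.structureModule X ⟶ M) (i : 𝔘.ι) : Γ(X, 𝔘.W i) :=
  (h.basis i).coord le_rfl (SecTwist.val a (𝔘.W i))

theorem HasCocycle.coords_spec {c : 𝔘.Cocycle} {M : X.Modules} {β : ∀ i, Γ(M, 𝔘.W i)}
    (h : HasCocycle 𝔘 c M β) (a : Coh.structureModule X ⟶ M) (i : 𝔘.ι) :
    SecTwist.val a (𝔘.W i) = h.coords a i • β i := by
  have := (h.basis i).coord_smul le_rfl (SecTwist.val a (𝔘.W i))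
  rw [mres_self] at this
  exact this.symm

theorem HasCocycle.coords_unique {c : 𝔘.Cocycle} {M : X.Modules} {β : ∀ i, Γ(M, 𝔘.W i)}
    (h : HasCocycle 𝔘 c M β) (a : Coh.structureModule X ⟶ M) (i : 𝔘.ι) (r : Γ(X, 𝔘.W i))
    (hr : SecTwist.val a (𝔘.W i) = r • β i) : r = h.coords a i := by
  apply (h.basis i).coord_unique
  rw [mres_self]
  exact hr.symm

theorem HasCocycle.genLocus_inf {c : 𝔘.Cocycle} {M : X.Modules} {β : ∀ i, Γ(M, 𝔘.W i)}
    (h : HasCocycle 𝔘 c M β) (a : Coh.structureModule X ⟶ M) (i : 𝔘.ι) :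
    CohB1.genLocus M a ⊓ 𝔘.W i = X.basicOpen (h.coords a i) :=
  genLocus_inf_eq_basicOpen a (h.basis i) _ (h.coords_spec a i)

theorem HasCocycle.coords_trans {c : 𝔘.Cocycle} {M : X.Modules} {β : ∀ i, Γ(M, 𝔘.W i)}
    (h : HasCocycle 𝔘 c M β) (a : Coh.structureModule X ⟶ M) (i j : 𝔘.ι) :
    rres X inf_le_left (h.coords a i) = rres X inf_le_right (h.coords a j) * c i j := by
  have h1 := congrArg (mres M (inf_le_left : 𝔘.W i ⊓ 𝔘.W j ≤ 𝔘.W i)) (h.coords_spec a i)
  have h2 := congrArg (mres M (inf_le_right : 𝔘.W i ⊓ 𝔘.W j ≤ 𝔘.W j)) (h.coords_spec a j)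
  rw [mres_val, mres_smul] at h1 h2
  rw [h.trans i j, ← mul_smul] at h2
  have h3 := h1.symm.trans h2
  exact ((h.basis i) (𝔘.W i ⊓ 𝔘.W j) inf_le_left).1 h3

theorem HasCocycle.exists_of_coords {c : 𝔘.Cocycle} {M : X.Modules} {β : ∀ i, Γ(M, 𝔘.W i)}
    (h : HasCocycle 𝔘 c M β) (r : ∀ i, Γ(X, 𝔘.W i))
    (hr : ∀ i j, rres X inf_le_left (r i) = rres X inf_le_right (r j) * c i j) :
    ∃ a : Coh.structureModule X ⟶ M, ∀ i, SecTwist.val a (𝔘.W i) = r i • β i := by
  obtain ⟨σ, hσ⟩ := exists_glue M 𝔘.W ⊤ (fun _ => le_top) (fun x _ => 𝔘.cov x)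
    (fun i => r i • β i) (by
      intro i j
      rw [mres_smul, mres_smul, h.trans i j, ← mul_smul]
      congr 1
      exact hr i j)
  refine ⟨sectionHom M σ, fun i => ?_⟩
  rw [val_sectionHom]
  exact hσ i

/-- global sections of two modules with the same cocycle correspond -/
theorem HasCocycle.exists_transfer {c : 𝔘.Cocycle} {M M' : X.Modules} {β : ∀ i, Γ(M, 𝔘.W i)}
    {β' : ∀ i, Γ(M', 𝔘.W i)} (h : HasCocycle 𝔘 c M β) (h' : HasCocycle 𝔘 c M' β')
    (a : Coh.structureModule X ⟶ M) :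
    ∃ a' : Coh.structureModule X ⟶ M', (∀ i, h'.coords a' i = h.coords a i) ∧
      CohB1.genLocus M' a' = CohB1.genLocus M a := by
  obtain ⟨a', ha'⟩ := h'.exists_of_coords (h.coords a) (h.coords_trans a)
  have hc : ∀ i, h'.coords a' i = h.coords a i := fun i =>
    (h'.coords_unique a' i _ (ha' i)).symm
  refine ⟨a', hc, ?_⟩
  ext x
  obtain ⟨i, hi⟩ := 𝔘.cov x
  have e1 := h.genLocus_inf a i
  have e2 := h'.genLocus_inf a' i
  rw [hc i] at e2
  constructor
  · intro hx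
    have : x ∈ CohB1.genLocus M' a' ⊓ 𝔘.W i := ⟨hx, hi⟩
    rw [e2, ← e1] at this
    exact this.1
  · intro hx
    have : x ∈ CohB1.genLocus M a ⊓ 𝔘.W i := ⟨hx, hi⟩
    rw [e1, ← e2] at this
    exact this.1

theorem HasCocycle.isInvertible {c : 𝔘.Cocycle} {M : X.Modules} {β : ∀ i, Γ(M, 𝔘.W i)}
    (h : HasCocycle 𝔘 c M β) : PicF.IsInvertible M :=
  isInvertible_of_local_bases M (fun x => by
    obtain ⟨i, hi⟩ := 𝔘.cov x
    exact ⟨𝔘.W i, β i, hi, h.basis i⟩)

/-- a common cover with bases for two invertible modules -/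
theorem exists_common_cover {L L' : X.Modules} (hL : PicF.IsInvertible L)
    (hL' : PicF.IsInvertible L') :
    ∃ (𝔘 : Cover X) (e : ∀ i, Γ(L, 𝔘.W i)) (e' : ∀ i, Γ(L', 𝔘.W i)),
      (∀ i, IsBasisOn L (𝔘.W i) (e i)) ∧ (∀ i, IsBasisOn L' (𝔘.W i) (e' i)) := by
  choose U t hxU ht using exists_basis_of_isInvertible hL
  choose U' t' hxU' ht' using exists_basis_of_isInvertible hL'
  exact ⟨⟨X, fun x => U x ⊓ U' x, fun x => ⟨x, hxU x, hxU' x⟩⟩,
    fun x => mres L inf_le_left (t x), fun x => mres L' inf_le_right (t' x),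
    fun x => (ht x).mono inf_le_left, fun x => (ht' x).mono inf_le_right⟩

end Groth.Agent.H18.STL
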