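import Groth.Agent.H18.STL.TwistAmple
import Groth.Agent.H18.STL.BaseChange
import Groth.Agent.H18.STL.OI.Range
import Groth.Agent.H67.AmplePullback

/-!
# Relative ampleness and composition (helper18)

EGA II 4.6.13 (ii): for quasi-compact `f : X ⟶ Y`, `g : Y ⟶ Z` with `Z` quasi-compact, `L` ample
relative to `f` and `K` ample relative to `g`, the module `L ⊗ f^*(K^{⊗ n})` is ample relative to
`f ≫ g` for all large `n`.
-/

set_option autoImplicit false
universe u
open CategoryTheory CategoryTheory.Limits AlgebraicGeometry TopologicalSpace Opposite TensorProduct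

namespace Groth.Agent.H18.STL

open Groth.Agent.H18 Groth.Agent.H18.PUP

variable {X Y Z : Scheme.{u}}

/-- relative ampleness is invariant under isomorphisms of modules -/
theorem isRelAmple_of_iso (f : X ⟶ Y) {L L' : X.Modules} (e : L ≅ L')
    (hL : RelAmple.IsRelAmple f L) : RelAmple.IsRelAmple f L' :=
  ⟨hL.1, fun V => isAmple_of_iso ((Scheme.Modules.restrictFunctor _).mapIso e) (hL.2 V)⟩

/-- the affine-local step -/
theorem exists_isAmple_restrict_tensorMod_tensorPow_pullback (f : X ⟶ Y) [QuasiCompact f]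
    {L : X.Modules} {K : Y.Modules} (hL : RelAmple.IsRelAmple f L) (W : Y.Opens)
    (hKinv : PicF.IsInvertible K)
    (hcW : CompactSpace ↥(W : Scheme.{u})) (hK : CohB1.IsAmple (K.restrict W.ι)) :
    ∃ n₀ : ℕ, ∀ n, n₀ ≤ n → CohB1.IsAmple ((CohB1.tensorMod L
      (CohB1.tensorPow ((Scheme.Modules.pullback f).obj K) n)).restrict (f ⁻¹ᵁ W).ι) := by
  have hLinv := isInvertible_of_isRelAmple f hL
  have hKW : PicF.IsInvertible (K.restrict W.ι) := hK.1
  -- invertibility of `f^* K` on `f⁻¹ W` is all we can use; we work on the scheme `f⁻¹ W`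
  haveI hXc : CompactSpace ↥(f ⁻¹ᵁ W : Scheme.{u}) := by
    have h1 : IsCompact ((W : Y.Opens) : Set Y) := isCompact_iff_compactSpace.2 hcW
    exact isCompact_iff_compactSpace.1 (QuasiCompact.isCompact_preimage (f := f) _ W.isOpen h1)
  -- sections on `W`
  choose m τ hyτ hτaff using hK.2.2
  -- the module `P_W = (f^* K)|_{f⁻¹ W}` and the isomorphic module `f_W^*(K|_W)`
  have hPW' : PicF.IsInvertible ((Scheme.Modules.pullback (f ∣_ W)).obj (K.restrict W.ι)) :=
    Groth.Agent.H67.AmplePullback.isInvertible_pullback (f ∣_ W) hKW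
  have hPW : PicF.IsInvertible (((Scheme.Modules.pullback f).obj K).restrict (f ⁻¹ᵁ W).ι) := by
    obtain ⟨𝔘, c, e, h⟩ := exists_cover_cocycle hPW'
    exact (h.map_iso (Groth.Agent.H67.PullBasis.pbRestrictIso f W K).symm).isInvertible
  -- sections of powers of `P_W`
  have hsec : ∀ y : (W : Scheme.{u}), ∃ t : Coh.structureModule (f ⁻¹ᵁ W : Scheme.{u}) ⟶
      CohB1.tensorPow (((Scheme.Modules.pullback f).obj K).restrict (f ⁻¹ᵁ W).ι) (m y + 1),
      CohB1.genLocus _ t = (f ∣_ W) ⁻¹ᵁ CohB1.genLocus _ (τ y) := by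
    intro y
    obtain ⟨s', hs'⟩ := Groth.Agent.H67.AmplePullback.exists_pullback_section (f ∣_ W) hKW
      (m y + 1) (τ y)
    obtain ⟨𝔘, c, e, h⟩ := exists_cover_cocycle hPW'
    obtain ⟨t, -, ht⟩ := (h.lpow (m y + 1)).exists_transfer
      ((h.map_iso (Groth.Agent.H67.PullBasis.pbRestrictIso f W K).symm).lpow (m y + 1)) s'
    exact ⟨t, ht.trans hs'⟩
  choose t ht using hsec
  obtain ⟨n₀, hn₀⟩ := exists_isAmple_tensorMod_tensorPow
    (Groth.Agent.H67.ParaMono.isInvertible_restrict _ L hLinv) hPW m t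
    (fun x => ⟨(f ∣_ W) x, by rw [ht]; exact hyτ _⟩)
    (fun y => by
      rw [ht]
      have haff : IsAffineOpen (W.ι ''ᵁ CohB1.genLocus _ (τ y)) :=
        (hτaff y).image_of_isOpenImmersion _
      refine (OI.isAmple_restrict_restrict_iff (L := L) (f ⁻¹ᵁ W).ι (Scheme.Opens.ι _)
        (f ⁻¹ᵁ (W.ι ''ᵁ CohB1.genLocus _ (τ y))).ι ?_).2 (hL.2 ⟨_, haff⟩)
      rw [Scheme.Opens.range_ι, ← image_morphismRestrict_preimage]
      simp only [Scheme.Hom.comp_base, TopCat.coe_comp, Set.range_comp, Scheme.Opens.range_ι]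
      rfl)
  refine ⟨n₀, fun n hn => ?_⟩
  have hP : PicF.IsInvertible ((Scheme.Modules.pullback f).obj K) :=
    Groth.Agent.H67.AmplePullback.isInvertible_pullback f hKinv
  obtain ⟨𝔘, e, e', he, he'⟩ := exists_common_cover hLinv hP
  have hc := hasCocycle_cocycleOf 𝔘 he
  have hd := hasCocycle_cocycleOf 𝔘 he'
  have w₁ := (hc.tmul (hd.lpow n)).restrict (f ⁻¹ᵁ W)
  have w₂ := (hc.restrict (f ⁻¹ᵁ W)).tmul ((hd.restrict (f ⁻¹ᵁ W)).lpow n)
  rw [Cover.Cocycle.restrict_mul, Cover.Cocycle.restrict_pow] at w₁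
  exact isAmple_of_hasCocycle w₂ w₁ (hn₀ n hn)

/-- EGA II 4.6.13 (ii), with the power taken after pulling back -/
theorem exists_isRelAmple_comp_tensorMod_tensorPow_pullback [CompactSpace Z] (f : X ⟶ Y)
    (g : Y ⟶ Z) [QuasiCompact f] [QuasiCompact g] {L : X.Modules} {K : Y.Modules}
    (hL : RelAmple.IsRelAmple f L) (hK : RelAmple.IsRelAmple g K) :
    ∃ n₀ : ℕ, ∀ n, n₀ ≤ n → RelAmple.IsRelAmple (f ≫ g)
      (CohB1.tensorMod L (CohB1.tensorPow ((Scheme.Modules.pullback f).obj K) n)) := by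
  classical
  have hKinv := isInvertible_of_isRelAmple g hK
  have hex : ∀ z : Z, ∃ V : Z.Opens, IsAffineOpen V ∧ z ∈ V := fun z => by
    obtain ⟨V, hV, hz, -⟩ := Opens.isBasis_iff_nbhd.1 Z.isBasis_affineOpens (Opens.mem_top z)
    exact ⟨V, hV, hz⟩
  choose V hVaff hzV using hex
  obtain ⟨T, hT⟩ := CompactSpace.elim_nhds_subcover (fun z => (V z : Set Z))
    (fun z => (V z).isOpen.mem_nhds (hzV z))
  have hloc : ∀ z : Z, ∃ n₀ : ℕ, ∀ n, n₀ ≤ n → CohB1.IsAmple ((CohB1.tensorMod L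
      (CohB1.tensorPow ((Scheme.Modules.pullback f).obj K) n)).restrict
        (f ⁻¹ᵁ (g ⁻¹ᵁ V z)).ι) := fun z =>
    exists_isAmple_restrict_tensorMod_tensorPow_pullback f hL (g ⁻¹ᵁ V z) hKinv
      (isCompact_iff_compactSpace.1 (QuasiCompact.isCompact_preimage (f := g) _ (V z).isOpen
        (hVaff z).isCompact))
      (hK.2 ⟨V z, hVaff z⟩)
  choose n₀ hn₀ using hloc
  refine ⟨T.sup n₀, fun n hn => ?_⟩
  refine (Groth.Agent.S4380.result (f ≫ g) _ (ι := {z : Z // z ∈ T}) (fun z => V z.1) ?_).2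
    (fun z => ?_)
  · refine eq_top_iff.2 (fun p _ => ?_)
    have : p ∈ ⋃ y ∈ T, (V y : Set Z) := hT ▸ Set.mem_univ p
    simp only [Set.mem_iUnion, SetLike.mem_coe, exists_prop] at this
    obtain ⟨y, hyT, hpy⟩ := this
    exact Opens.mem_iSup.2 ⟨⟨y, hyT⟩, hpy⟩
  · haveI : IsAffine (V z.1 : Scheme.{u}) := hVaff z.1
    rw [isRelAmple_iff_isAmple_of_isAffine]
    exact hn₀ z.1 n ((Finset.le_sup z.2).trans hn)

/-- EGA II 4.6.13 (ii) -/
theorem exists_isRelAmple_comp_tensorMod_pullback_tensorPow [CompactSpace Z] (f : X ⟶ Y)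
    (g : Y ⟶ Z) [QuasiCompact f] [QuasiCompact g] {L : X.Modules} {K : Y.Modules}
    (hL : RelAmple.IsRelAmple f L) (hK : RelAmple.IsRelAmple g K) :
    ∃ n₀ : ℕ, 0 < n₀ ∧ ∀ n, n₀ ≤ n → RelAmple.IsRelAmple (f ≫ g)
      (CohB1.tensorMod L ((Scheme.Modules.pullback f).obj (CohB1.tensorPow K n))) := by
  obtain ⟨n₀, hn₀⟩ := exists_isRelAmple_comp_tensorMod_tensorPow_pullback f g hL hK
  refine ⟨n₀ + 1, Nat.succ_pos _, fun n hn => ?_⟩
  obtain ⟨φ⟩ := Groth.Agent.H67.AmplePullback.nonempty_pullback_tensorPow_iso f K n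
  exact isRelAmple_of_iso (f ≫ g) (PicGrp.tensorModIso (Iso.refl L) φ.symm)
    (hn₀ n (by omega))

end Groth.Agent.H18.STL
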