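import Groth.Agent.H18.STL.BasicOpenCover
import Groth.Agent.H18.STL.OI.Range

/-!
# Indicator functions of clopen decompositions and ampleness on disjoint unions (helper18)
-/

set_option autoImplicit false
universe u
open CategoryTheory CategoryTheory.Limits AlgebraicGeometry TopologicalSpace Opposite TensorProduct

namespace Groth.Agent.H18.STL

open Groth.Agent.H18 Groth.Agent.H18.PUP

variable {X : Scheme.{u}}

/-- for a decomposition of `X` into two disjoint opens there is a global function whose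
non-vanishing locus is the first open -/
theorem exists_function_basicOpen_eq (A₁ A₂ : X.Opens) (hcov : ∀ x : X, x ∈ A₁ ∨ x ∈ A₂)
    (hdisj : A₁ ⊓ A₂ = ⊥) : ∃ r : Γ(X, (⊤ : X.Opens)), X.basicOpen r = A₁ := by
  let W : ULift.{u} Bool → X.Opens := fun b => if b.down then A₁ else A₂
  let σ : ∀ b, Γ(Coh.structureModule X, W b) := fun b =>
    (show Γ(Coh.structureModule X, W b) from (if b.down then (1 : Γ(X, W b)) else 0))
  obtain ⟨s, hs⟩ := exists_glue (Coh.structureModule X) W ⊤ (fun _ => le_top)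
    (fun x _ => by
      rcases hcov x with h | h
      · exact ⟨⟨true⟩, h⟩
      · exact ⟨⟨false⟩, h⟩) σ (by
      intro i j
      by_cases hij : i = j
      · subst hij; rfl
      · refine modules_eq_of_locally_eq _ _ _ (fun x hx => ?_)
        exfalso
        have hx' : x ∈ A₁ ⊓ A₂ := by
          obtain ⟨_ | _⟩ := i <;> obtain ⟨_ | _⟩ := j
          · exact absurd rfl hij
          · exact ⟨hx.2, hx.1⟩
          · exact ⟨hx.1, hx.2⟩
          · exact absurd rfl hij
        rw [hdisj] at hx'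
        exact hx')
  refine ⟨(show Γ(X, (⊤ : X.Opens)) from s), ?_⟩
  have h1 : rres X (le_top : A₁ ≤ ⊤) (show Γ(X, (⊤ : X.Opens)) from s) = 1 := hs ⟨true⟩
  have h2 : rres X (le_top : A₂ ≤ ⊤) (show Γ(X, (⊤ : X.Opens)) from s) = 0 := hs ⟨false⟩
  have e1 : A₁ ⊓ X.basicOpen (show Γ(X, (⊤ : X.Opens)) from s) = A₁ := by
    have := Scheme.basicOpen_res X (show Γ(X, (⊤ : X.Opens)) from s) (homOfLE (le_top : A₁ ≤ ⊤)).op
    rw [← this]
    change X.basicOpen (rres X (le_top : A₁ ≤ ⊤) (show Γ(X, (⊤ : X.Opens)) from s)) = A₁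
    rw [h1]
    exact X.basicOpen_of_isUnit isUnit_one
  have e2 : A₂ ⊓ X.basicOpen (show Γ(X, (⊤ : X.Opens)) from s) = ⊥ := by
    have := Scheme.basicOpen_res X (show Γ(X, (⊤ : X.Opens)) from s) (homOfLE (le_top : A₂ ≤ ⊤)).op
    rw [← this]
    change X.basicOpen (rres X (le_top : A₂ ≤ ⊤) (show Γ(X, (⊤ : X.Opens)) from s)) = ⊥
    rw [h2]
    exact X.basicOpen_zero _
  apply le_antisymm
  · intro x hx
    rcases hcov x with h | h
    · exact h
    · have : x ∈ A₂ ⊓ X.basicOpen (show Γ(X, (⊤ : X.Opens)) from s) := ⟨h, hx⟩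
      rw [e2] at this
      exact absurd this (by simp)
  · intro x hx
    have : x ∈ A₁ ⊓ X.basicOpen (show Γ(X, (⊤ : X.Opens)) from s) := e1.symm ▸ hx
    exact this.2

/-- a module on a quasi-compact scheme which is ample on both members of a decomposition into two
disjoint opens is ample -/
theorem isAmple_of_disjoint_cover [CompactSpace X] {L : X.Modules} (A₁ A₂ : X.Opens)
    (hcov : ∀ x : X, x ∈ A₁ ∨ x ∈ A₂) (hdisj : A₁ ⊓ A₂ = ⊥)
    (h₁ : CohB1.IsAmple (L.restrict A₁.ι)) (h₂ : CohB1.IsAmple (L.restrict A₂.ι)) :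
    CohB1.IsAmple L := by
  obtain ⟨r₁, hr₁⟩ := exists_function_basicOpen_eq A₁ A₂ hcov hdisj
  obtain ⟨r₂, hr₂⟩ := exists_function_basicOpen_eq A₂ A₁ (fun x => (hcov x).symm)
    (by rw [inf_comm]; exact hdisj)
  refine isAmple_of_basicOpen_cover (ι := ULift.{u} Bool) (fun b => if b.down then r₁ else r₂)
    (fun x => ?_) (fun b => ?_)
  · rcases hcov x with h | h
    · exact ⟨⟨true⟩, hr₁.symm ▸ h⟩
    · exact ⟨⟨false⟩, hr₂.symm ▸ h⟩
  · obtain ⟨_ | _⟩ := b
    · change CohB1.IsAmple (L.restrict (X.basicOpen r₂).ι)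
      rw [hr₂]; exact h₂
    · change CohB1.IsAmple (L.restrict (X.basicOpen r₁).ι)
      rw [hr₁]; exact h₁

end Groth.Agent.H18.STL
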