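import Groth.Agent.H18.STL.ProductAmple
import Groth.Agent.H18.STL.Idempotent
import Groth.Agent.H8.QcqsPush
import Mathlib.AlgebraicGeometry.Limits

/-!
# Relative ampleness on coproducts (helper18)

EGA II 5.3.6: the coproduct of two quasi-projective morphisms is quasi-projective.
-/

set_option autoImplicit false
universe u
open CategoryTheory CategoryTheory.Limits AlgebraicGeometry TopologicalSpace Opposite TensorProduct

namespace Groth.Agent.H18.STL

open Groth.Agent.H18 Groth.Agent.H18.PUP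

/-- a module all of whose modules of sections are trivial is zero -/
theorem isZero_of_subsingleton_sections {X : Scheme.{u}} (N : X.Modules)
    (h : ∀ U : X.Opens, Subsingleton Γ(N, U)) : IsZero N := by
  rw [IsZero.iff_id_eq_zero]
  ext U s
  exact Subsingleton.elim _ _

/-- the restriction of a pushforward along an open immersion to a disjoint open is zero -/
theorem isZero_restrict_pushforward_of_disjoint {A B Z : Scheme.{u}} (i : A ⟶ Z) (j : B ⟶ Z)
    [IsOpenImmersion i] (hdisj : ∀ (a : A) (b : B), i a ≠ j b) (N : B.Modules) :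
    IsZero (((Scheme.Modules.pushforward j).obj N).restrict i) := by
  refine isZero_of_subsingleton_sections _ (fun U => ⟨fun s t => ?_⟩)
  have hbot : j ⁻¹ᵁ (i ''ᵁ U) = ⊥ := by
    ext b
    simp only [Opens.coe_bot, Set.mem_empty_iff_false, iff_false]
    rintro ⟨a, -, ha⟩
    exact hdisj a b ha
  exact Groth.Agent.H8.sections_bot_eq N hbot s t

/-- restriction along an open immersion commutes with binary biproducts -/
noncomputable def restrictBiprodIso {A Z : Scheme.{u}} (i : A ⟶ Z) [IsOpenImmersion i]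
    (P Q : Z.Modules) : (P ⊞ Q).restrict i ≅ P.restrict i ⊞ Q.restrict i :=
  haveI := preservesBinaryBiproducts_of_preservesBiproducts (Scheme.Modules.pullback i)
  (Scheme.Modules.restrictFunctorIsoPullback i).app _ ≪≫
    (Scheme.Modules.pullback i).mapBiprod P Q ≪≫
    biprod.mapIso ((Scheme.Modules.restrictFunctorIsoPullback i).app P).symm
      ((Scheme.Modules.restrictFunctorIsoPullback i).app Q).symm

variable {X X' : Scheme.{u}}

/-- the module on `X ⨿ X'` glued from `L` and `L'` -/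
noncomputable def coprodModule (L : X.Modules) (L' : X'.Modules) :
    (X ⨿ X' : Scheme.{u}).Modules :=
  (Scheme.Modules.pushforward (coprod.inl : X ⟶ X ⨿ X')).obj L ⊞
    (Scheme.Modules.pushforward (coprod.inr : X' ⟶ X ⨿ X')).obj L'

/-- the restriction of `coprodModule L L'` to `X` is `L` -/
noncomputable def coprodModuleRestrictInl (L : X.Modules) (L' : X'.Modules) :
    (coprodModule L L').restrict (coprod.inl : X ⟶ X ⨿ X') ≅ L :=
  haveI hz : IsZero (((Scheme.Modules.pushforward (coprod.inr : X' ⟶ X ⨿ X')).obj L').restrict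
      (coprod.inl : X ⟶ X ⨿ X')) :=
    isZero_restrict_pushforward_of_disjoint _ _ (fun a b => inl_ne_inr X X' a b) L'
  haveI := (Biprod.isIso_inl_iff_isZero
    (((Scheme.Modules.pushforward (coprod.inl : X ⟶ X ⨿ X')).obj L).restrict
      (coprod.inl : X ⟶ X ⨿ X')) _).2 hz
  restrictBiprodIso _ _ _ ≪≫ (asIso (biprod.inl :
    ((Scheme.Modules.pushforward (coprod.inl : X ⟶ X ⨿ X')).obj L).restrict
      (coprod.inl : X ⟶ X ⨿ X') ⟶ _)).symm ≪≫
    (Scheme.Modules.restrictFunctorAdjCounitIso (coprod.inl : X ⟶ X ⨿ X')).app L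

/-- the restriction of `coprodModule L L'` to `X'` is `L'` -/
noncomputable def coprodModuleRestrictInr (L : X.Modules) (L' : X'.Modules) :
    (coprodModule L L').restrict (coprod.inr : X' ⟶ X ⨿ X') ≅ L' :=
  haveI hz : IsZero (((Scheme.Modules.pushforward (coprod.inl : X ⟶ X ⨿ X')).obj L).restrict
      (coprod.inr : X' ⟶ X ⨿ X')) :=
    isZero_restrict_pushforward_of_disjoint _ _ (fun a b => inr_ne_inl X X' b a) L
  haveI := (Biprod.isIso_inl_iff_isZero
    (((Scheme.Modules.pushforward (coprod.inr : X' ⟶ X ⨿ X')).obj L').restrict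
      (coprod.inr : X' ⟶ X ⨿ X')) _).2 hz
  restrictBiprodIso _ _ _ ≪≫ biprod.braiding _ _ ≪≫ (asIso (biprod.inl :
    ((Scheme.Modules.pushforward (coprod.inr : X' ⟶ X ⨿ X')).obj L').restrict
      (coprod.inr : X' ⟶ X ⨿ X') ⟶ _)).symm ≪≫
    (Scheme.Modules.restrictFunctorAdjCounitIso (coprod.inr : X' ⟶ X ⨿ X')).app L'

variable {Y : Scheme.{u}}

theorem coprod_desc_inl_apply (f : X ⟶ Y) (f' : X' ⟶ Y) (x : X) :
    (coprod.desc f f') ((coprod.inl : X ⟶ X ⨿ X') x) = f x := by
  have := congrArg (fun φ : X ⟶ Y => φ.base x) (coprod.inl_desc f f')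
  simpa using this

theorem coprod_desc_inr_apply (f : X ⟶ Y) (f' : X' ⟶ Y) (x : X') :
    (coprod.desc f f') ((coprod.inr : X' ⟶ X ⨿ X') x) = f' x := by
  have := congrArg (fun φ : X' ⟶ Y => φ.base x) (coprod.inr_desc f f')
  simpa using this

theorem mem_range_inl_or_inr (z : (X ⨿ X' : Scheme.{u})) :
    z ∈ Set.range (coprod.inl : X ⟶ X ⨿ X') ∨ z ∈ Set.range (coprod.inr : X' ⟶ X ⨿ X') := by
  have := (isCompl_range_inl_inr X X').codisjoint.top_le (Set.mem_univ z)
  exact this

instance quasiCompact_coprod_desc (f : X ⟶ Y) (f' : X' ⟶ Y) [QuasiCompact f] [QuasiCompact f'] :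
    QuasiCompact (coprod.desc f f') := by
  rw [quasiCompact_iff_forall_isAffineOpen]
  intro U hU
  have h1 : IsCompact ((f ⁻¹ᵁ U : X.Opens) : Set X) :=
    QuasiCompact.isCompact_preimage (f := f) _ U.isOpen hU.isCompact
  have h2 : IsCompact ((f' ⁻¹ᵁ U : X'.Opens) : Set X') :=
    QuasiCompact.isCompact_preimage (f := f') _ U.isOpen hU.isCompact
  have heq : ((coprod.desc f f' ⁻¹ᵁ U : (X ⨿ X' : Scheme.{u}).Opens) : Set ↥(X ⨿ X' : Scheme.{u})) =
      (coprod.inl : X ⟶ X ⨿ X') '' ((f ⁻¹ᵁ U : X.Opens) : Set X) ∪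
        (coprod.inr : X' ⟶ X ⨿ X') '' ((f' ⁻¹ᵁ U : X'.Opens) : Set X') := by
    ext z
    constructor
    · intro hz
      rcases mem_range_inl_or_inr z with ⟨x, rfl⟩ | ⟨x, rfl⟩
      · left
        refine ⟨x, ?_, rfl⟩
        have : (coprod.desc f f') ((coprod.inl : X ⟶ X ⨿ X') x) ∈ U := hz
        rwa [coprod_desc_inl_apply] at this
      · right
        refine ⟨x, ?_, rfl⟩
        have : (coprod.desc f f') ((coprod.inr : X' ⟶ X ⨿ X') x) ∈ U := hz
        rwa [coprod_desc_inr_apply] at this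
    · rintro (⟨x, hx, rfl⟩ | ⟨x, hx, rfl⟩)
      · change (coprod.desc f f') ((coprod.inl : X ⟶ X ⨿ X') x) ∈ U
        rw [coprod_desc_inl_apply]; exact hx
      · change (coprod.desc f f') ((coprod.inr : X' ⟶ X ⨿ X') x) ∈ U
        rw [coprod_desc_inr_apply]; exact hx
  rw [heq]
  exact (h1.image (coprod.inl : X ⟶ X ⨿ X').continuous).union
    (h2.image (coprod.inr : X' ⟶ X ⨿ X').continuous)

/-- EGA II 4.6.18-type statement: the module glued from two relatively ample modules is ample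
relative to the morphism from the coproduct -/
theorem isRelAmple_coprod_desc (f : X ⟶ Y) (f' : X' ⟶ Y) [QuasiCompact f] [QuasiCompact f']
    {L : X.Modules} {L' : X'.Modules} (hL : RelAmple.IsRelAmple f L)
    (hL' : RelAmple.IsRelAmple f' L') :
    RelAmple.IsRelAmple (coprod.desc f f') (coprodModule L L') := by
  refine ⟨inferInstance, fun V => ?_⟩
  set g := coprod.desc f f' with hg
  set O : (X ⨿ X' : Scheme.{u}).Opens := g ⁻¹ᵁ V.1 with hO
  haveI : CompactSpace ↥(O : Scheme.{u}) := isCompact_iff_compactSpace.1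
    (QuasiCompact.isCompact_preimage (f := g) _ V.1.isOpen V.2.isCompact)
  refine isAmple_of_disjoint_cover (O.ι ⁻¹ᵁ (coprod.inl : X ⟶ X ⨿ X').opensRange)
    (O.ι ⁻¹ᵁ (coprod.inr : X' ⟶ X ⨿ X').opensRange) (fun z => ?_) ?_ ?_ ?_
  · exact mem_range_inl_or_inr (O.ι z)
  · ext z
    simp only [Opens.coe_inf, Set.mem_inter_iff, Opens.coe_bot, Set.mem_empty_iff_false, iff_false]
    rintro ⟨⟨a, ha⟩, ⟨b, hb⟩⟩
    exact inl_ne_inr X X' a b (ha.trans hb.symm)
  · refine (OI.isAmple_restrict_restrict_iff (L := coprodModule L L') O.ι (Scheme.Opens.ι _)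
      ((f ⁻¹ᵁ V.1).ι ≫ (coprod.inl : X ⟶ X ⨿ X')) ?_).2 ?_
    · ext z
      simp only [Scheme.Hom.comp_base, TopCat.coe_comp, Set.range_comp, Scheme.Opens.range_ι]
      constructor
      · rintro ⟨x, hx, rfl⟩
        have hxO : (coprod.inl : X ⟶ X ⨿ X') x ∈ O := by
          change g ((coprod.inl : X ⟶ X ⨿ X') x) ∈ V.1
          rw [hg, coprod_desc_inl_apply]; exact hx
        exact ⟨⟨_, hxO⟩, ⟨x, rfl⟩, rfl⟩
      · rintro ⟨w, ⟨x, hx⟩, rfl⟩
        refine ⟨x, ?_, hx⟩
        have : g (O.ι w) ∈ V.1 := w.2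
        rw [← hx, hg, coprod_desc_inl_apply] at this
        exact this
    · exact isAmple_of_iso ((Scheme.Modules.restrictFunctor (f ⁻¹ᵁ V.1).ι).mapIso
        (coprodModuleRestrictInl L L').symm ≪≫
        ((Scheme.Modules.restrictFunctorComp (f ⁻¹ᵁ V.1).ι
          (coprod.inl : X ⟶ X ⨿ X')).app (coprodModule L L')).symm) (hL.2 V)
  · refine (OI.isAmple_restrict_restrict_iff (L := coprodModule L L') O.ι (Scheme.Opens.ι _)
      ((f' ⁻¹ᵁ V.1).ι ≫ (coprod.inr : X' ⟶ X ⨿ X')) ?_).2 ?_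
    · ext z
      simp only [Scheme.Hom.comp_base, TopCat.coe_comp, Set.range_comp, Scheme.Opens.range_ι]
      constructor
      · rintro ⟨x, hx, rfl⟩
        have hxO : (coprod.inr : X' ⟶ X ⨿ X') x ∈ O := by
          change g ((coprod.inr : X' ⟶ X ⨿ X') x) ∈ V.1
          rw [hg, coprod_desc_inr_apply]; exact hx
        exact ⟨⟨_, hxO⟩, ⟨x, rfl⟩, rfl⟩
      · rintro ⟨w, ⟨x, hx⟩, rfl⟩
        refine ⟨x, ?_, hx⟩
        have : g (O.ι w) ∈ V.1 := w.2
        rw [← hx, hg, coprod_desc_inr_apply] at this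
        exact this
    · exact isAmple_of_iso ((Scheme.Modules.restrictFunctor (f' ⁻¹ᵁ V.1).ι).mapIso
        (coprodModuleRestrictInr L L').symm ≪≫
        ((Scheme.Modules.restrictFunctorComp (f' ⁻¹ᵁ V.1).ι
          (coprod.inr : X' ⟶ X ⨿ X')).app (coprodModule L L')).symm) (hL'.2 V)

end Groth.Agent.H18.STL
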