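import Groth.Agent.H18.STL.GlobGen
import Groth.Agent.H18.STL.BasicOpenCover

/-!
# Relative generation: modules `M` with `f^* f_* M ⟶ M` an epimorphism (helper18)
-/

set_option autoImplicit false
universe u
open CategoryTheory CategoryTheory.Limits AlgebraicGeometry TopologicalSpace Opposite TensorProduct

namespace Groth.Agent.H18.STL

open Groth.Agent.H18 Groth.Agent.H18.PUP Groth.Agent.H5.Stalk

variable {X Y : Scheme.{u}}

/-- if `f^* f_* M ⟶ M` is an epimorphism and `M` is invertible then near every point `x` the module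
`M` is generated by a section over the preimage of a neighbourhood of `f x` -/
theorem exists_isGenAt_of_epi_counit (f : X ⟶ Y) {M : X.Modules} (hM : PicF.IsInvertible M)
    (hepi : Epi ((Scheme.Modules.pullbackPushforwardAdjunction f).counit.app M)) (x : X) :
    ∃ (V₀ : Y.Opens) (_ : f x ∈ V₀) (τ : Γ(M, f ⁻¹ᵁ V₀)), IsGenAt M τ x := by
  have hspan : Submodule.span (X.presheaf.stalk x)
      (Set.range fun i : (Σ V₀ : {V₀ : Y.Opens // x ∈ f ⁻¹ᵁ V₀}, Γ(M, f ⁻¹ᵁ V₀.1)) =>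
        (M.presheaf.germ (f ⁻¹ᵁ i.1.1) x i.1.2 i.2 : (stalkFunctor x).obj M)) = ⊤ := by
    refine @stalk_eq_top_of_epi X _ M _ hepi x _ ?_
    have hnat := (Scheme.Modules.pullbackPushforwardAdjunction f).counit.naturality
      (toSky x (ModuleCat.ofHom (Submodule.span (X.presheaf.stalk x)
        (Set.range fun i : (Σ V₀ : {V₀ : Y.Opens // x ∈ f ⁻¹ᵁ V₀}, Γ(M, f ⁻¹ᵁ V₀.1)) =>
          (M.presheaf.germ (f ⁻¹ᵁ i.1.1) x i.1.2 i.2 : (stalkFunctor x).obj M))).mkQ))
    have hzero : (Scheme.Modules.pushforward f).map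
        (toSky x (ModuleCat.ofHom (Submodule.span (X.presheaf.stalk x)
          (Set.range fun i : (Σ V₀ : {V₀ : Y.Opens // x ∈ f ⁻¹ᵁ V₀}, Γ(M, f ⁻¹ᵁ V₀.1)) =>
            (M.presheaf.germ (f ⁻¹ᵁ i.1.1) x i.1.2 i.2 : (stalkFunctor x).obj M))).mkQ)) = 0 := by
      ext V₀ τ
      refine funext (fun h => ?_)
      refine (toSky_app_apply x _ (f ⁻¹ᵁ V₀) τ h).trans ?_
      exact (Submodule.Quotient.mk_eq_zero (Submodule.span (X.presheaf.stalk x)
        (Set.range fun i : (Σ V₀ : {V₀ : Y.Opens // x ∈ f ⁻¹ᵁ V₀}, Γ(M, f ⁻¹ᵁ V₀.1)) =>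
          (M.presheaf.germ (f ⁻¹ᵁ i.1.1) x i.1.2 i.2 : (stalkFunctor x).obj M)))).2
        (Submodule.subset_span ⟨⟨⟨V₀, h.down⟩, τ⟩, rfl⟩)
    simp only [Functor.comp_map, Functor.id_map] at hnat
    refine hnat.symm.trans ?_
    rw [hzero, Functor.map_zero, zero_comp]
    rfl
  obtain ⟨i, hi⟩ := exists_isGenAt_of_span_eq_top hM x
    (fun i : (Σ V₀ : {V₀ : Y.Opens // x ∈ f ⁻¹ᵁ V₀}, Γ(M, f ⁻¹ᵁ V₀.1)) => f ⁻¹ᵁ i.1.1)
    (fun i => i.1.2) (fun i => i.2) hspan
  exact ⟨i.1.1, i.1.2, i.2, hi⟩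

/-- on a quasi-compact quasi-separated scheme, a section of an invertible module over `Z_r`
generating at a point can be replaced by a global section generating at that point -/
theorem exists_mem_genLocus_of_isGenAt_basicOpen {Z : Scheme.{u}} [CompactSpace Z]
    [QuasiSeparatedSpace Z] {F : Z.Modules} (hF : PicF.IsInvertible F)
    (r : Γ(Z, (⊤ : Z.Opens))) (τ : Γ(F, Z.basicOpen r)) (z : Z) (hz : z ∈ Z.basicOpen r)
    (hgen : IsGenAt F τ z) : ∃ b : Coh.structureModule Z ⟶ F, z ∈ CohB1.genLocus F b := by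
  have hO : PicF.IsInvertible (Coh.structureModule Z) :=
    Groth.Agent.H67.ParaExt.isInvertible_structureModule
  haveI := isQuasicoherent_of_isInvertible hF
  have hG : CohB1.genLocus (Coh.structureModule Z) (funHom r) = Z.basicOpen r := genLocus_funHom r
  have hzG : z ∈ CohB1.genLocus (Coh.structureModule Z) (funHom r) := hG.symm ▸ hz
  obtain ⟨m, -, t', ht'⟩ := exists_extension hO (funHom r) F (mres F hG.le τ)
  have hz₀ : z ∈ CohB1.genLocus _ (sectionHom (CohB1.tensorMod F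
      (CohB1.tensorPow (Coh.structureModule Z) m)) t') := by
    rw [mem_genLocus_iff_isGenAt _ hzG, val_sectionHom, ht',
      isGenAt_twist_iff hO hF (funHom r) m le_rfl _ hzG, isGenAt_mres_iff hG.le τ hzG]
    exact hgen
  obtain ⟨𝔄⟩ := nonempty_atlas hF
  have w₁ := (hasWeight_self 𝔄).tmul ((hasWeight_unit 𝔄).lpow m)
  have hw : 1 + 0 * m = 1 := by omega
  rw [hw] at w₁
  obtain ⟨b, -, hb⟩ := w₁.exists_transfer (hasWeight_self 𝔄) (sectionHom _ t')
  exact ⟨b, hb ▸ hz₀⟩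

end Groth.Agent.H18.STL
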