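import Groth.Agent.H18.STL.GenLocus
import Groth.Agent.H18.SectionHom
import Groth.Agent.H8.FreeGen

/-!
# Local bases and invertibility (helper18)
-/

set_option autoImplicit false
universe u
open CategoryTheory CategoryTheory.Limits AlgebraicGeometry TopologicalSpace Opposite TensorProduct

namespace Groth.Agent.H18.STL

open Groth.Agent.H18 Groth.Agent.H18.PUP

variable {X : Scheme.{u}}

theorem image_ι_le (U : X.Opens) (V' : (U : Scheme.{u}).Opens) : U.ι ''ᵁ V' ≤ U := by
  have := U.ι.image_le_opensRange V'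
  rwa [Scheme.Opens.opensRange_ι] at this

set_option backward.isDefEq.respectTransparency false in
/-- a module with a basis over `U` is trivial over `U` -/
theorem nonempty_restrict_iso_of_isBasisOn {M : X.Modules} {U : X.Opens} {t : Γ(M, U)}
    (ht : IsBasisOn M U t) :
    Nonempty (M.restrict U.ι ≅ Coh.structureModule (U : Scheme.{u})) := by
  let N : (U : Scheme.{u}).Modules := M.restrict U.ι
  let τ : Γ(N, (⊤ : (U : Scheme.{u}).Opens)) := mres M (image_ι_le U ⊤) t
  let ψ : Coh.structureModule (U : Scheme.{u}) ⟶ N := sectionHom N τ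
  have hiso : IsIso ψ := by
    rw [Scheme.Modules.Hom.isIso_iff_isIso_app]
    intro V'
    rw [ConcreteCategory.isIso_iff_bijective]
    have hres : mres N (le_top : V' ≤ ⊤) τ = mres M (image_ι_le U V') t := by
      exact mres_mres M (image_ι_le U ⊤) (U.ι.image_mono (le_top : V' ≤ ⊤)) t
    have hfun : ∀ r : Γ(U, V'), ψ.app V' r =
        ((U.ι.appIso V').inv r : Γ(X, U.ι ''ᵁ V')) • mres M (image_ι_le U V') t := by
      intro r
      have := sectionHom_app N τ V' r
      rw [hres] at this
      exact this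
    have hb1 := ht (U.ι ''ᵁ V') (image_ι_le U V')
    have hb2 : Function.Bijective ((U.ι.appIso V').inv : Γ(U, V') → Γ(X, U.ι ''ᵁ V')) :=
      ConcreteCategory.bijective_of_isIso (U.ι.appIso V').inv
    have : (ψ.app V' : Γ(U, V') → Γ(N, V')) =
        (fun a : Γ(X, U.ι ''ᵁ V') => a • mres M (image_ι_le U V') t) ∘
          ((U.ι.appIso V').inv : Γ(U, V') → Γ(X, U.ι ''ᵁ V')) := by
      funext r
      exact hfun r
    rw [this]
    exact hb1.comp hb2
  exact ⟨(asIso ψ).symm⟩

/-- a module with local bases is invertible -/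
theorem isInvertible_of_local_bases (M : X.Modules)
    (h : ∀ x : X, ∃ (U : X.Opens) (t : Γ(M, U)), x ∈ U ∧ IsBasisOn M U t) :
    PicF.IsInvertible M := by
  intro x
  obtain ⟨U, t, hxU, ht⟩ := h x
  exact ⟨U, hxU, nonempty_restrict_iso_of_isBasisOn ht⟩

theorem exists_basis_of_isInvertible {L : X.Modules} (hL : PicF.IsInvertible L) (x : X) :
    ∃ (U : X.Opens) (t : Γ(L, U)), x ∈ U ∧ IsBasisOn L U t := by
  obtain ⟨U, hxU, σ, hσ⟩ := Groth.Agent.H8.exists_isFreeGen_of_isInvertible hL x
  exact ⟨U, σ, hxU, hσ⟩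

/-- the tensor product of invertible modules is invertible -/
theorem isInvertible_tensorMod {L L' : X.Modules} (hL : PicF.IsInvertible L)
    (hL' : PicF.IsInvertible L') : PicF.IsInvertible (CohB1.tensorMod L L') := by
  refine isInvertible_of_local_bases _ (fun x => ?_)
  obtain ⟨U₁, t₁, hx₁, h₁⟩ := exists_basis_of_isInvertible hL x
  obtain ⟨U₂, t₂, hx₂, h₂⟩ := exists_basis_of_isInvertible hL' x
  exact ⟨U₁ ⊓ U₂, _, ⟨hx₁, hx₂⟩, isBasisOn_tmul (h₁.mono inf_le_left) (h₂.mono inf_le_right)⟩

/-- tensor powers of invertible modules are invertible -/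
theorem isInvertible_tensorPow {L : X.Modules} (hL : PicF.IsInvertible L) (n : ℕ) :
    PicF.IsInvertible (CohB1.tensorPow L n) := by
  refine isInvertible_of_local_bases _ (fun x => ?_)
  obtain ⟨U, t, hx, h⟩ := exists_basis_of_isInvertible hL x
  exact ⟨U, _, hx, isBasisOn_lpow h n⟩

end Groth.Agent.H18.STL
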