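import Groth.Agent.H18.STL.Basic

/-!
# Local powers of a local section of an O-module (helper18)
-/

set_option autoImplicit false
universe u
open CategoryTheory CategoryTheory.Limits AlgebraicGeometry TopologicalSpace Opposite TensorProduct

namespace Groth.Agent.H18.STL

open Groth.Agent.H18 Groth.Agent.H18.PUP

variable {X : Scheme.{u}}

/-- the unit section of the structure module -/
noncomputable abbrev oneSec (X : Scheme.{u}) (U : X.Opens) : Γ(Coh.structureModule X, U) :=
  ((1 : X.ringCatSheaf.obj.obj (op U)) : (Coh.structureModule X).val.obj (op U))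

theorem mres_oneSec {U V : X.Opens} (h : V ≤ U) :
    mres (Coh.structureModule X) h (oneSec X U) = oneSec X V :=
  PresheafOfModules.unit_map_one _ _

theorem isBasisOn_oneSec (U : X.Opens) : IsBasisOn (Coh.structureModule X) U (oneSec X U) := by
  intro V hV
  have : (fun r : Γ(X, V) => r • mres (Coh.structureModule X) hV (oneSec X U)) = fun r => r := by
    funext r
    rw [mres_oneSec]
    exact mul_one r
  rw [this]
  exact Function.bijective_id

/-- the `n`-th tensor power of a local section -/
noncomputable def lpow (L : X.Modules) (U : X.Opens) (e : Γ(L, U)) :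
    (n : ℕ) → Γ(CohB1.tensorPow L n, U)
  | 0 => oneSec X U
  | n + 1 => SecTwist.tmul (CohB1.tensorPow L n) L U (lpow L U e n) e

theorem lpow_zero (L : X.Modules) (U : X.Opens) (e : Γ(L, U)) : lpow L U e 0 = oneSec X U := rfl

theorem lpow_succ (L : X.Modules) (U : X.Opens) (e : Γ(L, U)) (n : ℕ) :
    lpow L U e (n + 1) = SecTwist.tmul (CohB1.tensorPow L n) L U (lpow L U e n) e := rfl

theorem mres_lpow (L : X.Modules) {U V : X.Opens} (h : V ≤ U) (e : Γ(L, U)) (n : ℕ) :
    mres (CohB1.tensorPow L n) h (lpow L U e n) = lpow L V (mres L h e) n := by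
  induction n with
  | zero => exact mres_oneSec h
  | succ n ih =>
    change mres (CohB1.tensorMod (CohB1.tensorPow L n) L) h
      (SecTwist.tmul (CohB1.tensorPow L n) L U (lpow L U e n) e) = _
    rw [mres_tmul, ih]
    rfl

theorem isBasisOn_lpow {L : X.Modules} {U : X.Opens} {e : Γ(L, U)} (he : IsBasisOn L U e) (n : ℕ) :
    IsBasisOn (CohB1.tensorPow L n) U (lpow L U e n) := by
  induction n with
  | zero => exact isBasisOn_oneSec U
  | succ n ih => exact isBasisOn_tmul ih he

/-- `SecTwist.pow` in terms of a local generator -/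
theorem pow_eq_smul_lpow {L : X.Modules} (s : Coh.structureModule X ⟶ L) (U : X.Opens)
    (e : Γ(L, U)) (f : Γ(X, U)) (h : SecTwist.val s U = f • e) (n : ℕ) :
    SecTwist.pow s n U = f ^ n • lpow L U e n := by
  induction n with
  | zero =>
    change oneSec X U = f ^ 0 • oneSec X U
    rw [pow_zero, one_smul]
  | succ n ih =>
    change SecTwist.tmul (CohB1.tensorPow L n) L U (SecTwist.pow s n U) (SecTwist.val s U) =
      f ^ (n + 1) • SecTwist.tmul (CohB1.tensorPow L n) L U (lpow L U e n) e
    rw [ih, h, tmul_smul_left, tmul_smul_right, ← mul_smul, pow_succ]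

/-- `SecTwist.twist` in terms of a local generator -/
theorem twist_eq_tmul_lpow {L : X.Modules} (s : Coh.structureModule X ⟶ L) (U : X.Opens)
    (e : Γ(L, U)) (f : Γ(X, U)) (h : SecTwist.val s U = f • e) (n : ℕ) (F : X.Modules)
    (t : Γ(F, U)) :
    SecTwist.twist s n F U t = SecTwist.tmul F (CohB1.tensorPow L n) U (f ^ n • t) (lpow L U e n) := by
  change SecTwist.tmul F (CohB1.tensorPow L n) U t (SecTwist.pow s n U) = _
  rw [pow_eq_smul_lpow s U e f h, tmul_smul_right, tmul_smul_left]

theorem mres_twist {L : X.Modules} (s : Coh.structureModule X ⟶ L) (n : ℕ) (F : X.Modules)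
    {U V : X.Opens} (h : V ≤ U) (t : Γ(F, U)) :
    mres (CohB1.tensorMod F (CohB1.tensorPow L n)) h (SecTwist.twist s n F U t) =
      SecTwist.twist s n F V (mres F h t) :=
  SecTwist.map_twist s n F (homOfLE h) t

theorem mres_val {L : X.Modules} (s : Coh.structureModule X ⟶ L) {U V : X.Opens} (h : V ≤ U) :
    mres L h (SecTwist.val s U) = SecTwist.val s V :=
  SecTwist.map_val s (homOfLE h)

end Groth.Agent.H18.STL
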