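import Groth.Agent.H18.STL.CompositeAmple
import Groth.Agent.H67.AmpleProduct

/-!
# Relative ampleness and products (helper18)

EGA II 4.6.13 (iv): for quasi-compact `f₁ : X₁ ⟶ Y₁`, `f₂ : X₂ ⟶ Y₂` over `S` and `L_i` ample
relative to `f_i`, the external tensor product `p₁^* L₁ ⊗ p₂^* L₂` is ample relative to
`f₁ ×_S f₂`.
-/

set_option autoImplicit false
universe u
open CategoryTheory CategoryTheory.Limits AlgebraicGeometry TopologicalSpace Opposite TensorProduct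

namespace Groth.Agent.H18.STL

open Groth.Agent.H18 Groth.Agent.H18.PUP

/-- the box argument: if `u : Z ⟶ X`, `v : Z ⟶ Y` are such that the boxes `u⁻¹ A ∩ v⁻¹ B` of affine
opens are affine, then `u^* L ⊗ v^* N` is ample for ample `L`, `N` -/
theorem isAmple_tensorMod_pullback_of_boxes {Z X Y : Scheme.{u}} [CompactSpace Z] (u : Z ⟶ X)
    (v : Z ⟶ Y) {L : X.Modules} {N : Y.Modules} (hL : CohB1.IsAmple L) (hN : CohB1.IsAmple N)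
    (hbox : ∀ (A : X.Opens) (B : Y.Opens), IsAffineOpen A → IsAffineOpen B →
      IsAffineOpen (u ⁻¹ᵁ A ⊓ v ⁻¹ᵁ B)) :
    CohB1.IsAmple (CohB1.tensorMod ((Scheme.Modules.pullback u).obj L)
      ((Scheme.Modules.pullback v).obj N)) := by
  have hL₁ := Groth.Agent.H67.AmplePullback.isInvertible_pullback u hL.1
  have hN₁ := Groth.Agent.H67.AmplePullback.isInvertible_pullback v hN.1
  refine ⟨isInvertible_tensorMod hL₁ hN₁, inferInstance, fun z => ?_⟩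
  obtain ⟨k, a, hxa, haaff⟩ := hL.2.2 (u z)
  obtain ⟨m, b, hyb, hbaff⟩ := hN.2.2 (v z)
  obtain ⟨s₁, hs₁⟩ := Groth.Agent.H67.AmplePullback.exists_pullback_section u hL.1 (k + 1) a
  obtain ⟨s₂, hs₂⟩ := Groth.Agent.H67.AmplePullback.exists_pullback_section v hN.1 (m + 1) b
  obtain ⟨𝔘, e, e', he, he'⟩ := exists_common_cover hL₁ hN₁
  have hc := hasCocycle_cocycleOf 𝔘 he
  have hc' := hasCocycle_cocycleOf 𝔘 he'
  have hLk := isInvertible_tensorPow hL₁ (k + 1)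
  have hNm := isInvertible_tensorPow hN₁ (m + 1)
  have g1 := genLocus_powHom hLk s₁ (Nat.succ_pos m)
  have g2 := genLocus_powHom hNm s₂ (Nat.succ_pos k)
  have g3 : CohB1.genLocus _ (SecTwist.tmulHom (SecTwist.powHom s₁ (m + 1))
      (SecTwist.powHom s₂ (k + 1))) =
      u ⁻¹ᵁ CohB1.genLocus _ a ⊓ v ⁻¹ᵁ CohB1.genLocus _ b := by
    rw [Groth.Agent.S15745.result _ _ _ (isInvertible_tensorPow hLk _)
      (isInvertible_tensorPow hNm _), g1, g2, hs₁, hs₂]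
  have w₁ := ((hc.lpow (k + 1)).lpow (m + 1)).tmul ((hc'.lpow (m + 1)).lpow (k + 1))
  have w₂ := (hc.tmul hc').lpow ((k + 1) * m + k + 1)
  have hcoc : (cocycleOf 𝔘 he ^ (k + 1)) ^ (m + 1) * (cocycleOf 𝔘 he' ^ (m + 1)) ^ (k + 1) =
      (cocycleOf 𝔘 he * cocycleOf 𝔘 he') ^ ((k + 1) * m + k + 1) := by
    rw [← pow_mul, ← pow_mul, mul_pow]
    congr 2 <;> ring
  rw [hcoc] at w₁
  obtain ⟨b', -, hb'⟩ := w₁.exists_transfer w₂ (SecTwist.tmulHom (SecTwist.powHom s₁ (m + 1))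
      (SecTwist.powHom s₂ (k + 1)))
  refine ⟨(k + 1) * m + k, b', ?_, ?_⟩
  · rw [hb', g3]; exact ⟨hxa, hyb⟩
  · rw [hb', g3]; exact hbox _ _ haaff hbaff

/-- the local step for products: ampleness of the external tensor product on a box -/
theorem isAmple_restrict_tensorMod_pullback_box {P X₁ X₂ : Scheme.{u}} (p₁ : P ⟶ X₁)
    (p₂ : P ⟶ X₂) {L₁ : X₁.Modules} {L₂ : X₂.Modules} (hL₁inv : PicF.IsInvertible L₁)
    (hL₂inv : PicF.IsInvertible L₂) (U₁ : X₁.Opens) (U₂ : X₂.Opens)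
    (hA₁ : CohB1.IsAmple (L₁.restrict U₁.ι)) (hA₂ : CohB1.IsAmple (L₂.restrict U₂.ι))
    (hcpt : IsCompact ((p₁ ⁻¹ᵁ U₁ ⊓ p₂ ⁻¹ᵁ U₂ : P.Opens) : Set P))
    (hbox : ∀ (A : X₁.Opens) (B : X₂.Opens), IsAffineOpen A → IsAffineOpen B → A ≤ U₁ → B ≤ U₂ →
      IsAffineOpen (p₁ ⁻¹ᵁ A ⊓ p₂ ⁻¹ᵁ B)) :
    CohB1.IsAmple ((CohB1.tensorMod ((Scheme.Modules.pullback p₁).obj L₁)
      ((Scheme.Modules.pullback p₂).obj L₂)).restrict (p₁ ⁻¹ᵁ U₁ ⊓ p₂ ⁻¹ᵁ U₂).ι) := by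
  set O : P.Opens := p₁ ⁻¹ᵁ U₁ ⊓ p₂ ⁻¹ᵁ U₂ with hO
  let u₁ : (O : Scheme.{u}) ⟶ (U₁ : Scheme.{u}) := p₁.resLE U₁ O inf_le_left
  let u₂ : (O : Scheme.{u}) ⟶ (U₂ : Scheme.{u}) := p₂.resLE U₂ O inf_le_right
  have hu₁ : u₁ ≫ U₁.ι = O.ι ≫ p₁ := Scheme.Hom.resLE_comp_ι _ _
  have hu₂ : u₂ ≫ U₂.ι = O.ι ≫ p₂ := Scheme.Hom.resLE_comp_ι _ _
  have hu₁' : ∀ w : (O : Scheme.{u}), U₁.ι (u₁ w) = p₁ (O.ι w) := fun w => by
    have := congrArg (fun φ => φ.base w) hu₁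
    simpa using this
  have hu₂' : ∀ w : (O : Scheme.{u}), U₂.ι (u₂ w) = p₂ (O.ι w) := fun w => by
    have := congrArg (fun φ => φ.base w) hu₂
    simpa using this
  haveI : CompactSpace ↥(O : Scheme.{u}) := isCompact_iff_compactSpace.1 hcpt
  have hb := isAmple_tensorMod_pullback_of_boxes u₁ u₂ hA₁ hA₂ (fun A B hA hB => by
    rw [← O.ι.isAffineOpen_iff_of_isOpenImmersion]
    have himg : O.ι ''ᵁ (u₁ ⁻¹ᵁ A ⊓ u₂ ⁻¹ᵁ B) = p₁ ⁻¹ᵁ (U₁.ι ''ᵁ A) ⊓ p₂ ⁻¹ᵁ (U₂.ι ''ᵁ B) := by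
      ext z
      constructor
      · rintro ⟨w, ⟨hw1, hw2⟩, rfl⟩
        exact ⟨⟨u₁ w, hw1, hu₁' w⟩, ⟨u₂ w, hw2, hu₂' w⟩⟩
      · rintro ⟨⟨a, ha, haz⟩, ⟨b, hb, hbz⟩⟩
        replace haz : U₁.ι a = p₁ z := haz
        replace hbz : U₂.ι b = p₂ z := hbz
        have hz1 : p₁ z ∈ U₁ := by
          have : U₁.ι a ∈ U₁ := a.2
          rwa [haz] at this
        have hz2 : p₂ z ∈ U₂ := by
          have : U₂.ι b ∈ U₂ := b.2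
          rwa [hbz] at this
        have hzO : z ∈ O := ⟨hz1, hz2⟩
        refine ⟨⟨z, hzO⟩, ⟨?_, ?_⟩, rfl⟩
        · have : u₁ ⟨z, hzO⟩ = a := U₁.ι.isOpenEmbedding.injective ((hu₁' _).trans haz.symm)
          change u₁ ⟨z, hzO⟩ ∈ A
          rw [this]; exact ha
        · have : u₂ ⟨z, hzO⟩ = b := U₂.ι.isOpenEmbedding.injective ((hu₂' _).trans hbz.symm)
          change u₂ ⟨z, hzO⟩ ∈ B
          rw [this]; exact hb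
    rw [himg]
    exact hbox _ _ (hA.image_of_isOpenImmersion U₁.ι) (hB.image_of_isOpenImmersion U₂.ι)
      (image_ι_le _ _) (image_ι_le _ _))
  have hP₁ := Groth.Agent.H67.AmplePullback.isInvertible_pullback p₁ hL₁inv
  have hP₂ := Groth.Agent.H67.AmplePullback.isInvertible_pullback p₂ hL₂inv
  obtain ⟨𝔘, e, e', he, he'⟩ := exists_common_cover hP₁ hP₂
  have hc := hasCocycle_cocycleOf 𝔘 he
  have hd := hasCocycle_cocycleOf 𝔘 he'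
  have w₁ := (hc.tmul hd).restrict O
  have w₂ := (hc.restrict O).tmul (hd.restrict O)
  rw [Cover.Cocycle.restrict_mul] at w₁
  refine isAmple_of_hasCocycle w₂ w₁ ?_
  exact isAmple_of_iso (PicGrp.tensorModIso (restrictPullbackIso O.ι p₁ U₁.ι u₁ hu₁ L₁).symm
    (restrictPullbackIso O.ι p₂ U₂.ι u₂ hu₂ L₂).symm) hb

/-- EGA II 4.6.13 (iv) -/
theorem isRelAmple_pullback_map {X₁ X₂ Y₁ Y₂ S : Scheme.{u}} (a₁ : Y₁ ⟶ S) (a₂ : Y₂ ⟶ S)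
    (f₁ : X₁ ⟶ Y₁) (f₂ : X₂ ⟶ Y₂) [QuasiCompact f₁] [QuasiCompact f₂] {L₁ : X₁.Modules}
    {L₂ : X₂.Modules} (hL₁ : RelAmple.IsRelAmple f₁ L₁) (hL₂ : RelAmple.IsRelAmple f₂ L₂) :
    RelAmple.IsRelAmple
      (pullback.map (f₁ ≫ a₁) (f₂ ≫ a₂) a₁ a₂ f₁ f₂ (𝟙 S) (Category.comp_id (f₁ ≫ a₁))
        (Category.comp_id (f₂ ≫ a₂)))
      (CohB1.tensorMod ((Scheme.Modules.pullback (pullback.fst (f₁ ≫ a₁) (f₂ ≫ a₂))).obj L₁)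
        ((Scheme.Modules.pullback (pullback.snd (f₁ ≫ a₁) (f₂ ≫ a₂))).obj L₂)) := by
  set F := pullback.map (f₁ ≫ a₁) (f₂ ≫ a₂) a₁ a₂ f₁ f₂ (𝟙 S) (Category.comp_id (f₁ ≫ a₁))
    (Category.comp_id (f₂ ≫ a₂)) with hF
  haveI hFqc : QuasiCompact F :=
    MorphismProperty.pullbackMap (P := @QuasiCompact) ‹QuasiCompact f₁› ‹QuasiCompact f₂› rfl rfl
  have hF₁ : F ≫ pullback.fst a₁ a₂ = pullback.fst _ _ ≫ f₁ := pullback.lift_fst _ _ _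
  have hF₂ : F ≫ pullback.snd a₁ a₂ = pullback.snd _ _ ≫ f₂ := pullback.lift_snd _ _ _
  refine (Groth.Agent.S4380.result F _
    (ι := {T : S.Opens × Y₁.Opens × Y₂.Opens // IsAffineOpen T.1 ∧ IsAffineOpen T.2.1 ∧
      IsAffineOpen T.2.2 ∧ T.2.1 ≤ a₁ ⁻¹ᵁ T.1 ∧ T.2.2 ≤ a₂ ⁻¹ᵁ T.1})
    (fun T => pullback.fst a₁ a₂ ⁻¹ᵁ T.1.2.1 ⊓ pullback.snd a₁ a₂ ⁻¹ᵁ T.1.2.2) ?_).2
    (fun T => ?_)
  · rw [eq_top_iff]
    rintro y -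
    obtain ⟨W, hWaff, hyW, -⟩ := Opens.isBasis_iff_nbhd.1 S.isBasis_affineOpens
      (show (pullback.fst a₁ a₂ ≫ a₁) y ∈ (⊤ : S.Opens) from trivial)
    obtain ⟨V₁, hV₁aff, hyV₁, hV₁le⟩ := Opens.isBasis_iff_nbhd.1 Y₁.isBasis_affineOpens
      (show pullback.fst a₁ a₂ y ∈ a₁ ⁻¹ᵁ W from hyW)
    have hyW' : (pullback.snd a₁ a₂ ≫ a₂) y ∈ W := by rw [← pullback.condition]; exact hyW
    obtain ⟨V₂, hV₂aff, hyV₂, hV₂le⟩ := Opens.isBasis_iff_nbhd.1 Y₂.isBasis_affineOpens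
      (show pullback.snd a₁ a₂ y ∈ a₂ ⁻¹ᵁ W from hyW')
    exact Opens.mem_iSup.2 ⟨⟨(W, V₁, V₂), hWaff, hV₁aff, hV₂aff, hV₁le, hV₂le⟩, hyV₁, hyV₂⟩
  · obtain ⟨⟨W, V₁, V₂⟩, hWaff, hV₁aff, hV₂aff, hV₁le, hV₂le⟩ := T
    dsimp only
    have hBaff : IsAffineOpen (pullback.fst a₁ a₂ ⁻¹ᵁ V₁ ⊓ pullback.snd a₁ a₂ ⁻¹ᵁ V₂) :=
      Groth.Agent.H67.AmpleProduct.isAffineOpen_pullback_inf hV₁aff hV₂aff hWaff hV₁le hV₂le
    haveI : IsAffine ((pullback.fst a₁ a₂ ⁻¹ᵁ V₁ ⊓ pullback.snd a₁ a₂ ⁻¹ᵁ V₂ :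
      (pullback a₁ a₂).Opens) : Scheme.{u}) := hBaff
    rw [isRelAmple_iff_isAmple_of_isAffine]
    have hcpt : IsCompact ((F ⁻¹ᵁ (pullback.fst a₁ a₂ ⁻¹ᵁ V₁ ⊓ pullback.snd a₁ a₂ ⁻¹ᵁ V₂) :
        (pullback (f₁ ≫ a₁) (f₂ ≫ a₂)).Opens) : Set ↥(pullback (f₁ ≫ a₁) (f₂ ≫ a₂))) :=
      QuasiCompact.isCompact_preimage (f := F) _ (Opens.isOpen _) hBaff.isCompact
    have hOeq : F ⁻¹ᵁ (pullback.fst a₁ a₂ ⁻¹ᵁ V₁ ⊓ pullback.snd a₁ a₂ ⁻¹ᵁ V₂) =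
        pullback.fst (f₁ ≫ a₁) (f₂ ≫ a₂) ⁻¹ᵁ (f₁ ⁻¹ᵁ V₁) ⊓
          pullback.snd (f₁ ≫ a₁) (f₂ ≫ a₂) ⁻¹ᵁ (f₂ ⁻¹ᵁ V₂) := by
      rw [Scheme.Hom.preimage_inf, ← Scheme.Hom.comp_preimage, ← Scheme.Hom.comp_preimage,
        hF₁, hF₂]
      rfl
    rw [hOeq] at hcpt ⊢
    refine isAmple_restrict_tensorMod_pullback_box _ _ (isInvertible_of_isRelAmple f₁ hL₁)
      (isInvertible_of_isRelAmple f₂ hL₂) _ _ (hL₁.2 ⟨V₁, hV₁aff⟩) (hL₂.2 ⟨V₂, hV₂aff⟩) hcpt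
      (fun A B hA hB hAle hBle => ?_)
    exact Groth.Agent.H67.AmpleProduct.isAffineOpen_pullback_inf hA hB hWaff
      (hAle.trans (fun x hx => hV₁le hx)) (hBle.trans (fun x hx => hV₂le hx))

end Groth.Agent.H18.STL
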