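import Groth.Agent.H18.STL.PullCocycle
import Groth.Agent.H18.STL.BasicOpenCover

/-!
# The pullback of an ample module along a quasi-affine morphism is ample (helper18)

EGA II 5.1.12.
-/

set_option autoImplicit false
universe u
open CategoryTheory CategoryTheory.Limits AlgebraicGeometry TopologicalSpace Opposite TensorProduct

namespace Groth.Agent.H18.STL

open Groth.Agent.H18 Groth.Agent.H18.PUP

/-- a scheme covered by quasi-separated opens with quasi-compact pairwise intersections is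
quasi-separated -/
theorem quasiSeparatedSpace_of_qs_cover {X : Scheme.{u}} {ι : Type*} (Q : ι → X.Opens)
    (hcov : ∀ x : X, ∃ i, x ∈ Q i)
    (hqs : ∀ i, IsQuasiSeparated ((Q i : X.Opens) : Set X))
    (hc : ∀ i j, IsCompact ((Q i ⊓ Q j : X.Opens) : Set X)) : QuasiSeparatedSpace X := by
  choose i hi using hcov
  have hex : ∀ x : X, ∃ A : X.Opens, IsAffineOpen A ∧ x ∈ A ∧ A ≤ Q (i x) := by
    intro x
    obtain ⟨A, hAaff, hxA, hAle⟩ := Opens.isBasis_iff_nbhd.1 X.isBasis_affineOpens (hi x)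
    exact ⟨A, hAaff, hxA, hAle⟩
  choose A hAaff hxA hAle using hex
  refine Scheme.quasiSeparatedSpace_of_isOpenCover A ?_ hAaff (fun x y => ?_)
  · apply IsOpenCover.mk
    exact top_le_iff.mp (fun x _ ↦ by simpa using ⟨x, hxA x⟩)
  · have hP : IsCompact ((A x : Set X) ∩ ((Q (i x) ⊓ Q (i y) : X.Opens) : Set X)) :=
      hqs (i x) _ _ (hAle x) (A x).isOpen (hAaff x).isCompact
        (fun p hp => hp.1) (Q (i x) ⊓ Q (i y)).isOpen (hc (i x) (i y))
    have h3 := hqs (i y) _ _ (fun p hp => hp.2.2)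
      ((A x).isOpen.inter (Q (i x) ⊓ Q (i y)).isOpen) hP (hAle y) (A y).isOpen
      (hAaff y).isCompact
    have h4 : ((A x : Set X) ∩ (A y : Set X)) =
        ((A x : Set X) ∩ ((Q (i x) ⊓ Q (i y) : X.Opens) : Set X)) ∩ (A y : Set X) := by
      ext p
      simp only [Set.mem_inter_iff, SetLike.mem_coe, Opens.coe_inf]
      constructor
      · rintro ⟨h1, h2⟩
        exact ⟨⟨h1, hAle x h1, hAle y h2⟩, h2⟩
      · rintro ⟨⟨h1, -⟩, h2⟩
        exact ⟨h1, h2⟩
    rw [h4]
    exact h3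

variable {X' X : Scheme.{u}}

/-- EGA II 5.1.12: the pullback of an ample module along a quasi-affine morphism is ample -/
theorem isAmple_pullback_of_isQuasiAffine (g : X' ⟶ X) (hgqc : QuasiCompact g)
    (hgqa : ∀ V : X.Opens, IsAffineOpen V → Scheme.IsQuasiAffine (g ⁻¹ᵁ V : Scheme.{u}))
    {L : X.Modules} (hL : CohB1.IsAmple L) :
    CohB1.IsAmple ((Scheme.Modules.pullback g).obj L) := by
  obtain ⟨hLinv, hXc, hLcov⟩ := hL
  obtain ⟨𝔘, c, e, h⟩ := exists_cover_cocycle hLinv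
  have hinv : PicF.IsInvertible ((Scheme.Modules.pullback g).obj L) := (h.pull g).isInvertible
  haveI hX'c : CompactSpace X' := by
    have := QuasiCompact.isCompact_preimage (f := g) _ isOpen_univ hXc.isCompact_univ
    rw [Set.preimage_univ] at this
    exact ⟨this⟩
  choose k s hxs hsaff using hLcov
  -- quasi-separatedness of `X'`
  haveI hX'qs : QuasiSeparatedSpace X' := by
    refine quasiSeparatedSpace_of_qs_cover (fun x : X => g ⁻¹ᵁ CohB1.genLocus _ (s x))
      (fun x' => ⟨g x', hxs (g x')⟩) (fun x => ?_) (fun x y => ?_)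
    · haveI := hgqa _ (hsaff x)
      have hq : QuasiSeparatedSpace ↥(g ⁻¹ᵁ CohB1.genLocus _ (s x) : Scheme.{u}) := inferInstance
      exact (isQuasiSeparated_iff_quasiSeparatedSpace _ (g ⁻¹ᵁ CohB1.genLocus _ (s x)).isOpen).2
        hq
    · have haff : IsAffineOpen (CohB1.genLocus _ (s x) ⊓ CohB1.genLocus _ (s y)) :=
        isAffineOpen_genLocus_inf (isInvertible_tensorPow hLinv _) (s x) (hsaff y)
      exact QuasiCompact.isCompact_preimage (f := g) _
        (CohB1.genLocus _ (s x) ⊓ CohB1.genLocus _ (s y)).isOpen haff.isCompact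
  refine ⟨hinv, hX'c, fun x' => ?_⟩
  -- the pulled back section
  have wN := (h.lpow (k (g x') + 1)).pull g
  have hN : PicF.IsInvertible ((Scheme.Modules.pullback g).obj
      (CohB1.tensorPow L (k (g x') + 1))) := wN.isInvertible
  have hG : CohB1.genLocus ((Scheme.Modules.pullback g).obj (CohB1.tensorPow L (k (g x') + 1)))
      (sectionHom _ (OmegaSh.pullSect g _ ⊤ (Groth.Agent.H54.PB.evOne _ (s (g x'))))) =
      g ⁻¹ᵁ CohB1.genLocus _ (s (g x')) := by
    have := Groth.Agent.H67.PullGenLocus.genLocus_sectionHom_pullSect g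
      (CohB1.tensorPow L (k (g x') + 1)) (isInvertible_tensorPow hLinv _)
      (Groth.Agent.H54.PB.evOne _ (s (g x')))
    rw [Groth.Agent.H67.PullGenLocus.sectionHom_evOne] at this
    exact this
  haveI := hgqa _ (hsaff (g x'))
  obtain ⟨_, ⟨r', hr'aff, rfl⟩, hx'r, -⟩ := Opens.isBasis_iff_nbhd.1
    (Scheme.IsQuasiAffine.isBasis_basicOpen (g ⁻¹ᵁ CohB1.genLocus _ (s (g x')) : Scheme.{u}))
    (show (⟨x', hxs (g x')⟩ : (g ⁻¹ᵁ CohB1.genLocus _ (s (g x')) : Scheme.{u})) ∈
      (⊤ : (g ⁻¹ᵁ CohB1.genLocus _ (s (g x')) : Scheme.{u}).Opens) from trivial)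
  have hGle : CohB1.genLocus ((Scheme.Modules.pullback g).obj (CohB1.tensorPow L (k (g x') + 1)))
      (sectionHom _ (OmegaSh.pullSect g _ ⊤ (Groth.Agent.H54.PB.evOne _ (s (g x'))))) ≤
      (g ⁻¹ᵁ CohB1.genLocus _ (s (g x'))).ι ''ᵁ ⊤ := by
    rw [Scheme.Opens.ι_image_top]; exact hG.le
  have hbo : X'.basicOpen (rres X' hGle r') =
      (g ⁻¹ᵁ CohB1.genLocus _ (s (g x'))).ι ''ᵁ
        ((g ⁻¹ᵁ CohB1.genLocus _ (s (g x')) : Scheme.{u}).basicOpen r') := by
    rw [Scheme.Opens.ι_image_basicOpen, rres, Scheme.basicOpen_res]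
    refine inf_eq_right.2 ((X'.basicOpen_le _).trans ?_)
    rw [Scheme.Opens.ι_image_top]; exact hG.ge
  haveI := isQuasicoherent_structureModule X'
  obtain ⟨n, -, t', ht'⟩ := exists_extension hN
    (sectionHom _ (OmegaSh.pullSect g _ ⊤ (Groth.Agent.H54.PB.evOne _ (s (g x')))))
    (Coh.structureModule X')
    (show Γ(Coh.structureModule X', CohB1.genLocus _ _) from rres X' hGle r')
  have hO : PicF.IsInvertible (Coh.structureModule X') :=
    Groth.Agent.H67.ParaExt.isInvertible_structureModule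
  have h1 := genLocus_inf_of_twist hN _ n (rres X' hGle r') (sectionHom _ t') (by
    rw [val_sectionHom]; exact ht')
  have hinv1 : PicF.IsInvertible (CohB1.tensorMod (Coh.structureModule X')
      (CohB1.tensorPow ((Scheme.Modules.pullback g).obj (CohB1.tensorPow L (k (g x') + 1))) n)) :=
    isInvertible_tensorMod hO (isInvertible_tensorPow hN n)
  have h2 := Groth.Agent.S15745.result X' _ _ hinv1 hN (sectionHom _ t')
    (sectionHom _ (OmegaSh.pullSect g _ ⊤ (Groth.Agent.H54.PB.evOne _ (s (g x')))))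
  -- transfer to a power of the pullback of `L`
  have w₁ := ((hasCocycle_unit (𝔘.pull g)).tmul (wN.lpow n)).tmul wN
  have w₂ := (h.pull g).lpow ((k (g x') + 1) * n + k (g x') + 1)
  have hc : (1 * ((c ^ (k (g x') + 1)).pull g 𝔘) ^ n) * (c ^ (k (g x') + 1)).pull g 𝔘 =
      (c.pull g 𝔘) ^ ((k (g x') + 1) * n + k (g x') + 1) := by
    rw [one_mul, Cover.Cocycle.pull_pow, ← pow_mul, ← pow_add, add_assoc]
  rw [hc] at w₁
  obtain ⟨a, -, ha⟩ := w₁.exists_transfer w₂ (SecTwist.tmulHom (sectionHom _ t')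
    (sectionHom _ (OmegaSh.pullSect g _ ⊤ (Groth.Agent.H54.PB.evOne _ (s (g x'))))))
  have hfin : CohB1.genLocus _ a = X'.basicOpen (rres X' hGle r') := ha.trans (h2.trans h1)
  refine ⟨(k (g x') + 1) * n + k (g x'), a, ?_, ?_⟩
  · rw [hfin, hbo]
    exact ⟨⟨x', hxs (g x')⟩, hx'r, rfl⟩
  · rw [hfin, hbo]
    exact hr'aff.image_of_isOpenImmersion _

end Groth.Agent.H18.STL
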