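import Groth.Agent.H18.STL.AmplePow
import Groth.Agent.H18.QCohLocal
import Mathlib.AlgebraicGeometry.QuasiAffine

/-!
# Invertible modules on quasi-affine schemes are ample (helper18)
-/

set_option autoImplicit false
universe u
open CategoryTheory CategoryTheory.Limits AlgebraicGeometry TopologicalSpace Opposite TensorProduct

namespace Groth.Agent.H18.STL

open Groth.Agent.H18 Groth.Agent.H18.PUP

variable {X : Scheme.{u}}

/-- invertible modules are quasi-coherent -/
theorem isQuasicoherent_of_isInvertible {L : X.Modules} (hL : PicF.IsInvertible L) :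
    L.IsQuasicoherent := by
  choose U hxU hiso using hL
  refine isQuasicoherent_of_isOpenCover L U ?_ (fun x => ?_)
  · apply IsOpenCover.mk
    exact top_le_iff.mp (fun x _ ↦ by simpa using ⟨x, hxU x⟩)
  · obtain ⟨e⟩ := hiso x
    exact (SheafOfModules.isQuasicoherent (U x : Scheme.{u}).ringCatSheaf).prop_of_iso e.symm
      (isQuasicoherent_structureModule (U x : Scheme.{u}))

/-- the locus of generation of a section which agrees on `X_s` with the twist of a multiple of a
basis -/
theorem genLocus_inf_of_twist' {L : X.Modules} (hL : PicF.IsInvertible L)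
    (s : Coh.structureModule X ⟶ L) (m : ℕ) (F : X.Modules)
    (t₀ : Γ(F, CohB1.genLocus L s)) (ht₀ : IsBasisOn F (CohB1.genLocus L s) t₀)
    (g : Γ(X, CohB1.genLocus L s))
    (b : Coh.structureModule X ⟶ CohB1.tensorMod F (CohB1.tensorPow L m))
    (hb : SecTwist.val b (CohB1.genLocus L s) =
      SecTwist.twist s m F (CohB1.genLocus L s) (g • t₀)) :
    CohB1.genLocus _ b ⊓ CohB1.genLocus L s = X.basicOpen g := by
  have hgle : X.basicOpen g ≤ CohB1.genLocus L s := X.basicOpen_le g
  have key : ∀ x ∈ CohB1.genLocus L s, (x ∈ CohB1.genLocus _ b ↔ x ∈ X.basicOpen g) := by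
    intro x hxs
    obtain ⟨U₀, e₀, hxU₀, he₀⟩ := exists_basis_of_isInvertible hL x
    set U := U₀ ⊓ CohB1.genLocus L s with hU
    have hxU : x ∈ U := ⟨hxU₀, hxs⟩
    have hUs : U ≤ CohB1.genLocus L s := inf_le_right
    have he : IsBasisOn L U (mres L inf_le_left e₀) := he₀.mono inf_le_left
    set e := mres L (inf_le_left : U ≤ U₀) e₀ with he_def
    set f := he.coord le_rfl (SecTwist.val s U) with hf_def
    have hf : SecTwist.val s U = f • e := by
      have := he.coord_smul le_rfl (SecTwist.val s U)
      rw [mres_self] at this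
      exact this.symm
    have hfU : U ≤ X.basicOpen f := by
      rw [← genLocus_inf_eq_basicOpen s he f hf]
      exact le_inf hUs le_rfl
    have hβ := isBasisOn_tmul (ht₀.mono hUs) (isBasisOn_lpow he m)
    set gU : Γ(X, U) := rres X hUs g with hgU
    have hval : SecTwist.val b U = (f ^ m * gU) •
        SecTwist.tmul F (CohB1.tensorPow L m) U (mres F hUs t₀) (lpow L U e m) := by
      rw [← mres_val b hUs, hb, mres_twist, twist_eq_tmul_lpow s U e f hf, ← tmul_smul_left,
        mres_smul, ← mul_smul]
    have h1 := genLocus_inf_eq_basicOpen b hβ _ hval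
    have hfu : IsUnit f := by
      have := (isUnit_res_iff_le_basicOpen (le_refl U) f).2 hfU
      rwa [rres_self] at this
    have h2 : X.basicOpen (f ^ m * gU) = U ⊓ X.basicOpen g := by
      rw [X.basicOpen_mul, X.basicOpen_of_isUnit (hfu.pow m), hgU, rres, Scheme.basicOpen_res,
        ← inf_assoc, inf_idem]
    constructor
    · intro hx
      have hx' : x ∈ CohB1.genLocus _ b ⊓ U := ⟨hx, hxU⟩
      rw [h1, h2] at hx'
      exact hx'.2
    · intro hx
      have hx' : x ∈ U ⊓ X.basicOpen g := ⟨hxU, hx⟩
      rw [← h2, ← h1] at hx'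
      exact hx'.1
  ext x
  constructor
  · rintro ⟨hxb, hxs⟩
    exact (key x hxs).1 hxb
  · intro hxg
    exact ⟨(key x (hgle hxg)).2 hxg, hgle hxg⟩

/-- the global function `r` as an endomorphism of the structure module -/
noncomputable def funHom (r : Γ(X, (⊤ : X.Opens))) : Coh.structureModule X ⟶ Coh.structureModule X :=
  sectionHom (Coh.structureModule X) (show Γ(Coh.structureModule X, (⊤ : X.Opens)) from r)

theorem val_funHom (r : Γ(X, (⊤ : X.Opens))) (V : X.Opens) :
    SecTwist.val (funHom r) V = rres X (le_top : V ≤ ⊤) r • oneSec X V := by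
  rw [funHom, val_sectionHom]
  exact (mul_one (rres X (le_top : V ≤ ⊤) r)).symm

theorem genLocus_funHom (r : Γ(X, (⊤ : X.Opens))) :
    CohB1.genLocus (Coh.structureModule X) (funHom r) = X.basicOpen r := by
  have h := genLocus_inf_eq_basicOpen (funHom r) (isBasisOn_oneSec (⊤ : X.Opens))
    (rres X (le_refl _) r) (val_funHom r ⊤)
  rw [rres_self, inf_top_eq] at h
  exact h

end Groth.Agent.H18.STL
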