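import Groth.Agent.H18.STL.QuasiAffine2
import Groth.Agent.H20.ImmersionAffine
import Groth.Agent.H67.FreeNearFinite2

/-!
# Sections of invertible modules on quasi-affine schemes with affine locus of generation
containing a given finite set (helper18)
-/

set_option autoImplicit false
universe u
open CategoryTheory CategoryTheory.Limits AlgebraicGeometry TopologicalSpace Opposite TensorProduct

namespace Groth.Agent.H18.STL

open Groth.Agent.H18 Groth.Agent.H18.PUP

variable {X : Scheme.{u}}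

/-- on a quasi-affine scheme, a finite subset of an open lies in an affine basic open of a global
function contained in that open -/
theorem exists_affine_basicOpen_of_finite [X.IsQuasiAffine] (W : X.Opens) (E : Set X)
    (hE : E.Finite) (hEW : E ⊆ W) :
    ∃ r : Γ(X, (⊤ : X.Opens)), IsAffineOpen (X.basicOpen r) ∧ E ⊆ X.basicOpen r ∧
      X.basicOpen r ≤ W := by
  obtain ⟨g, hg1, hg2⟩ := Groth.Agent.H20.exists_basicOpen_of_finite_subset_isOpen
    (A := Γ(X, ⊤))
    (show Set (PrimeSpectrum Γ(X, ⊤)) from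
      ((X.toSpecΓ ''ᵁ W : (Spec Γ(X, ⊤)).Opens) : Set (Spec Γ(X, ⊤))))
    (X.toSpecΓ ''ᵁ W).2 (X.toSpecΓ '' E) (hE.image _) (Set.image_mono hEW)
  have hpre : X.basicOpen g = X.toSpecΓ ⁻¹ᵁ PrimeSpectrum.basicOpen g :=
    (Scheme.toSpecΓ_preimage_basicOpen X g).symm
  refine ⟨g, ?_, ?_, ?_⟩
  · rw [hpre, ← Scheme.Hom.isAffineOpen_iff_of_isOpenImmersion X.toSpecΓ]
    convert! IsAffineOpen.Spec_basicOpen g
    exact SetLike.coe_injective (Set.image_preimage_eq_of_subset
      (hg2.trans (Set.image_subset_range _ _)))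
  · intro x hx
    rw [hpre]
    exact hg1 ⟨x, hx, rfl⟩
  · intro x hx
    rw [hpre] at hx
    obtain ⟨y, hy, hyx⟩ := hg2 hx
    have : y = x := X.toSpecΓ.isEmbedding.injective hyx
    exact this ▸ hy

/-- EGA II 5.1.? : on a quasi-affine scheme, for a finite subset `E` of an open `W` there is a
section `s` of an invertible module `L` with `E ⊆ X_s ⊆ W` and `X_s` affine -/
theorem exists_section_affine_genLocus_of_finite [X.IsQuasiAffine] {L : X.Modules}
    (hL : PicF.IsInvertible L) (W : X.Opens) (E : Set X) (hE : E.Finite) (hEW : E ⊆ W) :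
    ∃ s : Coh.structureModule X ⟶ L, IsAffineOpen (CohB1.genLocus L s) ∧
      E ⊆ CohB1.genLocus L s ∧ CohB1.genLocus L s ≤ W := by
  obtain ⟨r₁, haff₁, hE₁, hW₁⟩ := exists_affine_basicOpen_of_finite W E hE hEW
  obtain ⟨U, -, hEU, hU₁, ⟨e⟩⟩ :=
    Groth.Agent.H67.FreeNearFinite2.exists_trivial_affine_nhds L hL E hE _ haff₁ hE₁
  obtain ⟨σ, hσ'⟩ := Groth.Agent.H8.exists_isFreeGen_of_iso L U e
  have hσ : IsBasisOn L U σ := hσ'
  obtain ⟨r₂, haff₂, hE₂, hU₂⟩ := exists_affine_basicOpen_of_finite U E hE hEU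
  obtain ⟨b, hb⟩ := exists_section_genLocus_eq_basicOpen hL r₂ hσ hU₂
  obtain ⟨𝔄⟩ := nonempty_atlas hL
  obtain ⟨s, -, hs⟩ := (hasWeight_tensorPow 𝔄 (0 + 1)).exists_transfer (hasWeight_self 𝔄) b
  have hs' : CohB1.genLocus L s = X.basicOpen r₂ := hs.trans hb
  exact ⟨s, hs' ▸ haff₂, hs' ▸ hE₂, hs'.le.trans ((hU₂.trans hU₁).trans hW₁)⟩

end Groth.Agent.H18.STL
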