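import Groth.Agent.H18.STL.RestrictSection

/-!
# Ampleness and restriction to quasi-compact opens; relative ampleness over an affine base
(helper18)
-/

set_option autoImplicit false
universe u
open CategoryTheory CategoryTheory.Limits AlgebraicGeometry TopologicalSpace Opposite TensorProduct

namespace Groth.Agent.H18.STL

open Groth.Agent.H18 Groth.Agent.H18.PUP

variable {X : Scheme.{u}}

/-- sections of `(L^{⊗ N})|_U` and of `(L|_U)^{⊗ N}` correspond -/
theorem exists_transfer_restrict_tensorPow {L : X.Modules} (hL : PicF.IsInvertible L)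
    (U : X.Opens) (N : ℕ) :
    (∀ s : Coh.structureModule (U : Scheme.{u}) ⟶ (CohB1.tensorPow L N).restrict U.ι,
      ∃ s' : Coh.structureModule (U : Scheme.{u}) ⟶ CohB1.tensorPow (L.restrict U.ι) N,
        CohB1.genLocus _ s' = CohB1.genLocus _ s) ∧
    (∀ s' : Coh.structureModule (U : Scheme.{u}) ⟶ CohB1.tensorPow (L.restrict U.ι) N,
      ∃ s : Coh.structureModule (U : Scheme.{u}) ⟶ (CohB1.tensorPow L N).restrict U.ι,
        CohB1.genLocus _ s = CohB1.genLocus _ s') := by
  obtain ⟨𝔘, c, e, h⟩ := exists_cover_cocycle hL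
  have w₁ := (h.lpow N).restrict U
  have w₂ := (h.restrict U).lpow N
  rw [Cover.Cocycle.restrict_pow] at w₁
  constructor
  · intro s
    obtain ⟨s', -, hs'⟩ := w₁.exists_transfer w₂ s
    exact ⟨s', hs'⟩
  · intro s'
    obtain ⟨s, -, hs⟩ := w₂.exists_transfer w₁ s'
    exact ⟨s, hs⟩

/-- the restriction of an ample module to a quasi-compact open is ample -/
theorem isAmple_restrict {L : X.Modules} (hL : CohB1.IsAmple L) (U : X.Opens)
    (hU : CompactSpace (U : Scheme.{u})) : CohB1.IsAmple (L.restrict U.ι) := by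
  refine ⟨Groth.Agent.H67.ParaMono.isInvertible_restrict _ L hL.1, hU, fun x' => ?_⟩
  obtain ⟨k, b, hxb, hbU, hbaff⟩ := exists_genLocus_nhd_of_isAmple hL U x'.1 x'.2
  obtain ⟨s', hs'⟩ := (exists_transfer_restrict_tensorPow hL.1 U (k + 1)).1 (restrictSection b U)
  have hg : CohB1.genLocus _ s' = U.ι ⁻¹ᵁ CohB1.genLocus _ b :=
    hs'.trans (genLocus_restrictSection b)
  refine ⟨k, s', ?_, ?_⟩
  · rw [hg]; exact hxb
  · rw [hg, ← Scheme.Hom.isAffineOpen_iff_of_isOpenImmersion U.ι,
      Scheme.Hom.image_preimage_eq_opensRange_inf, Scheme.Opens.opensRange_ι, inf_eq_right.2 hbU]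
    exact hbaff

/-- if `U` is everything and the restriction of `L` to `U` is ample then `L` is ample -/
theorem isAmple_of_isAmple_restrict {L : X.Modules} (U : X.Opens) (hU : ∀ x : X, x ∈ U)
    (hL : CohB1.IsAmple (L.restrict U.ι)) : CohB1.IsAmple L := by
  have hLi : PicF.IsInvertible L := isInvertible_of_restrict (fun x => ⟨U, hU x, hL.1⟩)
  have hcpt : CompactSpace X := by
    have := hL.2.1
    have h1 : IsCompact (Set.range U.ι) := isCompact_range U.ι.continuous
    have h2 : Set.range U.ι = Set.univ := by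
      ext x
      simp only [Set.mem_range, Set.mem_univ, iff_true]
      exact ⟨⟨x, hU x⟩, rfl⟩
    rw [h2] at h1
    exact ⟨h1⟩
  refine ⟨hLi, hcpt, fun x => ?_⟩
  obtain ⟨k, s', hxs', haff⟩ := hL.2.2 ⟨x, hU x⟩
  obtain ⟨s, hs⟩ := (exists_transfer_restrict_tensorPow hLi U (k + 1)).2 s'
  obtain ⟨a, ha⟩ := exists_extend_section hU s
  have hg : CohB1.genLocus _ s' = U.ι ⁻¹ᵁ CohB1.genLocus _ a := hs.symm.trans ha
  refine ⟨k, a, ?_, ?_⟩
  · have : (⟨x, hU x⟩ : U) ∈ U.ι ⁻¹ᵁ CohB1.genLocus _ a := hg ▸ hxs'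
    exact this
  · rw [hg, ← Scheme.Hom.isAffineOpen_iff_of_isOpenImmersion U.ι,
      Scheme.Hom.image_preimage_eq_opensRange_inf, Scheme.Opens.opensRange_ι,
      inf_eq_right.2 (fun y _ => hU y)] at haff
    exact haff

variable {Y : Scheme.{u}}

/-- EGA II 4.6.6 -/
theorem isRelAmple_iff_isAmple_of_isAffine [IsAffine Y] (f : X ⟶ Y) [QuasiCompact f]
    (L : X.Modules) : RelAmple.IsRelAmple f L ↔ CohB1.IsAmple L := by
  constructor
  · rintro ⟨-, h⟩
    exact isAmple_of_isAmple_restrict (f ⁻¹ᵁ ⊤) (fun _ => trivial) (h ⟨⊤, isAffineOpen_top Y⟩)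
  · intro hL
    refine ⟨inferInstance, fun V => isAmple_restrict hL _ ?_⟩
    exact isCompact_iff_compactSpace.1 (QuasiCompact.isCompact_preimage (f := f) _ V.1.isOpen
      V.2.isCompact)

end Groth.Agent.H18.STL
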