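import Groth.Agent.H18.STL.Restrict

/-!
# Restriction of covers and cocycles to an open subscheme (helper18)
-/

set_option autoImplicit false
universe u
open CategoryTheory CategoryTheory.Limits AlgebraicGeometry TopologicalSpace Opposite TensorProduct

namespace Groth.Agent.H18.STL

open Groth.Agent.H18 Groth.Agent.H18.PUP

variable {X : Scheme.{u}} (U : X.Opens)

/-- the restriction of a cover to an open subscheme -/
def Cover.restrict (𝔘 : Cover X) : Cover (U : Scheme.{u}) where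
  ι := 𝔘.ι
  W i := U.ι ⁻¹ᵁ 𝔘.W i
  cov x := by
    obtain ⟨i, hi⟩ := 𝔘.cov (U.ι x)
    exact ⟨i, hi⟩

variable (𝔘 : Cover X)

theorem image_inf_preimage_le (i j : 𝔘.ι) :
    U.ι ''ᵁ (U.ι ⁻¹ᵁ 𝔘.W i ⊓ U.ι ⁻¹ᵁ 𝔘.W j) ≤ 𝔘.W i ⊓ 𝔘.W j :=
  le_inf ((U.ι.image_mono inf_le_left).trans (image_preimage_ι_le U _))
    ((U.ι.image_mono inf_le_right).trans (image_preimage_ι_le U _))

/-- the ring homomorphism restricting functions on an overlap -/
noncomputable def overlapRestrict (i j : 𝔘.ι) :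
    Γ(X, 𝔘.W i ⊓ 𝔘.W j) →+* Γ(U, U.ι ⁻¹ᵁ 𝔘.W i ⊓ U.ι ⁻¹ᵁ 𝔘.W j) :=
  (U.ι.appIso _).hom.hom.comp (rres X (image_inf_preimage_le U 𝔘 i j)).hom

/-- the restriction of a cocycle -/
noncomputable def Cover.Cocycle.restrict (c : 𝔘.Cocycle) : (𝔘.restrict U).Cocycle :=
  fun i j => overlapRestrict U 𝔘 i j (c i j)

theorem Cover.Cocycle.restrict_mul (c d : 𝔘.Cocycle) :
    (c * d).restrict U 𝔘 = c.restrict U 𝔘 * d.restrict U 𝔘 := by
  funext i j
  exact map_mul (overlapRestrict U 𝔘 i j) _ _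

theorem Cover.Cocycle.restrict_pow (c : 𝔘.Cocycle) (n : ℕ) :
    (c ^ n).restrict U 𝔘 = c.restrict U 𝔘 ^ n := by
  funext i j
  exact map_pow (overlapRestrict U 𝔘 i j) _ _

/-- the restriction of a family of sections over the members of a cover -/
noncomputable def restrictFamily (M : X.Modules) (β : ∀ i, Γ(M, 𝔘.W i)) :
    ∀ i, Γ(M.restrict U.ι, (𝔘.restrict U).W i) :=
  fun i => toRestrict U M (U.ι ⁻¹ᵁ 𝔘.W i) (mres M (image_preimage_ι_le U (𝔘.W i)) (β i))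

theorem appIso_inv_overlapRestrict (i j : 𝔘.ι) (a : Γ(X, 𝔘.W i ⊓ 𝔘.W j)) :
    (U.ι.appIso (U.ι ⁻¹ᵁ 𝔘.W i ⊓ U.ι ⁻¹ᵁ 𝔘.W j)).inv (overlapRestrict U 𝔘 i j a) =
      rres X (image_inf_preimage_le U 𝔘 i j) a := by
  change (U.ι.appIso _).inv ((U.ι.appIso _).hom (rres X (image_inf_preimage_le U 𝔘 i j) a)) = _
  rw [← ConcreteCategory.comp_apply, Iso.hom_inv_id]
  rfl

variable {𝔘}

theorem HasCocycle.restrict {c : 𝔘.Cocycle} {M : X.Modules} {β : ∀ i, Γ(M, 𝔘.W i)}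
    (h : HasCocycle 𝔘 c M β) :
    HasCocycle (𝔘.restrict U) (c.restrict U 𝔘) (M.restrict U.ι) (restrictFamily U 𝔘 M β) where
  basis i := isBasisOn_restrict ((h.basis i).mono (image_preimage_ι_le U (𝔘.W i)))
  trans i j := by
    have h1 := congrArg (mres M (image_inf_preimage_le U 𝔘 i j)) (h.trans i j)
    rw [mres_smul, mres_mres, mres_mres] at h1
    have h2 : mres M (U.ι.image_mono (inf_le_right : U.ι ⁻¹ᵁ 𝔘.W i ⊓ U.ι ⁻¹ᵁ 𝔘.W j ≤ _))
        (mres M (image_preimage_ι_le U (𝔘.W j)) (β j)) =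
        rres X (image_inf_preimage_le U 𝔘 i j) (c i j) •
          mres M (U.ι.image_mono (inf_le_left : U.ι ⁻¹ᵁ 𝔘.W i ⊓ U.ι ⁻¹ᵁ 𝔘.W j ≤ _))
            (mres M (image_preimage_ι_le U (𝔘.W i)) (β i)) := by
      rw [mres_mres, mres_mres]
      exact h1
    rw [← appIso_inv_overlapRestrict] at h2
    exact h2

/-- invertibility is local -/
theorem isInvertible_of_restrict {L : X.Modules} (hL : ∀ x : X, ∃ U : X.Opens, x ∈ U ∧
    PicF.IsInvertible (L.restrict U.ι)) : PicF.IsInvertible L := by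
  refine isInvertible_of_local_bases L (fun x => ?_)
  obtain ⟨U, hxU, hU⟩ := hL x
  obtain ⟨V', t, hxV', ht⟩ := exists_basis_of_isInvertible hU ⟨x, hxU⟩
  exact ⟨U.ι ''ᵁ V', t, ⟨⟨x, hxU⟩, hxV', rfl⟩, isBasisOn_of_restrict ht⟩

end Groth.Agent.H18.STL
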