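import Groth.Agent.H18.STL.RelAmple

/-!
# Restriction of global sections to an open subscheme and loci of generation (helper18)
-/

set_option autoImplicit false
universe u
open CategoryTheory CategoryTheory.Limits AlgebraicGeometry TopologicalSpace Opposite TensorProduct

namespace Groth.Agent.H18.STL

open Groth.Agent.H18 Groth.Agent.H18.PUP

variable {X : Scheme.{u}} {U : X.Opens}

theorem mem_genLocus_iff {M : X.Modules} (s : Coh.structureModule X ⟶ M) (x : X) :
    x ∈ CohB1.genLocus M s ↔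
      ∃ V : X.Opens, x ∈ V ∧ ∀ V₁ : X.Opens, V₁ ≤ V → Function.Bijective (s.app V₁) := by
  change x ∈ sSup {W : X.Opens | IsIso ((Scheme.Modules.restrictFunctor W.ι).map s)} ↔ _
  rw [Opens.mem_sSup]
  constructor
  · rintro ⟨W, hW, hxW⟩
    exact ⟨W, hxW, (Groth.Agent.H67.GenLocusAffine.isIso_restrict_iff s W).1 hW⟩
  · rintro ⟨V, hxV, hV⟩
    exact ⟨V, (Groth.Agent.H67.GenLocusAffine.isIso_restrict_iff s V).2 hV, hxV⟩

set_option backward.isDefEq.respectTransparency false in
theorem bijective_app_restrict_iff {M : X.Modules} (a : Coh.structureModule X ⟶ M)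
    (s : Coh.structureModule (U : Scheme.{u}) ⟶ M.restrict U.ι)
    (hval : ∀ V' : (U : Scheme.{u}).Opens,
      SecTwist.val s V' = toRestrict U M V' (SecTwist.val a (U.ι ''ᵁ V')))
    (V' : (U : Scheme.{u}).Opens) :
    Function.Bijective (s.app V') ↔ Function.Bijective (a.app (U.ι ''ᵁ V')) := by
  have hb2 : Function.Bijective ((U.ι.appIso V').inv : Γ(U, V') → Γ(X, U.ι ''ᵁ V')) :=
    ConcreteCategory.bijective_of_isIso (U.ι.appIso V').inv
  have hfun : (s.app V' : Γ(Coh.structureModule (U : Scheme.{u}), V') → Γ(M.restrict U.ι, V')) =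
      (a.app (U.ι ''ᵁ V') : Γ(Coh.structureModule X, U.ι ''ᵁ V') → Γ(M, U.ι ''ᵁ V')) ∘
        ((U.ι.appIso V').inv : Γ(U, V') → Γ(X, U.ι ''ᵁ V')) := by
    funext r
    have h1 := app_eq_smul_val s V' r
    have h2 := app_eq_smul_val a (U.ι ''ᵁ V') ((U.ι.appIso V').inv r)
    rw [hval] at h1
    exact h1.trans h2.symm
  rw [hfun]
  exact ⟨fun h => (Function.Bijective.of_comp_iff _ hb2).1 h, fun h => h.comp hb2⟩

/-- the locus of generation of the restriction of a section -/
theorem genLocus_restrict_eq {M : X.Modules} (a : Coh.structureModule X ⟶ M)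
    (s : Coh.structureModule (U : Scheme.{u}) ⟶ M.restrict U.ι)
    (hval : ∀ V' : (U : Scheme.{u}).Opens,
      SecTwist.val s V' = toRestrict U M V' (SecTwist.val a (U.ι ''ᵁ V'))) :
    CohB1.genLocus (M.restrict U.ι) s = U.ι ⁻¹ᵁ CohB1.genLocus M a := by
  ext x'
  change x' ∈ CohB1.genLocus (M.restrict U.ι) s ↔ U.ι x' ∈ CohB1.genLocus M a
  rw [mem_genLocus_iff, mem_genLocus_iff]
  constructor
  · rintro ⟨V', hxV', hV'⟩
    refine ⟨U.ι ''ᵁ V', ⟨x', hxV', rfl⟩, fun V₁ hV₁ => ?_⟩
    have hV₁U : V₁ ≤ U := hV₁.trans (image_ι_le U V')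
    have hle : U.ι ⁻¹ᵁ V₁ ≤ V' := by
      have := U.ι.preimage_mono hV₁
      rwa [U.ι.preimage_image_eq] at this
    have heq : U.ι ''ᵁ (U.ι ⁻¹ᵁ V₁) = V₁ := by
      rw [Scheme.Hom.image_preimage_eq_opensRange_inf, Scheme.Opens.opensRange_ι]
      exact inf_eq_right.2 hV₁U
    have h1 := (bijective_app_restrict_iff a s hval _).1 (hV' _ hle)
    exact (Groth.Agent.H67.GenLocusAffine.bijective_app_congr a heq).1 h1
  · rintro ⟨V, hxV, hV⟩
    refine ⟨U.ι ⁻¹ᵁ V, hxV, fun V'' hV'' => ?_⟩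
    refine (bijective_app_restrict_iff a s hval _).2 (hV _ ?_)
    exact (U.ι.image_mono hV'').trans (image_preimage_ι_le U V)

/-- the restriction of a global section to an open subscheme -/
noncomputable def restrictSection {M : X.Modules} (a : Coh.structureModule X ⟶ M) (U : X.Opens) :
    Coh.structureModule (U : Scheme.{u}) ⟶ M.restrict U.ι :=
  sectionHom (M.restrict U.ι) (toRestrict U M ⊤ (SecTwist.val a (U.ι ''ᵁ ⊤)))

theorem val_restrictSection {M : X.Modules} (a : Coh.structureModule X ⟶ M)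
    (V' : (U : Scheme.{u}).Opens) :
    SecTwist.val (restrictSection a U) V' = toRestrict U M V' (SecTwist.val a (U.ι ''ᵁ V')) := by
  rw [restrictSection, val_sectionHom]
  exact mres_val a (U.ι.image_mono (le_top : V' ≤ ⊤))

theorem genLocus_restrictSection {M : X.Modules} (a : Coh.structureModule X ⟶ M) :
    CohB1.genLocus (M.restrict U.ι) (restrictSection a U) = U.ι ⁻¹ᵁ CohB1.genLocus M a :=
  genLocus_restrict_eq a _ (val_restrictSection a)

/-- when `U` is everything, sections over `U` extend -/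
theorem exists_extend_section (hU : ∀ x : X, x ∈ U) {M : X.Modules}
    (s : Coh.structureModule (U : Scheme.{u}) ⟶ M.restrict U.ι) :
    ∃ a : Coh.structureModule X ⟶ M,
      CohB1.genLocus (M.restrict U.ι) s = U.ι ⁻¹ᵁ CohB1.genLocus M a := by
  have htop : (⊤ : X.Opens) ≤ U.ι ''ᵁ ⊤ := by
    rw [Scheme.Opens.ι_image_top]
    exact fun x _ => hU x
  let σ : Γ(M, (⊤ : X.Opens)) := mres M htop (show Γ(M, U.ι ''ᵁ ⊤) from SecTwist.val s ⊤)
  refine ⟨sectionHom M σ, genLocus_restrict_eq _ s (fun V' => ?_)⟩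
  rw [val_sectionHom]
  change _ = mres M _ (mres M htop (show Γ(M, U.ι ''ᵁ ⊤) from SecTwist.val s ⊤))
  rw [mres_mres]
  exact (mres_val s (le_top : V' ≤ ⊤)).symm

end Groth.Agent.H18.STL
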