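import Groth.Agent.H5.Stalk.Adjunction
import Groth.Agent.H18.STL.GenAt
import Groth.Agent.H54.PullbackSection

/-!
# Stalks, epimorphisms and generation (helper18)

* `stalk_eq_top_of_epi`: if `φ : A ⟶ M` is an epimorphism which vanishes after composing with the
  map to the skyscraper of `M_x / N`, then `N = M_x`;
* `exists_isGenAt_of_span_eq_top`: Nakayama for invertible modules: if germs of local sections span
  the stalk `L_x` then one of the sections generates `L` near `x`.
-/

set_option autoImplicit false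
universe u
open CategoryTheory CategoryTheory.Limits AlgebraicGeometry TopologicalSpace Opposite TensorProduct

namespace Groth.Agent.H18.STL

open Groth.Agent.H18 Groth.Agent.H18.PUP Groth.Agent.H5.Stalk

variable {X : Scheme.{u}}

theorem toSky_injective (x : X) {M : X.Modules} {N : ModuleCat.{u} (X.presheaf.stalk x)} :
    Function.Injective (toSky x (M := M) (N := N)) :=
  Function.LeftInverse.injective (fromSky_toSky x)

theorem toSky_zero (x : X) {M : X.Modules} {N : ModuleCat.{u} (X.presheaf.stalk x)} :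
    toSky x (0 : (stalkFunctor x).obj M ⟶ N) = 0 := by
  ext U m
  refine funext (fun h => ?_)
  exact toSky_app_apply x 0 U m h

/-- if an epimorphism `φ : A ⟶ M` dies in the skyscraper of `M_x / N` then `N = M_x` -/
theorem stalk_eq_top_of_epi {A M : X.Modules} (φ : A ⟶ M) [Epi φ] (x : X)
    (N : Submodule (X.presheaf.stalk x) ((stalkFunctor x).obj M))
    (h : φ ≫ toSky x (ModuleCat.ofHom N.mkQ) = 0) : N = ⊤ := by
  have h1 : toSky x (ModuleCat.ofHom N.mkQ) = 0 := (cancel_epi φ).1 (h.trans comp_zero.symm)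
  have h2 : ModuleCat.ofHom N.mkQ = 0 := toSky_injective x (h1.trans (toSky_zero x).symm)
  rw [eq_top_iff]
  intro m _
  have h3 : N.mkQ m = 0 := by
    have := congrArg (fun f => f.hom m) h2
    exact this
  exact (Submodule.Quotient.mk_eq_zero N).1 h3

/-- the stalk of a module with a basis is free on the germ of the basis -/
theorem bijective_smul_germ_of_isBasisOn {L : X.Modules} {U : X.Opens} {e : Γ(L, U)}
    (he : IsBasisOn L U e) (x : X) (hx : x ∈ U) :
    Function.Bijective (fun r : X.presheaf.stalk x => r • (L.presheaf.germ U x hx e :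
      (stalkFunctor x).obj L)) := by
  constructor
  · intro r r' hrr'
    obtain ⟨V₁, hxV₁, r₁, rfl⟩ := X.presheaf.exists_germ_eq r
    obtain ⟨V₂, hxV₂, r₂, rfl⟩ := X.presheaf.exists_germ_eq r'
    have hV : V₁ ⊓ V₂ ⊓ U ≤ U := inf_le_right
    have hxV : x ∈ V₁ ⊓ V₂ ⊓ U := ⟨⟨hxV₁, hxV₂⟩, hx⟩
    have e1 : X.presheaf.germ V₁ x hxV₁ r₁ = X.presheaf.germ (V₁ ⊓ V₂ ⊓ U) x hxV
        (rres X (inf_le_left.trans inf_le_left) r₁) :=
      (TopCat.Presheaf.germ_res_apply _ _ _ _ _).symm
    have e2 : X.presheaf.germ V₂ x hxV₂ r₂ = X.presheaf.germ (V₁ ⊓ V₂ ⊓ U) x hxV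
        (rres X (inf_le_left.trans inf_le_right) r₂) :=
      (TopCat.Presheaf.germ_res_apply _ _ _ _ _).symm
    have e3 : L.presheaf.germ U x hx e = L.presheaf.germ (V₁ ⊓ V₂ ⊓ U) x hxV (mres L hV e) :=
      (TopCat.Presheaf.germ_res_apply _ _ _ _ _).symm
    simp only at hrr'
    rw [e1, e2, e3, ← germ_smul, ← germ_smul] at hrr'
    obtain ⟨W, hxW, iW, iW', hW⟩ := TopCat.Presheaf.germ_eq L.presheaf x hxV hxV _ _ hrr'
    have hWle : W ≤ V₁ ⊓ V₂ ⊓ U := iW.le
    have hW' : mres L hWle (rres X (inf_le_left.trans inf_le_left) r₁ • mres L hV e) =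
        mres L hWle (rres X (inf_le_left.trans inf_le_right) r₂ • mres L hV e) := hW
    rw [mres_smul, mres_smul, mres_mres] at hW'
    have h4 := (he W (hWle.trans hV)).1 hW'
    rw [e1, e2]
    have e5 : ∀ a : Γ(X, V₁ ⊓ V₂ ⊓ U), X.presheaf.germ (V₁ ⊓ V₂ ⊓ U) x hxV a =
        X.presheaf.germ W x hxW (rres X hWle a) :=
      fun a => (TopCat.Presheaf.germ_res_apply _ _ _ _ _).symm
    rw [e5, e5, h4]
  · intro m
    obtain ⟨V, hxV, m', rfl⟩ := L.presheaf.exists_germ_eq (m : L.presheaf.stalk x)
    have hV : V ⊓ U ≤ U := inf_le_right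
    have hxVU : x ∈ V ⊓ U := ⟨hxV, hx⟩
    obtain ⟨r, hr⟩ := (he (V ⊓ U) hV).2 (mres L inf_le_left m')
    refine ⟨X.presheaf.germ (V ⊓ U) x hxVU r, ?_⟩
    have e3 : L.presheaf.germ U x hx e = L.presheaf.germ (V ⊓ U) x hxVU (mres L hV e) :=
      (TopCat.Presheaf.germ_res_apply _ _ _ _ _).symm
    have e4 : L.presheaf.germ V x hxV m' = L.presheaf.germ (V ⊓ U) x hxVU
        (mres L inf_le_left m') := (TopCat.Presheaf.germ_res_apply _ _ _ _ _).symm
    simp only
    rw [e3, e4, ← germ_smul]
    exact congrArg _ hr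

/-- Nakayama for invertible modules: if the germs at `x` of a family of local sections span the
stalk then one of the sections generates near `x` -/
theorem exists_isGenAt_of_span_eq_top {L : X.Modules} (hL : PicF.IsInvertible L) (x : X)
    {ι : Type*} (V : ι → X.Opens) (hxV : ∀ i, x ∈ V i) (σ : ∀ i, Γ(L, V i))
    (hspan : Submodule.span (X.presheaf.stalk x)
      (Set.range fun i => (L.presheaf.germ (V i) x (hxV i) (σ i) : (stalkFunctor x).obj L)) = ⊤) :
    ∃ i, IsGenAt L (σ i) x := by
  obtain ⟨U, e, hxU, he⟩ := exists_basis_of_isInvertible hL x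
  have hbij := bijective_smul_germ_of_isBasisOn he x hxU
  let c : (stalkFunctor x).obj L ≃ₗ[X.presheaf.stalk x] X.presheaf.stalk x :=
    (LinearEquiv.ofBijective (LinearMap.toSpanSingleton (X.presheaf.stalk x)
      ((stalkFunctor x).obj L) (L.presheaf.germ U x hxU e)) hbij).symm
  have hc : ∀ m : (stalkFunctor x).obj L, c m • (L.presheaf.germ U x hxU e :
      (stalkFunctor x).obj L) = m := fun m =>
    (LinearEquiv.ofBijective (LinearMap.toSpanSingleton (X.presheaf.stalk x)
      ((stalkFunctor x).obj L) (L.presheaf.germ U x hxU e)) hbij).apply_symm_apply m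
  have hce : c (L.presheaf.germ U x hxU e) = 1 := by
    apply hbij.1
    simp only
    rw [hc, one_smul]
  by_contra hcon
  push Not at hcon
  -- all coordinates lie in the maximal ideal
  have hmem : ∀ i, c (L.presheaf.germ (V i) x (hxV i) (σ i)) ∈
      IsLocalRing.maximalIdeal (X.presheaf.stalk x) := by
    intro i
    by_contra hu
    have hunit : IsUnit (c (L.presheaf.germ (V i) x (hxV i) (σ i))) := by
      by_contra h'
      exact hu ((IsLocalRing.mem_maximalIdeal _).2 h')
    apply hcon i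
    have hW : V i ⊓ U ≤ U := inf_le_right
    have hxW : x ∈ V i ⊓ U := ⟨hxV i, hxU⟩
    obtain ⟨g, hg⟩ := (he (V i ⊓ U) hW).2 (mres L inf_le_left (σ i))
    have hg' : mres L (inf_le_left : V i ⊓ U ≤ V i) (σ i) = g • mres L hW e := hg.symm
    have hgc : X.presheaf.germ (V i ⊓ U) x hxW g = c (L.presheaf.germ (V i) x (hxV i) (σ i)) := by
      apply hbij.1
      simp only
      rw [hc]
      have e3 : L.presheaf.germ U x hxU e = L.presheaf.germ (V i ⊓ U) x hxW (mres L hW e) :=
        (TopCat.Presheaf.germ_res_apply _ _ _ _ _).symm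
      have e4 : L.presheaf.germ (V i) x (hxV i) (σ i) = L.presheaf.germ (V i ⊓ U) x hxW
          (mres L inf_le_left (σ i)) := (TopCat.Presheaf.germ_res_apply _ _ _ _ _).symm
      rw [e3, e4, ← germ_smul, hg']
    have hxg : x ∈ X.basicOpen g := by
      rw [X.mem_basicOpen g x hxW, hgc]
      exact hunit
    rw [← isGenAt_mres_iff (inf_le_left : V i ⊓ U ≤ V i) (σ i) hxW, hg']
    exact (isGenAt_smul_basis_iff (he.mono hW) g hxW).2 hxg
  have hle : Submodule.span (X.presheaf.stalk x)
      (Set.range fun i => (L.presheaf.germ (V i) x (hxV i) (σ i) : (stalkFunctor x).obj L)) ≤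
      Submodule.comap c.toLinearMap
        ((IsLocalRing.maximalIdeal (X.presheaf.stalk x)).restrictScalars _) := by
    rw [Submodule.span_le]
    rintro _ ⟨i, rfl⟩
    exact hmem i
  rw [hspan] at hle
  have h1 : c (L.presheaf.germ U x hxU e) ∈ IsLocalRing.maximalIdeal (X.presheaf.stalk x) :=
    hle (Submodule.mem_top : (L.presheaf.germ U x hxU e : (stalkFunctor x).obj L) ∈ _)
  rw [hce] at h1
  exact (IsLocalRing.maximalIdeal (X.presheaf.stalk x)).ne_top_iff_one.1
    (IsLocalRing.maximalIdeal.isMaximal _).ne_top h1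

end Groth.Agent.H18.STL
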