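import Groth.Agent.H18.STL.TwistExtend
import Groth.Agent.H18.STL.PullQuasiAffine

/-!
# Ampleness of `L ⊗ M^n` for large `n` (helper18)

If `X` is quasi-compact and covered by opens `X_t`, `t` sections of positive powers of an invertible
module `M`, such that `L|_{X_t}` is ample, then `L ⊗ M^{⊗ n}` is ample for all large `n`
(the key step of EGA II 4.6.13 (ii)).
-/

set_option autoImplicit false
universe u
open CategoryTheory CategoryTheory.Limits AlgebraicGeometry TopologicalSpace Opposite TensorProduct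

namespace Groth.Agent.H18.STL

open Groth.Agent.H18 Groth.Agent.H18.PUP

variable {X : Scheme.{u}}

/-- the locus of generation of a section of an invertible module on a quasi-compact scheme is
quasi-compact -/
theorem isCompact_genLocus [CompactSpace X] {N : X.Modules} (hN : PicF.IsInvertible N)
    (σ : Coh.structureModule X ⟶ N) : IsCompact ((CohB1.genLocus N σ : X.Opens) : Set X) := by
  classical
  have hex : ∀ x : X, ∃ A : X.Opens, IsAffineOpen A ∧ x ∈ A ∧
      IsCompact ((CohB1.genLocus N σ ⊓ A : X.Opens) : Set X) := by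
    intro x
    obtain ⟨U, e, hxU, he⟩ := exists_basis_of_isInvertible hN x
    obtain ⟨A, hAaff, hxA, hAU⟩ := Opens.isBasis_iff_nbhd.1 X.isBasis_affineOpens hxU
    have heA : IsBasisOn N A (mres N hAU e) := he.mono hAU
    obtain ⟨g, hg⟩ : ∃ g : Γ(X, A), SecTwist.val σ A = g • mres N hAU e := by
      have := heA.coord_smul le_rfl (SecTwist.val σ A)
      rw [mres_self] at this
      exact ⟨_, this.symm⟩
    refine ⟨A, hAaff, hxA, ?_⟩
    rw [genLocus_inf_eq_basicOpen σ heA g hg]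
    exact (hAaff.basicOpen g).isCompact
  choose A hAaff hxA hAc using hex
  obtain ⟨T, hT⟩ := CompactSpace.elim_nhds_subcover (fun x => (A x : Set X))
    (fun x => (A x).isOpen.mem_nhds (hxA x))
  have heq : ((CohB1.genLocus N σ : X.Opens) : Set X) =
      ⋃ x ∈ T, ((CohB1.genLocus N σ ⊓ A x : X.Opens) : Set X) := by
    ext p
    simp only [Set.mem_iUnion, SetLike.mem_coe, Opens.coe_inf, Set.mem_inter_iff, exists_prop]
    constructor
    · intro hp
      have : p ∈ ⋃ x ∈ T, (A x : Set X) := hT ▸ Set.mem_univ p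
      simp only [Set.mem_iUnion, SetLike.mem_coe, exists_prop] at this
      obtain ⟨x, hxT, hpx⟩ := this
      exact ⟨x, hxT, hp, hpx⟩
    · rintro ⟨x, -, hp, -⟩
      exact hp
  rw [heq]
  exact T.finite_toSet.isCompact_biUnion (fun x _ => hAc x)

/-- key step of EGA II 4.6.13 (ii) -/
theorem exists_isAmple_tensorMod_tensorPow [CompactSpace X] {L M : X.Modules}
    (hL : PicF.IsInvertible L) (hM : PicF.IsInvertible M) {ι : Type*} (m : ι → ℕ)
    (t : ∀ i, Coh.structureModule X ⟶ CohB1.tensorPow M (m i + 1))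
    (hcov : ∀ x : X, ∃ i, x ∈ CohB1.genLocus _ (t i))
    (hA : ∀ i, CohB1.IsAmple (L.restrict (CohB1.genLocus _ (t i)).ι)) :
    ∃ n₀ : ℕ, ∀ n, n₀ ≤ n → CohB1.IsAmple (CohB1.tensorMod L (CohB1.tensorPow M n)) := by
  classical
  have hNinv : ∀ i, PicF.IsInvertible (CohB1.tensorPow M (m i + 1)) :=
    fun i => isInvertible_tensorPow hM _
  haveI : QuasiSeparatedSpace X := by
    refine quasiSeparatedSpace_of_qs_cover (fun i => CohB1.genLocus _ (t i)) hcov (fun i => ?_)
      (fun i j => ?_)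
    · have hq : QuasiSeparatedSpace ↥(CohB1.genLocus _ (t i) : Scheme.{u}) :=
        quasiSeparatedSpace_of_cover (hA i).1 (hA i).2.2
      exact (isQuasiSeparated_iff_quasiSeparatedSpace _ (CohB1.genLocus _ (t i)).isOpen).2 hq
    · rw [← Groth.Agent.S15745.result X _ _ (hNinv i) (hNinv j) (t i) (t j)]
      exact isCompact_genLocus (isInvertible_tensorMod (hNinv i) (hNinv j)) _
  obtain ⟨𝔘, e, e', he, he'⟩ := exists_common_cover hL hM
  have hc := hasCocycle_cocycleOf 𝔘 he
  have hd := hasCocycle_cocycleOf 𝔘 he'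
  -- the local statement
  have hloc : ∀ x : X, ∃ (W : X.Opens) (e₀ : ℕ), x ∈ W ∧ IsAffineOpen W ∧ ∀ n, e₀ ≤ n →
      ∃ (q : ℕ) (b : Coh.structureModule X ⟶
        CohB1.tensorPow (CohB1.tensorMod L (CohB1.tensorPow M n)) (q + 1)),
        CohB1.genLocus _ b = W := by
    intro x
    obtain ⟨i, hxi⟩ := hcov x
    obtain ⟨k, s', hz, haff⟩ := (hA i).2.2 ⟨x, hxi⟩
    obtain ⟨s, hs⟩ := (exists_transfer_restrict_tensorPow hL _ (k + 1)).2 s'
    obtain ⟨m', a, ha⟩ := exists_section_of_restrict_genLocus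
      (isInvertible_tensorPow hL (k + 1)) (hNinv i) (t i) s
    have h𝓐 : PicF.IsInvertible (CohB1.tensorMod (CohB1.tensorMod (CohB1.tensorPow L (k + 1))
        (CohB1.tensorPow (CohB1.tensorPow M (m i + 1)) m')) (CohB1.tensorPow M (m i + 1))) :=
      isInvertible_tensorMod (isInvertible_tensorMod (isInvertible_tensorPow hL (k + 1))
        (isInvertible_tensorPow (hNinv i) m')) (hNinv i)
    have hWle : (CohB1.genLocus _ (t i)).ι ''ᵁ CohB1.genLocus _ s ≤ CohB1.genLocus _ (t i) :=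
      image_ι_le _ _
    refine ⟨(CohB1.genLocus _ (t i)).ι ''ᵁ CohB1.genLocus _ s, (m i + 1) * (m' + 1) + 1,
      ⟨⟨x, hxi⟩, hs ▸ hz, rfl⟩, (hs ▸ haff).image_of_isOpenImmersion _, fun n hn => ?_⟩
    obtain ⟨j, hj⟩ : ∃ j, n * (k + 1) = (m i + 1) * (m' + 1) + (j + 1) := by
      have h1 : (m i + 1) * (m' + 1) + 1 ≤ n * (k + 1) :=
        hn.trans (Nat.le_mul_of_pos_right n (Nat.succ_pos k))
      exact ⟨n * (k + 1) - ((m i + 1) * (m' + 1) + 1), by omega⟩
    have g1 := genLocus_powHom h𝓐 a (Nat.succ_pos (m i))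
    have g2 := genLocus_powHom (hNinv i) (t i) (Nat.succ_pos j)
    have g3 : CohB1.genLocus _ (SecTwist.tmulHom (SecTwist.powHom a (m i + 1))
        (SecTwist.powHom (t i) (j + 1))) =
        (CohB1.genLocus _ (t i)).ι ''ᵁ CohB1.genLocus _ s := by
      rw [Groth.Agent.S15745.result X _ _ (isInvertible_tensorPow h𝓐 _)
        (isInvertible_tensorPow (hNinv i) _), g1, g2, ha]
      exact inf_eq_left.2 hWle
    have w₁ := ((((hc.lpow (k + 1)).tmul ((hd.lpow (m i + 1)).lpow m')).tmul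
      (hd.lpow (m i + 1))).lpow (m i + 1)).tmul ((hd.lpow (m i + 1)).lpow (j + 1))
    have w₂ := (hc.tmul (hd.lpow n)).lpow (k * (m i + 1) + m i + 1)
    have hcoc : ((cocycleOf 𝔘 he ^ (k + 1) * (cocycleOf 𝔘 he' ^ (m i + 1)) ^ m') *
        cocycleOf 𝔘 he' ^ (m i + 1)) ^ (m i + 1) * (cocycleOf 𝔘 he' ^ (m i + 1)) ^ (j + 1) =
        (cocycleOf 𝔘 he * cocycleOf 𝔘 he' ^ n) ^ (k * (m i + 1) + m i + 1) := by
      have hexp : (m i + 1) * m' * (m i + 1) + (m i + 1) * (m i + 1) + (m i + 1) * (j + 1) =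
          n * (k * (m i + 1) + m i + 1) := by
        have h2 : k * (m i + 1) + m i + 1 = (k + 1) * (m i + 1) := by ring
        rw [h2, ← mul_assoc, hj]
        ring
      rw [mul_pow, mul_pow, mul_pow, ← pow_mul, ← pow_mul, ← pow_mul, ← pow_mul, ← pow_mul,
        ← pow_mul, mul_assoc, mul_assoc, ← pow_add, ← pow_add]
      have hB : (m i + 1) * (m' * (m i + 1)) + ((m i + 1) * (m i + 1) + (m i + 1) * (j + 1)) =
          n * (k * (m i + 1) + m i + 1) := by
        rw [← hexp]; ring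
      rw [hB]
      congr 2
      ring
    rw [hcoc] at w₁
    obtain ⟨b, -, hb⟩ := w₁.exists_transfer w₂ (SecTwist.tmulHom (SecTwist.powHom a (m i + 1))
      (SecTwist.powHom (t i) (j + 1)))
    exact ⟨k * (m i + 1) + m i, b, hb.trans g3⟩
  choose W e₀ hxW hWaff hW using hloc
  obtain ⟨T, hT⟩ := CompactSpace.elim_nhds_subcover (fun x => (W x : Set X))
    (fun x => (W x).isOpen.mem_nhds (hxW x))
  refine ⟨T.sup e₀, fun n hn => ⟨isInvertible_tensorMod hL (isInvertible_tensorPow hM n),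
    inferInstance, fun x => ?_⟩⟩
  have : x ∈ ⋃ y ∈ T, (W y : Set X) := hT ▸ Set.mem_univ x
  simp only [Set.mem_iUnion, SetLike.mem_coe, exists_prop] at this
  obtain ⟨y, hyT, hxy⟩ := this
  obtain ⟨q, b, hb⟩ := hW y n ((Finset.le_sup hyT).trans hn)
  exact ⟨q, b, hb ▸ hxy, hb ▸ hWaff y⟩

end Groth.Agent.H18.STL
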