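import Groth.Agent.H18.STL.BasicOpenCover

/-!
# Extending sections from `X_t` after twisting by the invertible module of `t` (helper18)

General form of `exists_section_of_restrict_basicOpen`: `t` is a section of an arbitrary invertible
module `N` instead of a function.
-/

set_option autoImplicit false
universe u
open CategoryTheory CategoryTheory.Limits AlgebraicGeometry TopologicalSpace Opposite TensorProduct

namespace Groth.Agent.H18.STL

open Groth.Agent.H18 Groth.Agent.H18.PUP

variable {X : Scheme.{u}}

/-- a section `s` of `F|_{X_t}` extends, after multiplication by a power of `t`, to a global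
section of `F ⊗ N^m ⊗ N` whose locus of generation is the locus of generation of `s` -/
theorem exists_section_of_restrict_genLocus [CompactSpace X] [QuasiSeparatedSpace X]
    {F N : X.Modules} (hF : PicF.IsInvertible F) (hN : PicF.IsInvertible N)
    (t : Coh.structureModule X ⟶ N)
    (s : Coh.structureModule (CohB1.genLocus N t : Scheme.{u}) ⟶
      F.restrict (CohB1.genLocus N t).ι) :
    ∃ (m : ℕ) (a : Coh.structureModule X ⟶
        CohB1.tensorMod (CohB1.tensorMod F (CohB1.tensorPow N m)) N),
      CohB1.genLocus _ a = (CohB1.genLocus N t).ι ''ᵁ CohB1.genLocus _ s := by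
  haveI := isQuasicoherent_of_isInvertible hF
  have hGle : CohB1.genLocus N t ≤ (CohB1.genLocus N t).ι ''ᵁ ⊤ := by
    rw [Scheme.Opens.ι_image_top]
  obtain ⟨m, -, t', ht'⟩ := exists_extension hN t F
    (mres F hGle (show Γ(F, (CohB1.genLocus N t).ι ''ᵁ ⊤) from SecTwist.val s ⊤))
  have hM₁inv : PicF.IsInvertible (CohB1.tensorMod F (CohB1.tensorPow N m)) :=
    isInvertible_tensorMod hF (isInvertible_tensorPow hN m)
  have h2 := Groth.Agent.S15745.result X _ _ hM₁inv hN (sectionHom _ t') t
  have claim : CohB1.genLocus _ (sectionHom (CohB1.tensorMod F (CohB1.tensorPow N m)) t') ⊓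
        CohB1.genLocus N t = (CohB1.genLocus N t).ι ''ᵁ CohB1.genLocus _ s := by
    have key : ∀ (z : (CohB1.genLocus N t : Scheme.{u})),
        ((CohB1.genLocus N t).ι z ∈ CohB1.genLocus _ (sectionHom (CohB1.tensorMod F
          (CohB1.tensorPow N m)) t') ↔ z ∈ CohB1.genLocus _ s) := by
      intro z
      have hyG : (CohB1.genLocus N t).ι z ∈ CohB1.genLocus N t := z.2
      rw [mem_genLocus_iff_isGenAt _ hyG, val_sectionHom, ht',
        isGenAt_twist_iff hN hF t m le_rfl _ hyG, isGenAt_mres_iff hGle _ hyG]
      refine Iff.trans ?_ (mem_genLocus_iff_isGenAt s (W := ⊤) (x := z) trivial).symm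
      exact (isGenAt_restrict_iff (CohB1.genLocus N t).ι (V' := ⊤)
        (show Γ(F, (CohB1.genLocus N t).ι ''ᵁ ⊤) from SecTwist.val s ⊤) (z := z)).symm
    ext y
    constructor
    · rintro ⟨hyb, hyG⟩
      exact ⟨⟨y, hyG⟩, (key ⟨y, hyG⟩).1 hyb, rfl⟩
    · rintro ⟨z, hz, rfl⟩
      exact ⟨(key z).2 hz, z.2⟩
  exact ⟨m, SecTwist.tmulHom (sectionHom _ t') t, h2.trans claim⟩

end Groth.Agent.H18.STL
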